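import Mathlib.GroupTheory.Solvable
import Mathlib.GroupTheory.Nilpotent
import Mathlib.GroupTheory.Sylow
import Mathlib.GroupTheory.PGroup
import Mathlib.GroupTheory.Frattini
import Mathlib.GroupTheory.Coset.Basic
import Mathlib.GroupTheory.Abelianization.Defs
import Mathlib.GroupTheory.Perm.Cycle.Type

/-!
# Coprime action

Fixed points in invariant cosets, Glauberman's lemma, invariant Sylow subgroups,
fixed points on quotients, commutators `[G,A]`.
-/

namespace CfsgLib.Coprime

open MulAction

universe u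

variable {G : Type*} [Group G]

/-- A finite invariant set whose cardinality is prime to `q` has a point fixed by `a`,
provided `a ^ q` fixes it pointwise. -/
theorem exists_smul_eq_of_pow_prime {A X : Type*} [Group A] [MulAction A X] (a : A) {q : ℕ}
    (hq : q.Prime) {S : Set X} (hfin : S.Finite) (hS : ∀ x ∈ S, a • x ∈ S)
    (hS' : ∀ x ∈ S, a⁻¹ • x ∈ S) (hpow : ∀ x ∈ S, a ^ q • x = x) (hcard : ¬ q ∣ S.ncard) :
    ∃ x ∈ S, a • x = x := by
  classical
  have : Fact q.Prime := ⟨hq⟩
  have := hfin.to_subtype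
  have := Fintype.ofFinite S
  let σ : Equiv.Perm S :=
    { toFun := fun x => ⟨a • (x : X), hS x x.2⟩
      invFun := fun x => ⟨a⁻¹ • (x : X), hS' x x.2⟩
      left_inv := fun x => by ext; simp
      right_inv := fun x => by ext; simp }
  have hσn : ∀ n : ℕ, ∀ x : S, (((σ ^ n) x : S) : X) = a ^ n • (x : X) := by
    intro n
    induction n with
    | zero => intro x; simp
    | succ n ih =>
      intro x
      rw [pow_succ', pow_succ', Equiv.Perm.mul_apply, mul_smul, ← ih x]
      rfl
  have hσ : σ ^ q ^ 1 = 1 := by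
    ext x
    rw [pow_one, hσn, hpow x x.2]
    rfl
  obtain ⟨x, hx⟩ := Equiv.Perm.exists_fixed_point_of_prime (p := q) (α := S)
    (by rwa [← Nat.card_eq_fintype_card, Nat.card_coe_set_eq]) hσ
  exact ⟨x, x.2, congrArg Subtype.val hx⟩

section Solvable

/-- In a nontrivial finite solvable group there is a normal subgroup of prime index. -/
theorem exists_normal_prime_index {A : Type*} [Group A] [Finite A] [Group.IsSolvable A]
    [Nontrivial A] : ∃ K : Subgroup A, K.Normal ∧ ∃ q : ℕ, q.Prime ∧ K.index = q := by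
  classical
  have hlt : commutator A < ⊤ := Group.IsSolvable.commutator_lt_top_of_nontrivial A
  obtain ⟨K, hK, hle⟩ := (eq_top_or_exists_le_coatom (commutator A)).resolve_left hlt.ne
  have hn : K.Normal := ⟨fun k hk g => by
    have hc : g * k * g⁻¹ * k⁻¹ ∈ commutator A :=
      Subgroup.commutator_mem_commutator (Subgroup.mem_top g) (Subgroup.mem_top k)
    have := K.mul_mem (hle hc) hk
    simpa using this⟩
  refine ⟨K, hn, ?_⟩
  have hne1 : K.index ≠ 1 := fun h => hK.1 (Subgroup.index_eq_one.1 h)
  set q := K.index.minFac with hqdef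
  have hq : q.Prime := Nat.minFac_prime hne1
  have : Fact q.Prime := ⟨hq⟩
  obtain ⟨x, hx⟩ := exists_prime_orderOf_dvd_card' (G := A ⧸ K) q (Nat.minFac_dvd _)
  refine ⟨q, hq, ?_⟩
  have hlt2 : K < (Subgroup.zpowers x).comap (QuotientGroup.mk' K) := by
    refine lt_of_le_of_ne (fun k hk => ?_) (fun h => ?_)
    · simp [(QuotientGroup.eq_one_iff k).2 hk]
    · obtain ⟨y, rfl⟩ := QuotientGroup.mk'_surjective K x
      have hy : y ∈ K := by rw [h]; exact Subgroup.mem_zpowers _
      rw [QuotientGroup.mk'_apply, (QuotientGroup.eq_one_iff y).2 hy, orderOf_one] at hx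
      exact hq.one_lt.ne hx
  have htop := hK.2 _ hlt2
  have : Subgroup.zpowers x = ⊤ := by
    rw [← Subgroup.map_comap_eq_self_of_surjective (QuotientGroup.mk'_surjective K)
      (Subgroup.zpowers x), htop, Subgroup.map_top_of_surjective _ (QuotientGroup.mk'_surjective K)]
  rw [Subgroup.index, ← Subgroup.card_top, ← this, Nat.card_zpowers, hx]

end Solvable

section Fixed

variable (A : Type*) [Group A] [MulDistribMulAction A G]

/-- `f a = g⁻¹ * (a • g)` is a cocycle. -/
theorem inv_mul_smul_mul {A : Type*} [Group A] [MulDistribMulAction A G] (g : G) (a b : A) :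
    g⁻¹ * ((a * b) • g) = g⁻¹ * (a • g) * (a • (g⁻¹ * (b • g))) := by
  simp [smul_mul', mul_smul, mul_assoc]

/-- A subgroup invariant under the action. -/
def IsInvariant (N : Subgroup G) : Prop := ∀ a : A, ∀ n ∈ N, a • n ∈ N

theorem IsInvariant.top : IsInvariant A (⊤ : Subgroup G) := fun _ _ _ => Subgroup.mem_top _

theorem IsInvariant.bot : IsInvariant A (⊥ : Subgroup G) := fun a n hn => by
  rw [Subgroup.mem_bot] at hn ⊢; simp [hn]

theorem isInvariant_fixedPoints : IsInvariant A (FixedPoints.subgroup A G) := fun a n hn => by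
  simpa [hn a] using hn

variable {A}

theorem smul_subgroup_mem_iff {N : Subgroup G} (hN : IsInvariant A N) (a : A) (x : G) :
    a • x ∈ N ↔ x ∈ N :=
  ⟨fun h => by simpa using hN a⁻¹ _ h, hN a x⟩

/-- Fixed point in an invariant coset: solvable acting group, arbitrary invariant subgroup. -/
theorem exists_fixed_mem_coset_of_isSolvable [Finite A] [Group.IsSolvable A] (N : Subgroup G)
    [Finite N] (hN : IsInvariant A N) (hcop : (Nat.card A).Coprime (Nat.card N)) (g : G)
    (hg : ∀ a : A, g⁻¹ * a • g ∈ N) :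
    ∃ c : G, (∀ a : A, a • c = c) ∧ g⁻¹ * c ∈ N := by
  suffices h : ∀ (n : ℕ) (B : Subgroup A), Nat.card B ≤ n →
      ∃ c : G, (∀ b ∈ B, b • c = c) ∧ g⁻¹ * c ∈ N by
    obtain ⟨c, hc, hc'⟩ := h (Nat.card A) ⊤ (by rw [Subgroup.card_top])
    exact ⟨c, fun a => hc a (Subgroup.mem_top a), hc'⟩
  intro n
  induction n with
  | zero => intro B hB; exact absurd hB (by simpa using Nat.card_pos (α := B).ne')
  | succ n ih =>
    intro B hB
    rcases eq_or_ne B ⊥ with rfl | hB1
    · exact ⟨g, fun b hb => by rw [Subgroup.mem_bot] at hb; simp [hb], by simp⟩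
    have : Nontrivial B := B.nontrivial_iff_ne_bot.2 hB1
    obtain ⟨K, hKn, q, hq, hKi⟩ := exists_normal_prime_index (A := B)
    obtain ⟨c₀, hc₀, hc₀'⟩ := ih (K.map B.subtype) (by
      rw [Subgroup.card_map_of_injective B.subtype_injective]
      have h1 := K.card_mul_index
      rw [hKi] at h1
      have h2 := hq.two_le
      have h3 : Nat.card K * 2 ≤ Nat.card B := h1 ▸ Nat.mul_le_mul_left _ h2
      have h4 := Nat.card_pos (α := K)
      omega)
    obtain ⟨b₀, hb₀⟩ : ∃ b₀ : B, b₀ ∉ K := by
      by_contra! h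
      exact hq.one_lt.ne' (hKi ▸ Subgroup.index_eq_one.2 (eq_top_iff.2 fun x _ => h x))
    let F : Subgroup G := FixedPoints.subgroup (K.map B.subtype) G
    let M : Subgroup G := N ⊓ F
    let S : Set G := (fun m => c₀ * m) '' (M : Set G)
    have hMfin : (M : Set G).Finite := Set.Finite.subset (Set.toFinite (N : Set G)) inf_le_left
    have hSmem : ∀ x : G, x ∈ S ↔ g⁻¹ * x ∈ N ∧ ∀ k ∈ K.map B.subtype, k • x = x := by
      intro x
      constructor
      · rintro ⟨m, ⟨hm1, hm2⟩, rfl⟩
        refine ⟨?_, fun k hk => ?_⟩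
        · simpa [mul_assoc] using N.mul_mem hc₀' hm1
        · rw [smul_mul', hc₀ k hk]
          congr 1
          exact hm2 ⟨k, hk⟩
      · rintro ⟨h1, h2⟩
        refine ⟨c₀⁻¹ * x, ⟨?_, fun k => ?_⟩, by simp⟩
        · have := N.mul_mem (N.inv_mem hc₀') h1
          simpa [mul_assoc] using this
        · change (k : A) • (c₀⁻¹ * x) = c₀⁻¹ * x
          rw [smul_mul', smul_inv', hc₀ _ k.2, h2 _ k.2]
    have hstab : ∀ b : B, ∀ x ∈ S, (b : A) • x ∈ S := by
      intro b x hx
      rw [hSmem] at hx ⊢
      refine ⟨?_, ?_⟩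
      · have h1 := hN b _ hx.1
        rw [smul_mul', smul_inv'] at h1
        simpa [mul_assoc] using N.mul_mem (hg b) h1
      · rintro _ ⟨k, hk, rfl⟩
        have := hx.2 _ ⟨_, hKn.conj_mem k hk b⁻¹, rfl⟩
        simp only [Subgroup.subtype_apply, Subgroup.coe_mul, Subgroup.coe_inv, inv_inv] at this ⊢
        rw [mul_smul, mul_smul, inv_smul_eq_iff] at this
        exact this
    have hScard : S.ncard = Nat.card M := by
      rw [Set.ncard_image_of_injective _ (mul_right_injective c₀)]
      exact (Nat.card_coe_set_eq _).symm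
    obtain ⟨x, hxS, hx⟩ := exists_smul_eq_of_pow_prime (b₀ : A) hq (hMfin.image _)
      (hstab b₀) (fun x hx => hstab b₀⁻¹ x hx)
      (fun x hx => ((hSmem x).1 hx).2 _ ⟨b₀ ^ q, hKi ▸ K.pow_index_mem b₀, by simp⟩)
      (by
        rw [hScard]
        intro hdvd
        have h1 : q ∣ Nat.card N := hdvd.trans (Subgroup.card_dvd_of_le inf_le_left)
        have h2 : q ∣ Nat.card A :=
          (hKi ▸ K.index_dvd_card).trans B.card_subgroup_dvd_card
        exact hq.not_dvd_one (hcop ▸ Nat.dvd_gcd h2 h1))
    refine ⟨x, fun b hb => ?_, ((hSmem x).1 hxS).1⟩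
    have hall : ((⊤ : Subgroup B).map B.subtype) ≤ MulAction.stabilizer A x := by
      have hle : K ≤ (MulAction.stabilizer A x).comap B.subtype := fun k hk =>
        ((hSmem x).1 hxS).2 _ ⟨k, hk, rfl⟩
      have hdvd := Subgroup.index_dvd_of_le hle
      rw [hKi, Nat.dvd_prime hq] at hdvd
      rcases hdvd with h | h
      · rw [Subgroup.index_eq_one.1 h |>.symm]
        exact Subgroup.map_comap_le _ _
      · exfalso
        have heq : K = (MulAction.stabilizer A x).comap B.subtype := by
          have h1 := Subgroup.relIndex_mul_index hle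
          rw [h, hKi] at h1
          exact le_antisymm hle (Subgroup.relIndex_eq_one.1
            ((Nat.mul_eq_right hq.ne_zero).1 h1))
        exact hb₀ (heq ▸ hx)
    exact MulAction.mem_stabilizer_iff.1 (hall ⟨⟨b, hb⟩, Subgroup.mem_top _, rfl⟩)

/-- Fixed point in an invariant coset of an abelian invariant subgroup (averaging). -/
theorem exists_mem_abelian_step [Finite A] (N : Subgroup G)
    [Finite N] (hN : IsInvariant A N) (hcop : (Nat.card A).Coprime (Nat.card N)) (g : G)
    (hg : ∀ a : A, g⁻¹ * a • g ∈ N) :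
    ∃ g' : G, g⁻¹ * g' ∈ N ∧ ∀ a : A, g'⁻¹ * a • g' ∈ ⁅N, N⁆ := by
  classical
  have := Fintype.ofFinite A
  let act : A → (N →* Abelianization N) := fun a =>
    Abelianization.of.comp (MonoidHom.mk' (fun n : N => (⟨a • (n : G), hN a n n.2⟩ : N))
      fun x y => Subtype.ext (smul_mul' a (x : G) y))
  let f : A → N := fun a => ⟨g⁻¹ * a • g, hg a⟩
  have hf : ∀ a b, Abelianization.of (f (a * b)) = Abelianization.of (f a) * act a (f b) := by
    intro a b
    rw [show act a (f b) = Abelianization.of (⟨a • (f b : G), hN a _ (f b).2⟩ : N) from rfl,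
      ← map_mul]
    exact congrArg _ (Subtype.ext (inv_mul_smul_mul g a b))
  have hprod : ∀ a, ∏ b, Abelianization.of (f b) =
      Abelianization.of (f a) ^ Fintype.card A * ∏ b, act a (f b) := by
    intro a
    rw [← Finset.card_univ, ← Finset.prod_const, ← Finset.prod_mul_distrib]
    refine (Equiv.prod_comp (Equiv.mulLeft a) (fun c => Abelianization.of (f c))).symm.trans ?_
    exact Finset.prod_congr rfl fun b _ => hf a b
  have hcop' : (Nat.card (Abelianization N)).Coprime (Fintype.card A) := by
    rw [← Nat.card_eq_fintype_card]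
    exact (hcop.coprime_dvd_right (Subgroup.card_quotient_dvd_card _)).symm
  obtain ⟨Q, hQ⟩ := (powCoprime hcop').surjective (∏ b, Abelianization.of (f b))
  obtain ⟨x, rfl⟩ : ∃ x, Abelianization.of x = Q := QuotientGroup.mk_surjective Q
  refine ⟨g * x, by simp, fun a => ?_⟩
  have hact : (∏ b, act a (f b)) = (act a x) ^ Fintype.card A := by
    let φ : Abelianization N →* Abelianization N := Abelianization.lift (act a)
    have h1 : ∀ n, φ (Abelianization.of n) = act a n := fun n => Abelianization.lift_apply_of (act a) n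
    calc ∏ b, act a (f b) = φ (∏ b, Abelianization.of (f b)) := by simp [map_prod, h1]
      _ = _ := by rw [← hQ, powCoprime_apply, map_pow, h1]
  have h2 := hprod a
  rw [hact, ← mul_pow, ← hQ, powCoprime_apply] at h2
  have h3 : Abelianization.of x = Abelianization.of (f a) * act a x :=
    (powCoprime hcop').injective h2
  have h4 : Abelianization.of (x⁻¹ * f a * ⟨a • (x : G), hN a _ x.2⟩) = 1 := by
    rw [map_mul, map_mul, map_inv, mul_assoc, ← show act a x = Abelianization.of
      (⟨a • (x : G), hN a _ x.2⟩ : N) from rfl, ← h3, inv_mul_cancel]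
  have h5 : (x⁻¹ * f a * ⟨a • (x : G), hN a _ x.2⟩ : N) ∈ commutator N :=
    (QuotientGroup.eq_one_iff _).1 h4
  rw [← Subgroup.map_subtype_commutator]
  refine ⟨_, h5, ?_⟩
  simp [f, smul_mul', mul_assoc]

theorem IsInvariant.commutator {N : Subgroup G} (hN : IsInvariant A N) :
    IsInvariant A ⁅N, N⁆ := by
  intro a n hn
  have h : ⁅N, N⁆ ≤ (⁅N, N⁆ : Subgroup G).comap (MulDistribMulAction.toMonoidHom G a) := by
    rw [Subgroup.commutator_le]
    intro x hx y hy
    rw [Subgroup.mem_comap, map_commutatorElement]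
    exact Subgroup.commutator_mem_commutator (hN a x hx) (hN a y hy)
  exact h hn

/-- Fixed point in an invariant coset: solvable invariant subgroup, arbitrary acting group. -/
theorem exists_fixed_mem_coset_of_isSolvable' [Finite A] (N : Subgroup G) [Finite N]
    [Group.IsSolvable N] (hN : IsInvariant A N) (hcop : (Nat.card A).Coprime (Nat.card N)) (g : G)
    (hg : ∀ a : A, g⁻¹ * a • g ∈ N) :
    ∃ c : G, (∀ a : A, a • c = c) ∧ g⁻¹ * c ∈ N := by
  suffices h : ∀ (n : ℕ) (M : Subgroup G), Nat.card M ≤ n → M ≤ N → IsInvariant A M →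
      ∀ g : G, (∀ a : A, g⁻¹ * a • g ∈ M) → ∃ c : G, (∀ a : A, a • c = c) ∧ g⁻¹ * c ∈ M by
    exact h (Nat.card N) N le_rfl le_rfl hN g hg
  intro n
  induction n with
  | zero =>
    intro M hM hMN
    have : Finite M := Finite.of_injective _ (Subgroup.inclusion_injective hMN)
    exact absurd hM (by simpa using (Nat.card_pos (α := M)).ne')
  | succ n ih =>
    intro M hM hMN hMinv g hg
    rcases eq_or_ne M ⊥ with rfl | hM1
    · refine ⟨g, fun a => ?_, by simp⟩
      simpa [inv_mul_eq_one, eq_comm] using hg a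
    have : Finite M := Finite.of_injective _ (Subgroup.inclusion_injective hMN)
    have : Group.IsSolvable M :=
      Group.isSolvable_of_isSolvable_injective (Subgroup.inclusion_injective hMN)
    have : Nontrivial M := M.nontrivial_iff_ne_bot.2 hM1
    obtain ⟨g', hg', hg''⟩ := exists_mem_abelian_step M hMinv
      (hcop.coprime_dvd_right (Subgroup.card_dvd_of_le hMN)) g hg
    have hlt : ⁅M, M⁆ < M := by
      rw [← Subgroup.map_subtype_commutator M]
      conv_rhs => rw [← M.range_subtype, MonoidHom.range_eq_map]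
      exact (Subgroup.map_lt_map_iff_of_injective M.subtype_injective).2
        (Group.IsSolvable.commutator_lt_top_of_nontrivial M)
    obtain ⟨c, hc, hc'⟩ := ih ⁅M, M⁆ (by
        have hlt' : Nat.card (⁅M, M⁆ : Subgroup G) < Nat.card M := by
          rw [← SetLike.coe_sort_coe, ← SetLike.coe_sort_coe, Nat.card_coe_set_eq,
            Nat.card_coe_set_eq]
          exact Set.ncard_lt_ncard (SetLike.coe_ssubset_coe.2 hlt) (Set.toFinite (M : Set G))
        omega) (hlt.le.trans hMN) hMinv.commutator g' hg''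
    refine ⟨c, hc, ?_⟩
    simpa [mul_assoc] using M.mul_mem hg' (hlt.le hc')

end Fixed

section Corollaries

variable {A : Type*} [Group A] [MulDistribMulAction A G]

/-- If the acting group is trivial on an invariant subgroup and on its cosets and the orders are
coprime, it acts trivially (no solvability needed). -/
theorem smul_eq_self_of_stabilizes [Finite A] (N : Subgroup G) [Finite N]
    (hcop : (Nat.card A).Coprime (Nat.card N)) (g : G) (hg : ∀ a : A, g⁻¹ * a • g ∈ N)
    (htriv : ∀ (a : A), ∀ n ∈ N, a • n = n) (a : A) : a • g = g := by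
  let φ : A →* N := MonoidHom.mk' (fun a => (⟨g⁻¹ * a • g, hg a⟩ : N)) fun a b =>
    Subtype.ext (by
      change g⁻¹ * (a * b) • g = g⁻¹ * a • g * (g⁻¹ * b • g)
      rw [inv_mul_smul_mul, htriv a _ (hg b)])
  have h1 : orderOf (φ a) ∣ Nat.card A := (orderOf_map_dvd φ a).trans (orderOf_dvd_natCard a)
  have h2 : orderOf (φ a) ∣ Nat.card N := orderOf_dvd_natCard _
  have h3 : φ a = 1 := orderOf_eq_one_iff.1 (Nat.eq_one_of_dvd_coprimes hcop h1 h2)
  exact (inv_mul_eq_one.1 (congrArg Subtype.val h3 : g⁻¹ * a • g = 1)).symm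

/-- **Glauberman's lemma** (solvable acting group): compatible coprime actions, transitive group. -/
theorem exists_fixed_point_of_transitive {X : Type*} [MulAction G X] [MulAction A X] [Finite A]
    [Group.IsSolvable A] [Finite G] (hcompat : ∀ (a : A) (g : G) (x : X), a • (g • x) = (a • g) • (a • x))
    (hcop : (Nat.card A).Coprime (Nat.card G)) (htr : MulAction.IsPretransitive G X) [Nonempty X] :
    ∃ x : X, ∀ a : A, a • x = x := by
  suffices h : ∀ (n : ℕ) (B : Subgroup A), Nat.card B ≤ n → ∃ x : X, ∀ b ∈ B, b • x = x by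
    obtain ⟨x, hx⟩ := h (Nat.card A) ⊤ (by rw [Subgroup.card_top])
    exact ⟨x, fun a => hx a (Subgroup.mem_top a)⟩
  intro n
  induction n with
  | zero => intro B hB; exact absurd hB (by simpa using Nat.card_pos (α := B).ne')
  | succ n ih =>
    intro B hB
    rcases eq_or_ne B ⊥ with rfl | hB1
    · obtain ⟨x⟩ := ‹Nonempty X›
      exact ⟨x, fun b hb => by rw [Subgroup.mem_bot] at hb; simp [hb]⟩
    have : Nontrivial B := B.nontrivial_iff_ne_bot.2 hB1
    obtain ⟨K, hKn, q, hq, hKi⟩ := exists_normal_prime_index (A := B)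
    let K' := K.map B.subtype
    obtain ⟨x₀, hx₀⟩ := ih K' (by
      rw [Subgroup.card_map_of_injective B.subtype_injective]
      have h1 := K.card_mul_index
      rw [hKi] at h1
      have h3 : Nat.card K * 2 ≤ Nat.card B := h1 ▸ Nat.mul_le_mul_left _ hq.two_le
      have h4 := Nat.card_pos (α := K)
      omega)
    obtain ⟨b₀, hb₀⟩ : ∃ b₀ : B, b₀ ∉ K := by
      by_contra! h
      exact hq.one_lt.ne' (hKi ▸ Subgroup.index_eq_one.2 (eq_top_iff.2 fun x _ => h x))
    let C : Subgroup G := FixedPoints.subgroup K' G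
    let S : Set X := MulAction.orbit C x₀
    have hSfix : ∀ x ∈ S, ∀ k ∈ K', k • x = x := by
      rintro _ ⟨⟨c, hc⟩, rfl⟩ k hk
      change k • (c • x₀) = c • x₀
      rw [hcompat, hx₀ k hk]
      exact congrArg (· • x₀) (hc ⟨k, hk⟩)
    have hfixS : ∀ x : X, (∀ k ∈ K', k • x = x) → x ∈ S := by
      intro x hx
      obtain ⟨g, rfl⟩ := htr.exists_smul_eq x₀ x
      let H : Subgroup G := MulAction.stabilizer G x₀
      obtain ⟨c, hc, hc'⟩ := exists_fixed_mem_coset_of_isSolvable (A := K') H
        (fun k h hh => by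
          have := hcompat (k : A) h x₀
          rw [MulAction.mem_stabilizer_iff.1 hh, hx₀ _ k.2] at this
          exact this.symm)
        ((hcop.coprime_dvd_left (Subgroup.card_subgroup_dvd_card _)).coprime_dvd_right
          (Subgroup.card_subgroup_dvd_card _)) g
        (fun k => by
          rw [MulAction.mem_stabilizer_iff, mul_smul, inv_smul_eq_iff]
          have := hcompat (k : A) g x₀
          rw [hx₀ _ k.2, hx _ k.2] at this
          exact this.symm)
      refine ⟨⟨c, hc⟩, ?_⟩
      change c • x₀ = g • x₀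
      rw [MulAction.mem_stabilizer_iff, mul_smul, inv_smul_eq_iff] at hc'
      exact hc'
    have hstab : ∀ b : B, ∀ x ∈ S, (b : A) • x ∈ S := by
      intro b x hx
      refine hfixS _ ?_
      rintro _ ⟨k, hk, rfl⟩
      have := hSfix x hx _ ⟨_, hKn.conj_mem k hk b⁻¹, rfl⟩
      simp only [Subgroup.subtype_apply, Subgroup.coe_mul, Subgroup.coe_inv, inv_inv] at this ⊢
      rw [mul_smul, mul_smul, inv_smul_eq_iff] at this
      exact this
    obtain ⟨x, hxS, hx⟩ := exists_smul_eq_of_pow_prime (b₀ : A) hq
      (S := S) (Set.finite_range _) (hstab b₀) (fun x hx => hstab b₀⁻¹ x hx)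
      (fun x hx => hSfix x hx _ ⟨b₀ ^ q, hKi ▸ K.pow_index_mem b₀, by simp⟩)
      (by
        intro hdvd
        have h1 : q ∣ Nat.card G := by
          refine (hdvd.trans ?_).trans (Subgroup.card_subgroup_dvd_card C)
          rw [← MulAction.index_stabilizer]
          exact Subgroup.index_dvd_card _
        have h2 : q ∣ Nat.card A := (hKi ▸ K.index_dvd_card).trans B.card_subgroup_dvd_card
        exact hq.not_dvd_one (hcop ▸ Nat.dvd_gcd h2 h1))
    refine ⟨x, fun b hb => ?_⟩
    have hle : K ≤ (MulAction.stabilizer A x).comap B.subtype := fun k hk =>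
      hSfix x hxS _ ⟨k, hk, rfl⟩
    have hdvd := Subgroup.index_dvd_of_le hle
    rw [hKi, Nat.dvd_prime hq] at hdvd
    rcases hdvd with h | h
    · have : (⟨b, hb⟩ : B) ∈ (MulAction.stabilizer A x).comap B.subtype := by
        rw [Subgroup.index_eq_one.1 h]; exact Subgroup.mem_top _
      exact this
    · exfalso
      have heq : K = (MulAction.stabilizer A x).comap B.subtype := by
        have h1 := Subgroup.relIndex_mul_index hle
        rw [h, hKi] at h1
        exact le_antisymm hle (Subgroup.relIndex_eq_one.1 ((Nat.mul_eq_right hq.ne_zero).1 h1))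
      exact hb₀ (heq ▸ hx)

variable (A G)

/-- `[G, A]`, the subgroup generated by the elements `g⁻¹ * a • g`. -/
def actCommutator : Subgroup G := Subgroup.closure {x : G | ∃ (a : A) (g : G), x = g⁻¹ * a • g}

variable {A G}

theorem inv_mul_smul_mem_actCommutator (a : A) (g : G) : g⁻¹ * a • g ∈ actCommutator G A :=
  Subgroup.subset_closure ⟨a, g, rfl⟩

instance actCommutator_normal : (actCommutator G A).Normal where
  conj_mem n hn h := by
    revert n
    suffices h : actCommutator G A ≤ (actCommutator G A).comap (MulAut.conj h).toMonoidHom from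
      fun n hn => h hn
    rw [actCommutator, Subgroup.closure_le]
    rintro _ ⟨a, g, rfl⟩
    have e : h * (g⁻¹ * a • g) * h⁻¹ =
        ((g * h⁻¹)⁻¹ * a • (g * h⁻¹)) * ((h⁻¹)⁻¹ * a • h⁻¹)⁻¹ := by
      simp [smul_mul', mul_assoc]
    simp only [Subgroup.coe_comap, Set.mem_preimage, MulEquiv.coe_toMonoidHom,
      MulAut.conj_apply, SetLike.mem_coe]
    rw [e]
    exact Subgroup.mul_mem _ (Subgroup.subset_closure ⟨_, _, rfl⟩)
      (Subgroup.inv_mem _ (Subgroup.subset_closure ⟨_, _, rfl⟩))

theorem isInvariant_actCommutator : IsInvariant A (actCommutator G A) := by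
  intro b n hn
  have h : actCommutator G A ≤
      (actCommutator G A).comap (MulDistribMulAction.toMonoidHom G b) := by
    rw [actCommutator, Subgroup.closure_le]
    rintro _ ⟨a, g, rfl⟩
    refine Subgroup.subset_closure ⟨b * a * b⁻¹, b • g, ?_⟩
    simp [MulDistribMulAction.toMonoidHom_apply, smul_mul', mul_smul]
  exact h hn

theorem actCommutator_le_iff {N : Subgroup G} :
    actCommutator G A ≤ N ↔ ∀ (a : A) (g : G), g⁻¹ * a • g ∈ N :=
  ⟨fun h a g => h (inv_mul_smul_mem_actCommutator a g), fun h => by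
    rw [actCommutator, Subgroup.closure_le]; rintro _ ⟨a, g, rfl⟩; exact h a g⟩

theorem actCommutator_eq_bot_iff : actCommutator G A = ⊥ ↔ ∀ (a : A) (g : G), a • g = g := by
  rw [eq_bot_iff, actCommutator_le_iff]
  simp [Subgroup.mem_bot, inv_mul_eq_one, eq_comm]

/-- `G = C_G(A)[G,A]` for a solvable group acting coprimely. -/
theorem exists_fixed_mul_actCommutator [Finite A] [Group.IsSolvable A] [Finite G]
    (hcop : (Nat.card A).Coprime (Nat.card G)) (g : G) :
    ∃ c : G, (∀ a : A, a • c = c) ∧ c⁻¹ * g ∈ actCommutator G A := by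
  obtain ⟨c, hc, hc'⟩ := exists_fixed_mem_coset_of_isSolvable (actCommutator G A)
    isInvariant_actCommutator (hcop.coprime_dvd_right (Subgroup.card_subgroup_dvd_card _)) g
    (fun a => inv_mul_smul_mem_actCommutator a g)
  exact ⟨c, hc, by simpa using Subgroup.inv_mem _ hc'⟩

theorem fixedPoints_sup_actCommutator [Finite A] [Group.IsSolvable A] [Finite G]
    (hcop : (Nat.card A).Coprime (Nat.card G)) :
    FixedPoints.subgroup A G ⊔ actCommutator G A = ⊤ := by
  refine eq_top_iff.2 fun g _ => ?_
  obtain ⟨c, hc, hc'⟩ := exists_fixed_mul_actCommutator (A := A) hcop g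
  rw [← mul_inv_cancel_left c g]
  exact Subgroup.mul_mem _ (Subgroup.mem_sup_left hc) (Subgroup.mem_sup_right hc')

/-- `[G,A,A] = [G,A]`: the generators of `[G,A]` can be taken from `[G,A]` itself. -/
theorem exists_mem_actCommutator_eq [Finite A] [Group.IsSolvable A] [Finite G]
    (hcop : (Nat.card A).Coprime (Nat.card G)) (a : A) (g : G) :
    ∃ y ∈ actCommutator G A, g⁻¹ * a • g = y⁻¹ * a • y := by
  obtain ⟨c, hc, hc'⟩ := exists_fixed_mul_actCommutator (A := A) hcop g
  refine ⟨_, hc', ?_⟩
  simp [smul_mul', hc a, mul_assoc]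

/-- `[G,A,A] = 1` forces the action to be trivial. -/
theorem smul_eq_self_of_trivial_on_actCommutator [Finite A] [Finite G]
    (hcop : (Nat.card A).Coprime (Nat.card G))
    (h : ∀ (a : A), ∀ n ∈ actCommutator G A, a • n = n) (a : A) (g : G) : a • g = g :=
  smul_eq_self_of_stabilizes (actCommutator G A)
    (hcop.coprime_dvd_right (Subgroup.card_subgroup_dvd_card _)) g
    (fun a => inv_mul_smul_mem_actCommutator a g) h a

/-- A coprime action trivial modulo the Frattini subgroup is trivial. -/
theorem smul_eq_self_of_trivial_mod_frattini [Finite A] [Finite G]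
    (hcop : (Nat.card A).Coprime (Nat.card G))
    (h : ∀ (a : A) (g : G), g⁻¹ * a • g ∈ frattini G) (a : A) (g : G) : a • g = g := by
  have hinv : IsInvariant A (frattini G) := fun b n hn => by
    have := Subgroup.characteristic_iff_comap_eq.1 frattini_characteristic
      (MulDistribMulAction.toMulEquiv G b)
    exact (this.symm.le hn : _)
  have hsol : Group.IsSolvable (frattini G) := by
    have := frattini_nilpotent (G := G)
    exact IsNilpotent.to_isSolvable
  have htop : FixedPoints.subgroup A G ⊔ frattini G = ⊤ := by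
    refine eq_top_iff.2 fun x _ => ?_
    obtain ⟨c, hc, hc'⟩ := exists_fixed_mem_coset_of_isSolvable' (frattini G) hinv
      (hcop.coprime_dvd_right (Subgroup.card_subgroup_dvd_card _)) x (fun a => h a x)
    have : c * (x⁻¹ * c)⁻¹ ∈ FixedPoints.subgroup A G ⊔ frattini G :=
      Subgroup.mul_mem _ (Subgroup.mem_sup_left hc)
        (Subgroup.mem_sup_right (Subgroup.inv_mem _ hc'))
    simpa using this
  have hg : g ∈ FixedPoints.subgroup A G := by
    rw [frattini_nongenerating htop]; exact Subgroup.mem_top g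
  exact hg a

end Corollaries

end CfsgLib.Coprime
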