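import Mathlib.GroupTheory.GroupAction.ConjAct
import Mathlib.Algebra.Group.Subgroup.Pointwise
import Cfsg.Agent.Coprime.Basic

/-!
# Coprime action: invariant Sylow subgroups, quotients, abelian groups, internal version
-/

namespace CfsgLib.Coprime

open MulAction
open scoped Pointwise

variable {G : Type*} [Group G] {A : Type*} [Group A] [MulDistribMulAction A G]

theorem IsInvariant.smul_eq {H : Subgroup G} (hH : IsInvariant A H) (a : A) : a • H = H := by
  ext x
  rw [Subgroup.mem_pointwise_smul_iff_inv_smul_mem, smul_subgroup_mem_iff hH]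

theorem isInvariant_of_smul_eq {H : Subgroup G} (hH : ∀ a : A, a • H = H) : IsInvariant A H :=
  fun a _ hn => hH a ▸ Subgroup.smul_mem_pointwise_smul _ a H hn

theorem IsInvariant.inf {H K : Subgroup G} (hH : IsInvariant A H) (hK : IsInvariant A K) :
    IsInvariant A (H ⊓ K) := fun a _ hn => ⟨hH a _ hn.1, hK a _ hn.2⟩

theorem IsInvariant.sup {H K : Subgroup G} (hH : IsInvariant A H) (hK : IsInvariant A K) :
    IsInvariant A (H ⊔ K) := by
  intro a n hn
  have h : H ⊔ K ≤ (H ⊔ K).comap (MulDistribMulAction.toMonoidHom G a) :=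
    sup_le (fun x hx => Subgroup.mem_sup_left (hH a x hx))
      (fun x hx => Subgroup.mem_sup_right (hK a x hx))
  exact h hn

theorem IsInvariant.of_characteristic (H : Subgroup G) [H.Characteristic] : IsInvariant A H :=
  fun a n hn => by
    have := Subgroup.characteristic_iff_comap_eq.1 ‹H.Characteristic›
      (MulDistribMulAction.toMulEquiv G a)
    exact (this.symm.le hn : _)

theorem smul_sylow_smul (a : A) (g : G) {p : ℕ} (P : Sylow p G) :
    a • (g • P) = (a • g) • (a • P) := by
  ext x
  simp only [Sylow.pointwise_smul_def, Sylow.coe_subgroup_smul, SetLike.mem_coe,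
    Subgroup.mem_pointwise_smul_iff_inv_smul_mem]
  simp [smul_mul', MulAut.smul_def, MulAut.conj_symm_apply, smul_inv', mul_assoc]

/-- An invariant Sylow subgroup exists (solvable acting group). -/
theorem exists_invariant_sylow [Finite A] [Group.IsSolvable A] [Finite G]
    (hcop : (Nat.card A).Coprime (Nat.card G)) (p : ℕ) [Fact p.Prime] :
    ∃ P : Sylow p G, IsInvariant A (P : Subgroup G) := by
  obtain ⟨P, hP⟩ := exists_fixed_point_of_transitive (A := A) (X := Sylow p G)
    (fun a g P => smul_sylow_smul a g P)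
    hcop inferInstance
  refine ⟨P, isInvariant_of_smul_eq fun a => ?_⟩
  conv_rhs => rw [← hP a]
  rfl

/-- Two invariant Sylow subgroups are conjugate by a fixed element. -/
theorem exists_fixed_conj_sylow [Finite A] [Group.IsSolvable A] [Finite G]
    (hcop : (Nat.card A).Coprime (Nat.card G)) {p : ℕ} [Fact p.Prime] (P Q : Sylow p G)
    (hP : IsInvariant A (P : Subgroup G)) (hQ : IsInvariant A (Q : Subgroup G)) :
    ∃ c : G, (∀ a : A, a • c = c) ∧ c • P = Q := by
  obtain ⟨g, rfl⟩ := MulAction.exists_smul_eq G P Q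
  have hP' : ∀ a : A, a • P = P := fun a => Sylow.ext (hP.smul_eq a)
  have hQ' : ∀ a : A, a • (g • P) = g • P := fun a => Sylow.ext (hQ.smul_eq a)
  obtain ⟨c, hc, hc'⟩ := exists_fixed_mem_coset_of_isSolvable (A := A)
    (MulAction.stabilizer G P) (fun a h hh => by
      have := smul_sylow_smul a h P
      rw [MulAction.mem_stabilizer_iff.1 hh, hP' a] at this
      exact this.symm)
    (hcop.coprime_dvd_right (Subgroup.card_subgroup_dvd_card _)) g (fun a => by
      have := smul_sylow_smul a g P
      rw [hP' a, hQ' a] at this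
      rw [MulAction.mem_stabilizer_iff, mul_smul, inv_smul_eq_iff]
      exact this.symm)
  refine ⟨c, hc, ?_⟩
  rw [MulAction.mem_stabilizer_iff, mul_smul, inv_smul_eq_iff] at hc'
  exact hc'

/-- The fixed points of `A` on `G ⧸ N` come from fixed points in `G` (`A` solvable). -/
theorem exists_fixed_mk_eq [Finite A] [Group.IsSolvable A] [Finite G]
    (hcop : (Nat.card A).Coprime (Nat.card G)) (N : Subgroup G) (hN : IsInvariant A N) (g : G)
    (hg : ∀ a : A, ((a • g : G) : G ⧸ N) = g) :
    ∃ c : G, (∀ a : A, a • c = c) ∧ (c : G ⧸ N) = g := by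
  obtain ⟨c, hc, hc'⟩ := exists_fixed_mem_coset_of_isSolvable N hN
    (hcop.coprime_dvd_right (Subgroup.card_subgroup_dvd_card _)) g
    (fun a => QuotientGroup.eq.1 (hg a).symm)
  exact ⟨c, hc, (QuotientGroup.eq.2 hc').symm⟩

/-- For an abelian group, a fixed element of `[G,A]` is trivial. -/
theorem eq_one_of_mem_actCommutator_of_fixed {G : Type*} [CommGroup G] [MulDistribMulAction A G]
    [Finite A] [Finite G] (hcop : (Nat.card A).Coprime (Nat.card G)) {x : G}
    (hx : x ∈ actCommutator G A) (hfix : ∀ a : A, a • x = x) : x = 1 := by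
  classical
  have := Fintype.ofFinite A
  let ν : G →* G := MonoidHom.mk' (fun g => ∏ a : A, a • g) fun g h => by
    simp [smul_mul', Finset.prod_mul_distrib]
  have h1 : actCommutator G A ≤ ν.ker := by
    rw [actCommutator_le_iff]
    intro b g
    change ∏ a : A, a • (g⁻¹ * b • g) = 1
    simp only [smul_mul', smul_inv', Finset.prod_mul_distrib, Finset.prod_inv_distrib, ← mul_smul]
    rw [inv_mul_eq_one]
    exact (Equiv.prod_comp (Equiv.mulRight b) fun a => a • g).symm
  have h2 : ν x = 1 := h1 hx
  have h3 : x ^ Fintype.card A = 1 := by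
    rw [← h2]
    change x ^ Fintype.card A = ∏ a : A, a • x
    simp [hfix]
  rw [← Nat.card_eq_fintype_card] at h3
  exact (powCoprime (G := G) hcop.symm).injective (by simpa using h3)

/-- A `q`-group acting coprimely and trivially nowhere: fixed points of a `p`-group on a `p`-group. -/
theorem exists_fixed_ne_one_of_isPGroup {p : ℕ} [Fact p.Prime] (hA : IsPGroup p A) [Finite A]
    (N : Subgroup G) [Finite N] (hN : IsInvariant A N) (hpN : p ∣ Nat.card N) :
    ∃ x ∈ N, x ≠ 1 ∧ ∀ a : A, a • x = x := by
  let _ : MulAction A N :=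
    { smul := fun a n => ⟨a • (n : G), hN a n n.2⟩
      one_smul := fun n => Subtype.ext (one_smul A (n : G))
      mul_smul := fun a b n => Subtype.ext (mul_smul a b (n : G)) }
  have h1 : (1 : N) ∈ MulAction.fixedPoints A N := fun a => Subtype.ext (smul_one a)
  obtain ⟨b, hb, hb1⟩ := hA.exists_fixed_point_of_prime_dvd_card_of_fixed_point N hpN h1
  exact ⟨b, b.2, fun h => hb1 (Subtype.ext h.symm), fun a => congrArg Subtype.val (hb a)⟩

section Internal

variable (G)

/-- Conjugation action of a subgroup on the whole group. -/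
@[reducible] def conjAction (H : Subgroup G) : MulDistribMulAction H G :=
  MulDistribMulAction.compHom G ((MulAut.conj (G := G)).comp H.subtype)

variable {G}

/-- Internal version of the fixed point in a coset: `H` solvable normalizes `N`, coprime orders. -/
theorem exists_commute_mem_coset (H N : Subgroup G) [Finite H] [Finite N] [Group.IsSolvable H]
    (hN : H ≤ Subgroup.normalizer (N : Set G)) (hcop : (Nat.card H).Coprime (Nat.card N)) (g : G)
    (hg : ∀ h ∈ H, g⁻¹ * (h * g * h⁻¹) ∈ N) :
    ∃ c : G, (∀ h ∈ H, h * c = c * h) ∧ g⁻¹ * c ∈ N := by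
  let _ := conjAction G H
  obtain ⟨c, hc, hc'⟩ := exists_fixed_mem_coset_of_isSolvable (A := H) N
    (fun a n hn => (Subgroup.mem_normalizer_iff.1 (hN a.2) n).1 hn) hcop g (fun a => hg a a.2)
  exact ⟨c, fun h hh => mul_inv_eq_iff_eq_mul.1 (hc ⟨h, hh⟩), hc'⟩

/-- Internal version, `N` solvable instead of `H`. -/
theorem exists_commute_mem_coset' (H N : Subgroup G) [Finite H] [Finite N] [Group.IsSolvable N]
    (hN : H ≤ Subgroup.normalizer (N : Set G)) (hcop : (Nat.card H).Coprime (Nat.card N)) (g : G)
    (hg : ∀ h ∈ H, g⁻¹ * (h * g * h⁻¹) ∈ N) :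
    ∃ c : G, (∀ h ∈ H, h * c = c * h) ∧ g⁻¹ * c ∈ N := by
  let _ := conjAction G H
  obtain ⟨c, hc, hc'⟩ := exists_fixed_mem_coset_of_isSolvable' (A := H) N
    (fun a n hn => (Subgroup.mem_normalizer_iff.1 (hN a.2) n).1 hn) hcop g (fun a => hg a a.2)
  exact ⟨c, fun h hh => mul_inv_eq_iff_eq_mul.1 (hc ⟨h, hh⟩), hc'⟩

end Internal

end CfsgLib.Coprime
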