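import Mathlib.Data.Nat.Factorization.Basic
import Cfsg.Agent.Coprime.Sylow

/-!
# Generation by centralizers of a noncyclic abelian group acting coprimely
-/

namespace CfsgLib.Coprime

open MulAction

/-- A finite noncyclic abelian group has a subgroup of order `q ^ 2` and exponent `q`. -/
theorem exists_elementary_sq {A : Type*} [CommGroup A] [Finite A] (hnc : ¬ IsCyclic A) :
    ∃ (q : ℕ) (E : Subgroup A), q.Prime ∧ Nat.card E = q ^ 2 ∧ ∀ x ∈ E, x ^ q = 1 := by
  classical
  by_contra hno
  push Not at hno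
  apply hnc
  have hker : ∀ q : ℕ, q.Prime → Nat.card (powMonoidHom q : A →* A).ker ≤ q := by
    intro q hq
    by_contra! hlt
    have : Fact q.Prime := ⟨hq⟩
    have hpg : IsPGroup q (powMonoidHom q : A →* A).ker := fun x => ⟨1, by
      apply Subtype.ext
      have := MonoidHom.mem_ker.1 x.2
      rw [powMonoidHom_apply] at this
      simpa using this⟩
    obtain ⟨k, hk⟩ := IsPGroup.iff_card.1 hpg
    have hk2 : 2 ≤ k := by
      by_contra! h
      have : q ^ k ≤ q ^ 1 := Nat.pow_le_pow_right hq.pos (by omega)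
      rw [pow_one, ← hk] at this
      omega
    obtain ⟨E, hE⟩ := Sylow.exists_subgroup_card_pow_prime (G := (powMonoidHom q : A →* A).ker) q
      (n := 2) (hk ▸ pow_dvd_pow q hk2)
    obtain ⟨x, hx, hx1⟩ := hno q (E.map (Subgroup.subtype _)) hq
      (by rw [Subgroup.card_map_of_injective (Subgroup.subtype_injective _), hE])
    obtain ⟨y, hy, rfl⟩ := hx
    exact hx1 (MonoidHom.mem_ker.1 y.2)
  have hall : ∀ n : ℕ, n ≠ 0 → Nat.card (powMonoidHom n : A →* A).ker ≤ n := by
    intro n
    induction n using Nat.recOnMul with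
    | zero => simp
    | one =>
      intro _
      have : (powMonoidHom 1 : A →* A).ker = ⊥ := by ext x; simp
      rw [this, Subgroup.card_bot]
    | prime q hq => exact fun _ => hker q hq
    | mul a b ha hb =>
      intro hab
      obtain ⟨ha0, hb0⟩ := mul_ne_zero_iff.1 hab
      let f : (powMonoidHom (a * b) : A →* A).ker →* (powMonoidHom b : A →* A).ker :=
        MonoidHom.mk' (fun x => ⟨(x : A) ^ a, by
          have := x.2
          simp only [MonoidHom.mem_ker, powMonoidHom_apply] at this ⊢
          rw [← pow_mul, this]⟩) fun x y => Subtype.ext (mul_pow (x : A) y a)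
      have h1 := f.ker.card_mul_index
      rw [Subgroup.index_ker] at h1
      have h2 : Nat.card f.ker ≤ Nat.card (powMonoidHom a : A →* A).ker :=
        Nat.card_le_card_of_injective
          (fun x => ⟨((x : (powMonoidHom (a * b) : A →* A).ker) : A), by
            have h3 := congrArg Subtype.val (MonoidHom.mem_ker.1 x.2)
            simpa [f] using h3⟩)
          (fun x y h => Subtype.ext (Subtype.ext (by simpa using congrArg Subtype.val h)))
      have h3 : Nat.card f.range ≤ Nat.card (powMonoidHom b : A →* A).ker :=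
        Subgroup.card_le_card_group _
      rw [← h1]
      exact Nat.mul_le_mul (h2.trans (ha ha0)) (h3.trans (hb hb0))
  have hexp : Monoid.exponent A ≠ 0 := Monoid.exponent_ne_zero_of_finite
  have htop : (powMonoidHom (Monoid.exponent A) : A →* A).ker = ⊤ := by
    ext x; simp [Monoid.pow_exponent_eq_one]
  refine IsCyclic.of_exponent_eq_card ?_
  refine le_antisymm (Nat.le_of_dvd Nat.card_pos Group.exponent_dvd_nat_card) ?_
  have := hall _ hexp
  rwa [htop, Subgroup.card_top] at this

variable {G : Type*} [Group G] {A : Type*} [CommGroup A] [MulDistribMulAction A G]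

theorem mem_of_pow_mem_of_coprime {B : Type*} [Group B] {K : Subgroup B} {x : B} {n : ℕ}
    (hn : n.Coprime (orderOf x)) (h : x ^ n ∈ K) : x ∈ K := by
  obtain ⟨m, hm⟩ := exists_pow_eq_self_of_coprime hn
  rw [← hm]
  exact K.pow_mem h m

/-- One derived step of the generation lemma. -/
theorem le_of_commutator_le [Finite A] (E : Subgroup A) {q : ℕ} (hq : q.Prime)
    (hEcard : Nat.card E = q ^ 2) (hEexp : ∀ x ∈ E, x ^ q = 1) (K : Subgroup G)
    (hK : ∀ a : A, a ≠ 1 → ∀ g : G, a • g = g → g ∈ K)
    (N : Subgroup G) [Finite N] (hN : IsInvariant A N)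
    (hcop : (Nat.card A).Coprime (Nat.card N)) (hder : ⁅N, N⁆ ≤ K) : N ≤ K := by
  classical
  have := Fintype.ofFinite A
  intro v₀ hv₀
  let v : N := ⟨v₀, hv₀⟩
  let θ : N →* Abelianization N := Abelianization.of
  have hθker : ∀ n : N, θ n = 1 → (n : G) ∈ ⁅N, N⁆ := fun n hn => by
    rw [← Subgroup.map_subtype_commutator]
    exact ⟨n, (QuotientGroup.eq_one_iff _).1 hn, rfl⟩
  let S : A → N →* N := fun a =>
    MonoidHom.mk' (fun n : N => (⟨a • (n : G), hN a n n.2⟩ : N))
      fun x y => Subtype.ext (smul_mul' a (x : G) y)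
  let T : A → (Abelianization N →* Abelianization N) := fun a =>
    Abelianization.lift (θ.comp (S a))
  have hT : ∀ (a : A) (n : N), T a (θ n) = θ (S a n) := fun a n => Abelianization.lift_apply_of _ n
  let F : A → Abelianization N := fun a => θ (S a v)
  have hTF : ∀ a b : A, T a (F b) = F (a * b) := fun a b => by
    rw [hT]
    exact congrArg θ (Subtype.ext (mul_smul a b (v : G)).symm)
  let Kb : Subgroup (Abelianization N) := (K.subgroupOf N).map θ
  have hfix : ∀ (L : Subgroup A), L ≠ ⊥ → (∏ a : A with a ∈ L, F a) ∈ Kb := by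
    intro L hL
    set z := ∏ a : A with a ∈ L, F a with hz
    obtain ⟨n, hn⟩ : ∃ n, θ n = z := QuotientGroup.mk_surjective z
    have hyz : ∀ y ∈ L, T y z = z := by
      intro y hy
      rw [hz, map_prod]
      refine Finset.prod_equiv (Equiv.mulLeft y) (fun a => ?_) (fun a _ => hTF y a)
      simp [L.mul_mem_cancel_left hy]
    have : Finite (⁅N, N⁆ : Subgroup G) :=
      Finite.of_injective _ (Subgroup.inclusion_injective N.commutator_le_self)
    obtain ⟨c, hc, hc'⟩ := exists_fixed_mem_coset_of_isSolvable (A := L) ⁅N, N⁆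
      (fun a => hN.commutator (a : A))
      (by
        refine (hcop.coprime_dvd_left (Subgroup.card_subgroup_dvd_card _)).coprime_dvd_right ?_
        exact Subgroup.card_dvd_of_le N.commutator_le_self)
      (n : G) (fun y => by
        have h := hθker (n⁻¹ * S y n) (by rw [map_mul, map_inv, ← hT, hn, hyz _ y.2, inv_mul_cancel])
        exact h)
    obtain ⟨y, hy, hy1⟩ := L.bot_or_exists_ne_one.resolve_left hL
    have hcK : c ∈ K := hK y hy1 c (hc ⟨y, hy⟩)
    have hcN : c ∈ N := by simpa using N.mul_mem n.2 (N.commutator_le_self hc')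
    refine ⟨⟨c, hcN⟩, hcK, ?_⟩
    rw [← hn]
    symm
    rw [← inv_mul_eq_one, ← map_inv, ← map_mul]
    refine (QuotientGroup.eq_one_iff _).2 ?_
    rw [← Subgroup.mem_map_iff_mem N.subtype_injective, Subgroup.map_subtype_commutator]
    simpa using hc'
  let D : Finset A := Finset.univ.filter (fun a => a ∈ E ∧ a ≠ 1)
  let 𝓛 : Finset (Subgroup A) := D.image Subgroup.zpowers
  have hord : ∀ a ∈ D, orderOf a = q := fun a ha => by
    simp only [D, Finset.mem_filter, Finset.mem_univ, true_and] at ha
    have : Fact q.Prime := ⟨hq⟩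
    exact orderOf_eq_prime (hEexp a ha.1) ha.2
  have hfib : ∀ L ∈ 𝓛, (D.filter fun a => Subgroup.zpowers a = L) =
      ({a : A | a ∈ L} : Finset A).erase 1 := by
    intro L hL
    simp only [𝓛, Finset.mem_image] at hL
    obtain ⟨b, hb, rfl⟩ := hL
    have hbE : b ∈ E := (Finset.mem_filter.1 hb).2.1
    ext a
    simp only [Finset.mem_filter, Finset.mem_erase, Finset.mem_univ, true_and]
    constructor
    · rintro ⟨ha, h⟩
      exact ⟨(Finset.mem_filter.1 ha).2.2, h ▸ Subgroup.mem_zpowers a⟩
    · rintro ⟨ha1, hab⟩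
      have haE : a ∈ E := Subgroup.zpowers_le.2 hbE hab
      have haD : a ∈ D := by simp [D, haE, ha1]
      refine ⟨haD, Subgroup.eq_of_le_of_card_ge (Subgroup.zpowers_le.2 hab) ?_⟩
      rw [Nat.card_zpowers, Nat.card_zpowers, hord a haD, hord b hb]
  have hsum : ∀ f : A → Abelianization N,
      (∏ a ∈ D, f a) = ∏ L ∈ 𝓛, ∏ a ∈ ({a : A | a ∈ L} : Finset A).erase 1, f a := fun f => by
    rw [← Finset.prod_fiberwise_of_maps_to (t := 𝓛) (g := Subgroup.zpowers)
      (fun a ha => Finset.mem_image_of_mem _ ha)]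
    exact Finset.prod_congr rfl fun L hL => by rw [hfib L hL]
  have hcardL : 𝓛.card = q + 1 := by
    have h1 : D.card = 𝓛.card * (q - 1) := by
      rw [Finset.card_eq_sum_card_image Subgroup.zpowers D]
      refine Finset.sum_const_nat fun L hL => ?_
      rw [hfib L hL, Finset.card_erase_of_mem (by simp)]
      obtain ⟨b, hb, rfl⟩ := Finset.mem_image.1 hL
      rw [← Fintype.card_subtype, ← Nat.card_eq_fintype_card, ← hord b hb, ← Nat.card_zpowers]
    have h2 : D.card = q ^ 2 - 1 := by
      have : D = ({a : A | a ∈ E} : Finset A).erase 1 := by ext a; simp [D, and_comm]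
      rw [this, Finset.card_erase_of_mem (by simp), ← Fintype.card_subtype,
        ← Nat.card_eq_fintype_card, hEcard]
    have h3 : q ^ 2 - 1 = (q + 1) * (q - 1) := by
      zify [hq.one_le, Nat.one_le_pow 2 q hq.pos]; push_cast; ring
    exact Nat.eq_of_mul_eq_mul_right (Nat.sub_pos_of_lt hq.one_lt) (by rw [← h1, h2, h3])
  have hv1 : F 1 = θ v := congrArg θ (Subtype.ext (one_smul A (v : G)))
  have hEne : E ≠ ⊥ := fun h => by
    rw [h, Subgroup.card_bot] at hEcard
    exact absurd hEcard.symm (by simp [hq.ne_one])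
  have hL : (∏ L ∈ 𝓛, ∏ a : A with a ∈ L, F a) = θ v ^ (q + 1) * ∏ a ∈ D, F a := by
    rw [hsum, ← hcardL, ← Finset.prod_const, ← Finset.prod_mul_distrib]
    refine Finset.prod_congr rfl fun L _ => ?_
    rw [← hv1, Finset.mul_prod_erase _ F (by simp)]
  have hE : (∏ a : A with a ∈ E, F a) = θ v * ∏ a ∈ D, F a := by
    have : D = ({a : A | a ∈ E} : Finset A).erase 1 := by ext a; simp [D, and_comm]
    rw [this, ← hv1, Finset.mul_prod_erase _ F (by simp)]
  have h1 : (∏ L ∈ 𝓛, ∏ a : A with a ∈ L, F a) ∈ Kb := Subgroup.prod_mem _ fun L hL => by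
    obtain ⟨b, hb, rfl⟩ := Finset.mem_image.1 hL
    exact hfix _ (by simpa using (Finset.mem_filter.1 hb).2.2)
  have h2 : θ v ^ q ∈ Kb := by
    have := Kb.mul_mem (Kb.inv_mem (hfix E hEne)) h1
    rw [hL, hE] at this
    convert this using 1
    rw [pow_succ', mul_inv_rev, mul_comm (∏ a ∈ D, F a)⁻¹ (θ v)⁻¹,
      mul_mul_mul_comm (θ v)⁻¹, inv_mul_cancel, mul_one, inv_mul_cancel_left]
  have hcq : q.Coprime (orderOf (θ v)) := by
    refine ((hcop.coprime_dvd_left ?_).coprime_dvd_right ?_)
    · exact ((dvd_pow_self q two_ne_zero).trans hEcard.symm.dvd).trans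
        (Subgroup.card_subgroup_dvd_card E)
    · exact ((orderOf_map_dvd θ v).trans (orderOf_dvd_natCard _))
  obtain ⟨w, hw, hwv⟩ := mem_of_pow_mem_of_coprime hcq h2
  have h4 : ((w⁻¹ * v : N) : G) ∈ ⁅N, N⁆ := hθker _ (by rw [map_mul, map_inv, hwv, inv_mul_cancel])
  simpa [v] using K.mul_mem (Subgroup.mem_subgroupOf.1 hw) (hder h4)

/-- A noncyclic abelian group acting coprimely: the centralizers of its nontrivial elements
generate every invariant solvable subgroup. -/
theorem le_closure_fixed_of_isSolvable [Finite A] (hnc : ¬ IsCyclic A) (N : Subgroup G) [Finite N]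
    [Group.IsSolvable N] (hN : IsInvariant A N) (hcop : (Nat.card A).Coprime (Nat.card N)) :
    N ≤ Subgroup.closure {g : G | ∃ a : A, a ≠ 1 ∧ a • g = g} := by
  obtain ⟨q, E, hq, hE1, hE2⟩ := exists_elementary_sq hnc
  suffices h : ∀ (n : ℕ) (M : Subgroup G), Nat.card M ≤ n → M ≤ N → IsInvariant A M →
      M ≤ Subgroup.closure {g : G | ∃ a : A, a ≠ 1 ∧ a • g = g} by
    exact h _ N le_rfl le_rfl hN
  intro n
  induction n with
  | zero =>
    intro M hM hMN _
    have : Finite M := Finite.of_injective _ (Subgroup.inclusion_injective hMN)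
    exact absurd hM (by simpa using (Nat.card_pos (α := M)).ne')
  | succ n ih =>
    intro M hM hMN hMinv
    rcases eq_or_ne M ⊥ with rfl | hM1
    · exact bot_le
    have : Finite M := Finite.of_injective _ (Subgroup.inclusion_injective hMN)
    have : Group.IsSolvable M :=
      Group.isSolvable_of_isSolvable_injective (Subgroup.inclusion_injective hMN)
    have : Nontrivial M := M.nontrivial_iff_ne_bot.2 hM1
    have hlt : ⁅M, M⁆ < M := by
      rw [← Subgroup.map_subtype_commutator M]
      conv_rhs => rw [← M.range_subtype, MonoidHom.range_eq_map]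
      exact (Subgroup.map_lt_map_iff_of_injective M.subtype_injective).2
        (Group.IsSolvable.commutator_lt_top_of_nontrivial M)
    refine le_of_commutator_le E hq hE1 hE2 (Subgroup.closure {g : G | ∃ a : A, a ≠ 1 ∧ a • g = g}) (fun a ha g hg => Subgroup.subset_closure ⟨a, ha, hg⟩)
      M hMinv (hcop.coprime_dvd_right (Subgroup.card_dvd_of_le hMN)) (ih _ ?_ ?_ hMinv.commutator)
    · have hlt' : Nat.card (⁅M, M⁆ : Subgroup G) < Nat.card M := by
        rw [← SetLike.coe_sort_coe, ← SetLike.coe_sort_coe, Nat.card_coe_set_eq,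
          Nat.card_coe_set_eq]
        exact Set.ncard_lt_ncard (SetLike.coe_ssubset_coe.2 hlt) (Set.toFinite (M : Set G))
      omega
    · exact hlt.le.trans hMN

/-- A noncyclic abelian group acting coprimely: `G` is generated by the fixed point subgroups of
its nontrivial elements. -/
theorem closure_fixed_eq_top [Finite A] [Finite G] (hnc : ¬ IsCyclic A)
    (hcop : (Nat.card A).Coprime (Nat.card G)) :
    Subgroup.closure {g : G | ∃ a : A, a ≠ 1 ∧ a • g = g} = ⊤ := by
  classical
  set K := Subgroup.closure {g : G | ∃ a : A, a ≠ 1 ∧ a • g = g}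
  apply Subgroup.eq_top_of_card_eq
  apply Nat.dvd_antisymm K.card_subgroup_dvd_card
  apply Nat.dvd_of_primeFactorsList_subperm Nat.card_pos.ne'
  rw [List.subperm_ext_iff]
  intro p hp
  rw [Nat.primeFactorsList_count_eq, Nat.primeFactorsList_count_eq]
  have : Fact p.Prime := ⟨Nat.prime_of_mem_primeFactorsList hp⟩
  obtain ⟨P, hP⟩ := exists_invariant_sylow (A := A) (G := G) hcop p
  have : Group.IsNilpotent (P : Subgroup G) := P.isPGroup'.isNilpotent
  have : Group.IsSolvable (P : Subgroup G) := IsNilpotent.to_isSolvable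
  have hle : (P : Subgroup G) ≤ K := le_closure_fixed_of_isSolvable hnc _ hP
    (hcop.coprime_dvd_right (Subgroup.card_subgroup_dvd_card _))
  have hdvd := P.card_eq_multiplicity ▸ Subgroup.card_dvd_of_le hle
  exact (Nat.Prime.pow_dvd_iff_le_factorization Fact.out Nat.card_pos.ne').1 hdvd

end CfsgLib.Coprime
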