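import Cfsg.Agent.Coprime.LiftFixedRank
import Cfsg.Agent.Coprime.Basic
import Mathlib.LinearAlgebra.FiniteDimensional.Lemmas
import Mathlib.Algebra.Module.ZMod
import Mathlib.FieldTheory.Finiteness

/-!
# Fixed points of a Frobenius group acting coprimely on a solvable group
-/

set_option autoImplicit false
set_option linter.style.haveILetI false
set_option linter.unusedSectionVars false

namespace CfsgLib.Coprime

open Matrix

universe u v

/-- Summing over a Frobenius group: the kernel and the conjugates of the complement. -/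
theorem frobenius_sum {A : Type u} [Group A] [Fintype A] {U E : Subgroup A} [U.Normal] [Fintype U]
    [Fintype E] (hinf : U ⊓ E = ⊥) (hsup : U ⊔ E = ⊤)
    (hfpf : ∀ e ∈ E, e ≠ 1 → ∀ u ∈ U, e * u = u * e → u = 1) {M : Type v} [AddCommGroup M]
    (f : A → M) :
    ∑ g : A, f g + Nat.card U • f 1 = ∑ u : U, f u + ∑ u : U, ∑ e : E, f ((u : A) * e * (u : A)⁻¹) := by
  classical
  have hd : ∀ {z : A}, z ∈ U → z ∈ E → z = 1 := fun hu he =>
    Subgroup.mem_bot.1 (hinf ▸ ⟨hu, he⟩)
  let T : Finset (U × E) := Finset.univ.filter fun p => p.2 ≠ 1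
  let ψ : U × E → A := fun p => (p.1 : A) * p.2 * (p.1 : A)⁻¹
  have hU : ∀ p : U × E, ψ p ∈ U → p.2 = 1 := fun p hp => Subtype.ext (hd (by
    have h := (inferInstance : U.Normal).conj_mem _ hp (p.1 : A)⁻¹
    simpa [ψ, mul_assoc] using h) p.2.2)
  have hmapsto : Set.MapsTo ψ T (Finset.univ.filter fun g => g ∉ U : Finset A) := by
    intro p hp
    simp only [T, Finset.coe_filter, Finset.mem_univ, true_and, Set.mem_ofPred_eq] at hp ⊢
    exact fun h => hp (hU p h)
  have hinj : Set.InjOn ψ T := by
    rintro ⟨u, e⟩ he ⟨u', e'⟩ - h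
    simp only [T, Finset.coe_filter, Finset.mem_univ, true_and, Set.mem_ofPred_eq] at he
    change (u : A) * e * (u : A)⁻¹ = u' * e' * (u' : A)⁻¹ at h
    set w : U := u'⁻¹ * u with hw
    have h1 : (w : A) * e = e' * w := by
      calc (w : A) * e = (u' : A)⁻¹ * ((u : A) * e * (u : A)⁻¹) * u := by simp [hw, mul_assoc]
        _ = (u' : A)⁻¹ * ((u' : A) * e' * (u' : A)⁻¹) * u := by rw [h]
        _ = _ := by simp [hw, mul_assoc]
    have hee : e' = e := by
      refine Subtype.ext (inv_mul_eq_one.1 (hd ?_ (E.mul_mem (E.inv_mem e'.2) e.2)))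
      have h2 := U.mul_mem ((inferInstance : U.Normal).conj_mem _ (U.inv_mem w.2) (e' : A)⁻¹) w.2
      rwa [show (e' : A)⁻¹ * (w : A)⁻¹ * (e' : A)⁻¹⁻¹ * w = (e' : A)⁻¹ * e by
        rw [inv_inv, mul_assoc _ (e' : A), ← h1]; group] at h2
    subst hee
    have h3 : (w : A) = 1 := hfpf e' e'.2 (fun h0 => he (Subtype.ext h0)) w w.2 h1.symm
    have h4 : u' = u := inv_mul_eq_one.1 (Subtype.ext h3)
    rw [h4]
  have hcard : (Finset.univ.filter fun g => g ∉ U : Finset A).card ≤ T.card := by
    have hA : Fintype.card A = Fintype.card U * Fintype.card E := by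
      have h := (Subgroup.isComplement'_of_disjoint_and_mul_eq_univ (disjoint_iff.2 hinf)
        (by rw [← Subgroup.normal_mul, hsup]; rfl)).card_mul
      simpa [Nat.card_eq_fintype_card] using h.symm
    have h1 : (Finset.univ.filter fun g => g ∈ U : Finset A).card = Fintype.card U :=
      (Fintype.card_subtype _).symm.trans (Fintype.card_congr (Equiv.refl _))
    have h2 := Finset.card_filter_add_card_filter_not (s := (Finset.univ : Finset A)) (fun g => g ∈ U)
    have h3 : (Finset.univ.filter fun p : U × E => p.2 = 1).card = Fintype.card U := by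
      rw [show (Finset.univ.filter fun p : U × E => p.2 = 1) = Finset.univ ×ˢ {1} by
        ext ⟨x, y⟩; simp [eq_comm], Finset.card_product, Finset.card_singleton, Finset.card_univ, mul_one]
    have h4 := Finset.card_filter_add_card_filter_not (s := (Finset.univ : Finset (U × E))) (fun p => p.2 = 1)
    simp only [Finset.card_univ, Fintype.card_prod] at h2 h4
    simp only [T, ne_eq]
    omega
  have hne : ∑ g ∈ Finset.univ.filter (fun g => g ∉ U), f g = ∑ p ∈ T, f (ψ p) :=
    (Finset.sum_bij (fun p _ => ψ p) (fun p hp => hmapsto hp) (fun p hp q hq h => hinj hp hq h)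
      (fun g hg => by
        obtain ⟨p, hp, hpg⟩ := Finset.surjOn_of_injOn_of_card_le ψ hmapsto hinj hcard hg
        exact ⟨p, hp, hpg⟩) (fun p _ => rfl)).symm
  rw [← Finset.sum_filter_add_sum_filter_not (Finset.univ : Finset A) (fun g => g ∈ U), hne,
    Finset.sum_subtype (p := fun g => g ∈ U) _ (fun g => by simp) f, ← Fintype.sum_prod_type',
    ← Finset.sum_filter_add_sum_filter_not (Finset.univ : Finset (U × E)) (fun p => p.2 ≠ 1)
      (fun p => f (ψ p))]
  rw [add_assoc]
  congr 1
  congr 1
  rw [show (Finset.univ.filter fun p : U × E => ¬ p.2 ≠ 1) = Finset.univ ×ˢ {1} by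
    ext ⟨x, y⟩; simp [eq_comm], Finset.sum_product]
  simp [ψ, Nat.card_eq_fintype_card]

variable {A : Type u} [Group A] [Finite A]

/-- The dimensions of the fixed spaces of a Frobenius group in coprime characteristic. -/
theorem frobenius_fixSpace {r : ℕ} [Fact r.Prime] {n : ℕ} (hr : ¬ r ∣ Nat.card A)
    (ρ : A →* (Matrix (Fin n) (Fin n) (ZMod r))ˣ) {U E : Subgroup A} [U.Normal]
    (hinf : U ⊓ E = ⊥) (hsup : U ⊔ E = ⊤)
    (hfpf : ∀ e ∈ E, e ≠ 1 → ∀ u ∈ U, e * u = u * e → u = 1) :
    Nat.card E * Module.finrank (ZMod r) (Lift.fixSpace ρ ⊤) + n =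
      Module.finrank (ZMod r) (Lift.fixSpace ρ U) +
        Nat.card E * Module.finrank (ZMod r) (Lift.fixSpace ρ E) := by
  classical
  haveI := Fintype.ofFinite A
  haveI := Fintype.ofFinite U
  haveI := Fintype.ofFinite E
  haveI := Fintype.ofFinite (⊤ : Subgroup A)
  set k := 2 * Nat.card A * n + 1 with hk
  have hk0 : k ≠ 0 := Nat.succ_ne_zero _
  obtain ⟨σ, hσ⟩ := Lift.exists_rep_lift hk0 hr ρ
  have hU := Lift.trace_average_lift hk0 hr ρ σ hσ U
  have hE := Lift.trace_average_lift hk0 hr ρ σ hσ E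
  have hA := Lift.trace_average_lift hk0 hr ρ σ hσ ⊤
  have hid := frobenius_sum hinf hsup hfpf fun g => (σ g).1.trace
  have hconj : ∀ (u e : A), (σ (u * e * u⁻¹)).1.trace = (σ e).1.trace := fun u e => by
    rw [map_mul, map_mul, map_inv, Units.val_mul, Units.val_mul, Matrix.trace_units_conj]
  simp only [hconj, map_one, Units.val_one, Matrix.trace_one, Fintype.card_fin, Finset.sum_const,
    Finset.card_univ, nsmul_eq_mul, ← Nat.card_eq_fintype_card] at hid
  rw [Subgroup.card_top] at hA
  have htop : ∑ g : A, (σ g).1.trace = ∑ s : (⊤ : Subgroup A), (σ (s : A)).1.trace :=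
    (Equiv.sum_comp Subgroup.topEquiv.toEquiv fun g => (σ g).1.trace).symm
  rw [htop, hA, hU, hE] at hid
  set dA := Module.finrank (ZMod r) (Lift.fixSpace ρ ⊤) with hdA
  set dU := Module.finrank (ZMod r) (Lift.fixSpace ρ U) with hdU
  set dE := Module.finrank (ZMod r) (Lift.fixSpace ρ E) with hdE
  have hbound : ∀ W : Submodule (ZMod r) (Fin n → ZMod r), Module.finrank (ZMod r) W ≤ n := fun W =>
    (Submodule.finrank_le W).trans (Module.finrank_fin_fun _).le
  have hcardA : Nat.card A = Nat.card U * Nat.card E := by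
    have h := (Subgroup.isComplement'_of_disjoint_and_mul_eq_univ (disjoint_iff.2 hinf)
      (by rw [← Subgroup.normal_mul, hsup]; rfl)).card_mul
    exact h.symm
  have heq : Nat.card A * dA + Nat.card U * n = Nat.card U * dU + Nat.card U * (Nat.card E * dE) := by
    haveI : NeZero (r ^ k) := ⟨pow_ne_zero _ (Fact.out : r.Prime).ne_zero⟩
    have hlt : k < r ^ k := Nat.lt_pow_self (Fact.out : r.Prime).one_lt
    have h1 : Nat.card A * dA + Nat.card U * n < r ^ k := by
      have := Nat.mul_le_mul_left (Nat.card A) (hbound (Lift.fixSpace ρ ⊤))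
      have := Nat.mul_le_mul_right n (Nat.le_of_dvd Nat.card_pos (Subgroup.card_subgroup_dvd_card U))
      rw [← hdA] at *
      nlinarith
    have h2 : Nat.card U * dU + Nat.card U * (Nat.card E * dE) < r ^ k := by
      have h3 := Nat.mul_le_mul (Nat.le_of_dvd Nat.card_pos (Subgroup.card_subgroup_dvd_card U)) (hbound (Lift.fixSpace ρ U))
      have h4 := Nat.mul_le_mul_left (Nat.card A) (hbound (Lift.fixSpace ρ E))
      rw [← hdU] at h3
      rw [← hdE] at h4
      rw [← mul_assoc, ← hcardA]
      nlinarith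
    have h5 : ((Nat.card A * dA + Nat.card U * n : ℕ) : ZMod (r ^ k)) =
        ((Nat.card U * dU + Nat.card U * (Nat.card E * dE) : ℕ) : ZMod (r ^ k)) := by
      push_cast
      simpa only [Nat.card_fin] using hid
    rw [ZMod.natCast_eq_natCast_iff] at h5
    exact h5.eq_of_lt_of_lt h1 h2
  refine Nat.eq_of_mul_eq_mul_left (Nat.card_pos (α := U)) ?_
  rw [mul_add, mul_add, ← mul_assoc, ← hcardA]
  exact heq

/-- The fixed points of a set of group elements acting through `φ`. -/
def fixedSub {H : Type v} [Group H] (φ : A →* MulAut H) (S : Subgroup A) : Subgroup H where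
  carrier := {h | ∀ s ∈ S, φ s h = h}
  one_mem' := fun s _ => map_one _
  mul_mem' := fun {a b} ha hb s hs => by rw [map_mul, ha s hs, hb s hs]
  inv_mem' := fun {a} ha s hs => by rw [map_inv, ha s hs]

/-- The formula on a vector space. -/
theorem frobenius_formula_module {V : Type v} [CommGroup V] [Finite V] {r : ℕ} [Fact r.Prime]
    [Module (ZMod r) (Additive V)] (hr : ¬ r ∣ Nat.card A) (φ : A →* MulAut V) {U E : Subgroup A}
    [U.Normal] (hinf : U ⊓ E = ⊥) (hsup : U ⊔ E = ⊤)
    (hfpf : ∀ e ∈ E, e ≠ 1 → ∀ u ∈ U, e * u = u * e → u = 1) :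
    Nat.card (fixedSub φ ⊤) ^ Nat.card E * Nat.card V =
      Nat.card (fixedSub φ E) ^ Nat.card E * Nat.card (fixedSub φ U) := by
  classical
  haveI : Module.Free (ZMod r) (Additive V) := Module.Free.of_divisionRing (ZMod r) (Additive V)
  haveI : Module.Finite (ZMod r) (Additive V) := Module.Finite.of_finite
  let b : Module.Basis (Fin (Module.finrank (ZMod r) (Additive V))) (ZMod r) (Additive V) :=
    Module.finBasis (ZMod r) (Additive V)
  set n := Module.finrank (ZMod r) (Additive V)
  let lin : A →* Module.End (ZMod r) (Additive V) :=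
    { toFun := fun a => ((MonoidHom.toAdditive (φ a).toMonoidHom).toZModLinearMap r)
      map_one' := LinearMap.ext fun x => by simp
      map_mul' := fun a c => LinearMap.ext fun x => by simp }
  let mat : Module.End (ZMod r) (Additive V) →* Matrix (Fin n) (Fin n) (ZMod r) :=
    (LinearMap.toMatrixAlgEquiv b).toRingEquiv.toMonoidHom
  let ρ := (mat.comp lin).toHomUnits
  have hmv : ∀ a (x : Additive V), (ρ a).1 *ᵥ (b.equivFun x) = b.equivFun (lin a x) := fun a x =>
    LinearMap.toMatrix_mulVec_repr b b (lin a) x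
  have hcard : ∀ S : Subgroup A, Nat.card (fixedSub φ S) =
      r ^ Module.finrank (ZMod r) (Lift.fixSpace ρ S) := by
    intro S
    have e1 : Nat.card (fixedSub φ S) = Nat.card (Lift.fixSpace ρ S) := by
      refine Nat.card_congr (Equiv.subtypeEquiv (Additive.ofMul.trans b.equivFun.toEquiv) fun x => ?_)
      change (∀ s ∈ S, φ s x = x) ↔ ∀ s ∈ S, (ρ s).1 *ᵥ _ = _
      refine forall₂_congr fun s _ => ?_
      simp only [Equiv.trans_apply, LinearEquiv.coe_toEquiv, hmv]
      refine ⟨fun h => ?_, fun h => ?_⟩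
      · congr 1
      · exact Additive.ofMul.injective (b.equivFun.injective h)
    rw [e1, Module.natCard_eq_pow_finrank (K := ZMod r), Nat.card_zmod]
  have hV : Nat.card V = r ^ n := by
    rw [Nat.card_congr (Additive.ofMul : V ≃ Additive V), Module.natCard_eq_pow_finrank (K := ZMod r),
      Nat.card_zmod]
  rw [hcard, hcard, hcard, hV, ← pow_mul, ← pow_mul, ← pow_add, ← pow_add, mul_comm _ (Nat.card E),
    mul_comm _ (Nat.card E), frobenius_fixSpace hr ρ hinf hsup hfpf, add_comm]

/-- The formula on an elementary abelian group. -/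
theorem frobenius_formula_elementary {V : Type v} [CommGroup V] [Finite V] {r : ℕ} [Fact r.Prime]
    (hexp : ∀ x : V, x ^ r = 1) (hr : ¬ r ∣ Nat.card A) (φ : A →* MulAut V) {U E : Subgroup A}
    [U.Normal] (hinf : U ⊓ E = ⊥) (hsup : U ⊔ E = ⊤)
    (hfpf : ∀ e ∈ E, e ≠ 1 → ∀ u ∈ U, e * u = u * e → u = 1) :
    Nat.card (fixedSub φ ⊤) ^ Nat.card E * Nat.card V =
      Nat.card (fixedSub φ E) ^ Nat.card E * Nat.card (fixedSub φ U) :=
  @frobenius_formula_module A _ _ V _ _ r _
    (AddCommGroup.zmodModule fun x => Additive.toMul.injective (by rw [toMul_nsmul]; exact hexp _))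
    hr φ U E _ hinf hsup hfpf

/-- Wielandt's formula for a Frobenius group acting coprimely on a solvable group. -/
theorem frobenius_formula {U E : Subgroup A} [U.Normal] (hinf : U ⊓ E = ⊥) (hsup : U ⊔ E = ⊤)
    (hfpf : ∀ e ∈ E, e ≠ 1 → ∀ u ∈ U, e * u = u * e → u = 1) :
    ∀ (m : ℕ) {H : Type v} [Group H] [Finite H], Nat.card H = m → Group.IsSolvable H →
      (Nat.card A).Coprime (Nat.card H) → ∀ φ : A →* MulAut H,
      Nat.card (fixedSub φ ⊤) ^ Nat.card E * Nat.card H =
        Nat.card (fixedSub φ E) ^ Nat.card E * Nat.card (fixedSub φ U) := by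
  classical
  intro m
  induction m using Nat.strong_induction_on with
  | _ m ih =>
    intro H _ _ hm hsolv hcop φ
    by_cases hH : Subsingleton H
    · have h1 : ∀ T : Subgroup H, Nat.card T = 1 := fun T => Nat.card_unique
      simp [h1, Nat.card_unique (α := H)]
    rw [not_subsingleton_iff_nontrivial] at hH
    haveI := hsolv
    -- a characteristic elementary abelian subgroup
    obtain ⟨D, hD1, hDc, hDchar⟩ : ∃ D : Subgroup H, D ≠ ⊥ ∧ (∀ x ∈ D, ∀ y ∈ D, x * y = y * x) ∧
        ∀ f : H ≃* H, ∀ x ∈ D, f x ∈ D := by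
      have hex : ∃ j, derivedSeries H j = ⊥ := Group.IsSolvable.solvable
      set j := Nat.find hex with hj
      have hspec : derivedSeries H j = ⊥ := Nat.find_spec hex
      have hj0 : j ≠ 0 := fun h0 => by
        rw [h0, derivedSeries_zero] at hspec
        exact top_ne_bot hspec
      obtain ⟨i, hi⟩ := Nat.exists_eq_succ_of_ne_zero hj0
      refine ⟨derivedSeries H i, Nat.find_min hex (by omega), fun x hx y hy => ?_, fun f x hx => ?_⟩
      · refine commutatorElement_eq_one_iff_mul_comm.1 (Subgroup.mem_bot.1 (hspec ▸ ?_))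
        rw [hi, derivedSeries_succ]
        exact Subgroup.commutator_mem_commutator hx hy
      · have := map_derivedSeries_le_derivedSeries f.toMonoidHom i
        exact this (Subgroup.mem_map_of_mem _ hx)
    haveI : Nontrivial D := (Subgroup.nontrivial_iff_ne_bot D).2 hD1
    obtain ⟨r, hr, hrd⟩ := Nat.exists_prime_and_dvd (n := Nat.card D) Finite.one_lt_card.ne'
    haveI := Fact.mk hr
    let V : Subgroup H :=
      { carrier := {x | x ∈ D ∧ x ^ r = 1}
        one_mem' := ⟨D.one_mem, one_pow r⟩
        mul_mem' := fun {a c} ha hc => ⟨D.mul_mem ha.1 hc.1, by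
          rw [Commute.mul_pow (hDc a ha.1 c hc.1), ha.2, hc.2, one_mul]⟩
        inv_mem' := fun {a} ha => ⟨D.inv_mem ha.1, by rw [inv_pow, ha.2, inv_one]⟩ }
    have hVf : ∀ f : H ≃* H, ∀ x ∈ V, f x ∈ V := fun f x hx =>
      ⟨hDchar f x hx.1, by rw [← map_pow, hx.2, map_one]⟩
    haveI : V.Normal := ⟨fun x hx g => hVf (MulAut.conj g) x hx⟩
    have hV1 : V ≠ ⊥ := by
      obtain ⟨z, hz⟩ := exists_prime_orderOf_dvd_card' r hrd
      intro h
      have hzV : (z : H) ∈ V := ⟨z.2, by rw [← hz, ← Subgroup.orderOf_coe, pow_orderOf_eq_one]⟩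
      rw [h, Subgroup.mem_bot] at hzV
      exact hr.one_lt.ne' (by rw [← hz, ← Subgroup.orderOf_coe, hzV, orderOf_one])
    letI : CommGroup V := { (inferInstance : Group V) with
      mul_comm := fun a c => Subtype.ext (hDc a a.2.1 c c.2.1) }
    have hrA : ¬ r ∣ Nat.card A := fun h =>
      hr.one_lt.ne' (Nat.eq_one_of_dvd_coprimes hcop h (hrd.trans (Subgroup.card_subgroup_dvd_card D)))
    let φV : A →* MulAut V :=
      { toFun := fun a =>
          { toFun := fun x => ⟨φ a x, hVf _ x x.2⟩
            invFun := fun x => ⟨(φ a).symm x, hVf _ x x.2⟩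
            left_inv := fun x => by ext; simp
            right_inv := fun x => by ext; simp
            map_mul' := fun x y => by ext; simp }
        map_one' := by ext x; simp
        map_mul' := fun a c => by ext x; simp }
    have hmap : ∀ a, V.map (φ a).toMonoidHom = V := fun a => le_antisymm
      (by rintro _ ⟨x, hx, rfl⟩; exact hVf _ x hx)
      (fun x hx => ⟨(φ a).symm x, hVf _ x hx, by simp⟩)
    let φQ : A →* MulAut (H ⧸ V) :=
      { toFun := fun a => QuotientGroup.congr V V (φ a) (hmap a)
        map_one' := by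
          ext q
          obtain ⟨x, rfl⟩ := QuotientGroup.mk'_surjective V q
          simp
        map_mul' := fun a c => by
          ext q
          obtain ⟨x, rfl⟩ := QuotientGroup.mk'_surjective V q
          simp only [map_mul]
          rfl }
    have hQ : ∀ a (x : H), φQ a (x : H ⧸ V) = ((φ a x : H) : H ⧸ V) := fun a x => rfl
    have hmul : ∀ S : Subgroup A, Nat.card (fixedSub φ S) =
        Nat.card (fixedSub φV S) * Nat.card (fixedSub φQ S) := by
      intro S
      let π : fixedSub φ S →* fixedSub φQ S :=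
        ((QuotientGroup.mk' V).comp (fixedSub φ S).subtype).codRestrict _ fun x s hs => by
          change φQ s ((x : H) : H ⧸ V) = _
          rw [hQ, x.2 s hs]
          rfl
      have hsurj : Function.Surjective π := by
        rintro ⟨q, hq⟩
        obtain ⟨g, rfl⟩ := QuotientGroup.mk'_surjective V q
        letI : MulDistribMulAction S H := MulDistribMulAction.compHom H (φ.comp S.subtype)
        obtain ⟨c, hc, hc'⟩ := exists_fixed_mem_coset_of_isSolvable' (A := S) V
          (fun s x hx => hVf (φ (s : A)) x hx)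
          ((hcop.coprime_dvd_left (Subgroup.card_subgroup_dvd_card S)).coprime_dvd_right
            (Subgroup.card_subgroup_dvd_card V)) g
          (fun s => QuotientGroup.eq.1 ((hQ (s : A) g).symm.trans (hq (s : A) s.2)).symm)
        exact ⟨⟨c, fun s hs => hc ⟨s, hs⟩⟩, Subtype.ext (QuotientGroup.eq.2 hc').symm⟩
      rw [← π.ker.card_mul_index, Subgroup.index_ker, MonoidHom.range_eq_top.2 hsurj, Subgroup.card_top]
      congr 1
      refine Nat.card_congr ⟨fun x => ⟨⟨((x : fixedSub φ S) : H),
          (QuotientGroup.eq_one_iff _).1 (congrArg Subtype.val x.2)⟩, fun s hs => Subtype.ext (x.1.2 s hs)⟩,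
        fun y => ⟨⟨((y : V) : H), fun s hs => congrArg Subtype.val (y.2 s hs)⟩,
          Subtype.ext ((QuotientGroup.eq_one_iff _).2 (y : V).2)⟩, fun x => rfl, fun y => rfl⟩
    have hexp : ∀ x : V, x ^ r = 1 := fun x => Subtype.ext x.2.2
    have hA := frobenius_formula_elementary hexp hrA φV hinf hsup hfpf
    have hlt : Nat.card (H ⧸ V) < m := by
      rw [← hm, ← Subgroup.index_eq_card, ← V.card_mul_index]
      exact lt_mul_of_one_lt_left (Nat.pos_of_ne_zero V.index_ne_zero_of_finite)
        ((Subgroup.one_lt_card_iff_ne_bot V).2 hV1)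
    have hB := ih _ hlt rfl (Group.isSolvable_of_surjective (QuotientGroup.mk'_surjective V))
      (hcop.coprime_dvd_right (by rw [← Subgroup.index_eq_card]; exact Subgroup.index_dvd_card V)) φQ
    rw [hmul, hmul, hmul, ← V.card_mul_index, Subgroup.index_eq_card, mul_pow, mul_pow,
      mul_mul_mul_comm, hA, hB, mul_mul_mul_comm]

end CfsgLib.Coprime
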