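import Cfsg.Agent.Coprime.FrobeniusFixedFormula

/-!
# Coprime actions on an invariant normal subgroup and its quotient
-/

set_option autoImplicit false
set_option linter.style.haveILetI false
set_option linter.unusedSectionVars false

namespace CfsgLib.Coprime

universe u v

variable {A : Type u} [Group A] {H : Type v} [Group H]

/-- The action induced on an invariant subgroup. -/
def restrictAut (φ : A →* MulAut H) (W : Subgroup H) (hW : ∀ a, ∀ x ∈ W, φ a x ∈ W) : A →* MulAut W where
  toFun a :=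
    { toFun := fun x => ⟨φ a x, hW a x x.2⟩
      invFun := fun x => ⟨φ a⁻¹ x, hW _ x x.2⟩
      left_inv := fun x => by ext; simp
      right_inv := fun x => by ext; simp
      map_mul' := fun x y => by ext; simp }
  map_one' := by ext x; simp
  map_mul' a c := by ext x; simp

theorem restrictAut_apply (φ : A →* MulAut H) (W : Subgroup H) (hW : ∀ a, ∀ x ∈ W, φ a x ∈ W) (a : A)
    (x : W) : (restrictAut φ W hW a x : H) = φ a x := rfl

/-- The action induced on the quotient by an invariant normal subgroup. -/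
def quotientAut (φ : A →* MulAut H) (W : Subgroup H) [W.Normal] (hW : ∀ a, ∀ x ∈ W, φ a x ∈ W) :
    A →* MulAut (H ⧸ W) where
  toFun a := QuotientGroup.congr W W (φ a) (le_antisymm
    (by rintro _ ⟨x, hx, rfl⟩; exact hW a x hx)
    (fun x hx => ⟨φ a⁻¹ x, hW _ x hx, by simp⟩))
  map_one' := by
    ext q
    obtain ⟨x, rfl⟩ := QuotientGroup.mk'_surjective W q
    simp
  map_mul' a c := by
    ext q
    obtain ⟨x, rfl⟩ := QuotientGroup.mk'_surjective W q
    simp only [map_mul]
    rfl

theorem quotientAut_mk (φ : A →* MulAut H) (W : Subgroup H) [W.Normal]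
    (hW : ∀ a, ∀ x ∈ W, φ a x ∈ W) (a : A) (x : H) :
    quotientAut φ W hW a (x : H ⧸ W) = ((φ a x : H) : H ⧸ W) := rfl

/-- Coprime fixed points are multiplicative along an invariant solvable normal subgroup. -/
theorem card_fixedSub_mul [Finite A] [Finite H] (φ : A →* MulAut H) (W : Subgroup H) [W.Normal]
    [Group.IsSolvable W] (hW : ∀ a, ∀ x ∈ W, φ a x ∈ W) (hcop : (Nat.card A).Coprime (Nat.card W))
    (S : Subgroup A) :
    Nat.card (fixedSub φ S) =
      Nat.card (fixedSub (restrictAut φ W hW) S) * Nat.card (fixedSub (quotientAut φ W hW) S) := by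
  classical
  let π : fixedSub φ S →* fixedSub (quotientAut φ W hW) S :=
    ((QuotientGroup.mk' W).comp (fixedSub φ S).subtype).codRestrict _ fun x s hs => by
      change quotientAut φ W hW s ((x : H) : H ⧸ W) = _
      rw [quotientAut_mk, x.2 s hs]
      rfl
  have hsurj : Function.Surjective π := by
    rintro ⟨q, hq⟩
    obtain ⟨g, rfl⟩ := QuotientGroup.mk'_surjective W q
    letI : MulDistribMulAction S H := MulDistribMulAction.compHom H (φ.comp S.subtype)
    obtain ⟨c, hc, hc'⟩ := exists_fixed_mem_coset_of_isSolvable' (A := S) W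
      (fun s x hx => hW (s : A) x hx) (hcop.coprime_dvd_left (Subgroup.card_subgroup_dvd_card S)) g
      (fun s => QuotientGroup.eq.1 ((quotientAut_mk φ W hW (s : A) g).symm.trans (hq (s : A) s.2)).symm)
    exact ⟨⟨c, fun s hs => hc ⟨s, hs⟩⟩, Subtype.ext (QuotientGroup.eq.2 hc').symm⟩
  rw [← π.ker.card_mul_index, Subgroup.index_ker, MonoidHom.range_eq_top.2 hsurj, Subgroup.card_top]
  congr 1
  exact Nat.card_congr ⟨fun x => ⟨⟨((x : fixedSub φ S) : H),
      (QuotientGroup.eq_one_iff _).1 (congrArg Subtype.val x.2)⟩, fun s hs => Subtype.ext (x.1.2 s hs)⟩,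
    fun y => ⟨⟨((y : W) : H), fun s hs => congrArg Subtype.val (y.2 s hs)⟩,
      Subtype.ext ((QuotientGroup.eq_one_iff _).2 (y : W).2)⟩, fun x => rfl, fun y => rfl⟩

/-- Fixed cosets contain fixed points. -/
theorem fixedSub_quotient_eq_map [Finite A] [Finite H] (φ : A →* MulAut H) (W : Subgroup H) [W.Normal]
    [Group.IsSolvable W] (hW : ∀ a, ∀ x ∈ W, φ a x ∈ W) (hcop : (Nat.card A).Coprime (Nat.card W))
    (S : Subgroup A) :
    fixedSub (quotientAut φ W hW) S = (fixedSub φ S).map (QuotientGroup.mk' W) := by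
  refine le_antisymm (fun q hq => ?_) ?_
  · obtain ⟨g, rfl⟩ := QuotientGroup.mk'_surjective W q
    letI : MulDistribMulAction S H := MulDistribMulAction.compHom H (φ.comp S.subtype)
    obtain ⟨c, hc, hc'⟩ := exists_fixed_mem_coset_of_isSolvable' (A := S) W
      (fun s x hx => hW (s : A) x hx) (hcop.coprime_dvd_left (Subgroup.card_subgroup_dvd_card S)) g
      (fun s => QuotientGroup.eq.1 ((quotientAut_mk φ W hW (s : A) g).symm.trans (hq (s : A) s.2)).symm)
    exact ⟨c, fun s hs => hc ⟨s, hs⟩, (QuotientGroup.eq.2 hc').symm⟩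
  · rintro _ ⟨x, hx, rfl⟩ s hs
    change quotientAut φ W hW s (x : H ⧸ W) = _
    rw [quotientAut_mk, hx s hs]
    rfl

/-- An element of order prime to `W` acting trivially on `W` and on the quotient acts trivially. -/
theorem eq_one_of_stabilizes (φ : A →* MulAut H) (W : Subgroup H) [W.Normal]
    (hW : ∀ a, ∀ x ∈ W, φ a x ∈ W) (a : A) (hcop : (orderOf a).Coprime (Nat.card W))
    (h1 : restrictAut φ W hW a = 1) (h2 : quotientAut φ W hW a = 1) : φ a = 1 := by
  refine MulEquiv.ext fun g => ?_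
  have h3 : (g⁻¹ * φ a g) ∈ W :=
    QuotientGroup.eq.1 ((quotientAut_mk φ W hW a g).symm.trans (by rw [h2]; rfl)).symm
  set c := g⁻¹ * φ a g with hc
  have hcfix : φ a c = c := congrArg Subtype.val (DFunLike.congr_fun h1 (⟨c, h3⟩ : W))
  have hpow : ∀ n : ℕ, φ (a ^ n) g = g * c ^ n := by
    intro n
    induction n with
    | zero => simp
    | succ n ih =>
      rw [pow_succ' a, map_mul φ, MulAut.mul_apply, ih, map_mul, map_pow (φ a) c, hcfix,
        show φ a g = g * c by simp [hc], mul_assoc, ← pow_succ']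
  have h4 : c ^ orderOf a = 1 := by simpa [pow_orderOf_eq_one] using hpow (orderOf a)
  have h5 : c = 1 := orderOf_eq_one_iff.1 (Nat.eq_one_of_dvd_coprimes hcop
    (orderOf_dvd_of_pow_eq_one h4) (W.orderOf_dvd_natCard h3))
  change φ a g = g
  exact (inv_mul_eq_one.1 (hc ▸ h5)).symm

/-- A nontrivial solvable group has a nontrivial characteristic elementary abelian subgroup. -/
theorem exists_char_elementary [Finite H] [Nontrivial H] (hs : Group.IsSolvable H) :
    ∃ (r : ℕ) (V : Subgroup H), r.Prime ∧ V ≠ ⊥ ∧ (∀ x ∈ V, ∀ y ∈ V, x * y = y * x) ∧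
      (∀ x ∈ V, x ^ r = 1) ∧ (∀ f : H ≃* H, ∀ x ∈ V, f x ∈ V) ∧ r ∣ Nat.card H := by
  classical
  have hex : ∃ j, derivedSeries H j = ⊥ := hs.solvable
  set j := Nat.find hex with hj
  have hspec : derivedSeries H j = ⊥ := Nat.find_spec hex
  have hj0 : j ≠ 0 := fun h0 => by
    rw [h0, derivedSeries_zero] at hspec
    exact top_ne_bot hspec
  obtain ⟨i, hi⟩ := Nat.exists_eq_succ_of_ne_zero hj0
  set D := derivedSeries H i with hD
  have hD1 : D ≠ ⊥ := Nat.find_min hex (by omega)
  have hDc : ∀ x ∈ D, ∀ y ∈ D, x * y = y * x := fun x hx y hy => by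
    refine commutatorElement_eq_one_iff_mul_comm.1 (Subgroup.mem_bot.1 (hspec ▸ ?_))
    rw [hi, derivedSeries_succ]
    exact Subgroup.commutator_mem_commutator hx hy
  have hDchar : ∀ f : H ≃* H, ∀ x ∈ D, f x ∈ D := fun f x hx =>
    map_derivedSeries_le_derivedSeries f.toMonoidHom i (Subgroup.mem_map_of_mem _ hx)
  haveI : Nontrivial D := (Subgroup.nontrivial_iff_ne_bot D).2 hD1
  obtain ⟨r, hr, hrd⟩ := Nat.exists_prime_and_dvd (n := Nat.card D) Finite.one_lt_card.ne'
  haveI := Fact.mk hr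
  let V : Subgroup H :=
    { carrier := {x | x ∈ D ∧ x ^ r = 1}
      one_mem' := ⟨D.one_mem, one_pow r⟩
      mul_mem' := fun {a c} ha hc => ⟨D.mul_mem ha.1 hc.1, by
        rw [Commute.mul_pow (hDc a ha.1 c hc.1), ha.2, hc.2, one_mul]⟩
      inv_mem' := fun {a} ha => ⟨D.inv_mem ha.1, by rw [inv_pow, ha.2, inv_one]⟩ }
  obtain ⟨z, hz⟩ := exists_prime_orderOf_dvd_card' r hrd
  have hzV : (z : H) ∈ V := ⟨z.2, by rw [← hz, ← Subgroup.orderOf_coe, pow_orderOf_eq_one]⟩
  refine ⟨r, V, hr, fun h => ?_, fun x hx y hy => hDc x hx.1 y hy.1, fun x hx => hx.2,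
    fun f x hx => ⟨hDchar f x hx.1, by rw [← map_pow, hx.2, map_one]⟩,
    hrd.trans (Subgroup.card_subgroup_dvd_card D)⟩
  rw [h, Subgroup.mem_bot] at hzV
  exact hr.one_lt.ne' (by rw [← hz, ← Subgroup.orderOf_coe, hzV, orderOf_one])

end CfsgLib.Coprime
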