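import Cfsg.Agent.Coprime.CentralizerPrimeDim
import Cfsg.Agent.Coprime.InvariantFactors
import Cfsg.Agent.Solvable.PGroupBasic
import Cfsg.Agent.FGSA.ThompsonNil
import Mathlib.GroupTheory.SpecificGroups.Cyclic

/-!
# Frobenius groups with small fixed points of the complement

A Frobenius group with complement of prime order acting coprimely on a solvable group on which
the complement has cyclic fixed points: the derived subgroup of the kernel acts trivially.
-/

set_option autoImplicit false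
set_option linter.style.haveILetI false
set_option linter.unusedSectionVars false

namespace CfsgLib.Coprime

universe u v

variable {A : Type u} [Group A] [Finite A]

/-- An invariant subgroup without fixed points of the kernel has order a power of the fixed points. -/
theorem card_invariant_eq_pow {U E : Subgroup A} (hnorm : E ≤ Subgroup.normalizer (U : Set A))
    (hinf : U ⊓ E = ⊥) (hfpf : ∀ e ∈ E, e ≠ 1 → ∀ u ∈ U, e * u = u * e → u = 1)
    {H : Type v} [Group H] [Finite H] (hsolv : Group.IsSolvable H)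
    (hcop : (Nat.card A).Coprime (Nat.card H)) (φ : A →* MulAut H) (W : Subgroup H)
    (hW : ∀ a ∈ U ⊔ E, ∀ x ∈ W, φ a x ∈ W) (hfix : ∀ x ∈ W, x ∈ fixedSub φ U → x = 1) :
    Nat.card W = Nat.card (W ⊓ fixedSub φ E : Subgroup H) ^ Nat.card E := by
  haveI := hsolv
  set B := U ⊔ E with hB
  have hU : U ≤ B := le_sup_left
  have hE : E ≤ B := le_sup_right
  haveI : (U.subgroupOf B).Normal :=
    (Subgroup.normal_subgroupOf_iff_le_normalizer hU).2 (sup_le Subgroup.le_normalizer hnorm)
  let ψ : B →* MulAut W := restrictAut (φ.comp B.subtype) W fun a x hx => hW a a.2 x hx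
  have hψ : ∀ (a : B) (x : W), (ψ a x : H) = φ a x := fun a x => rfl
  have hf := frobenius_formula (U := U.subgroupOf B) (E := E.subgroupOf B)
    (by rw [Subgroup.subgroupOf, Subgroup.subgroupOf, ← Subgroup.comap_inf, hinf]
        exact (MonoidHom.comap_bot _).trans (Subgroup.ker_subtype B))
    (by rw [← Subgroup.subgroupOf_sup hU hE]; exact Subgroup.subgroupOf_self _)
    (fun e he he1 u hu h => Subtype.ext (hfpf e he (fun h0 => he1 (Subtype.ext h0)) u hu
      (congrArg Subtype.val h)))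
    (Nat.card W) rfl inferInstance
    ((hcop.coprime_dvd_left (Subgroup.card_subgroup_dvd_card B)).coprime_dvd_right
      (Subgroup.card_subgroup_dvd_card W)) ψ
  have h1 : fixedSub ψ (U.subgroupOf B) = ⊥ := eq_bot_iff.2 fun x hx =>
    Subtype.ext (hfix x x.2 fun s hs => congrArg Subtype.val (hx ⟨s, hU hs⟩ hs))
  have h2 : fixedSub ψ ⊤ = ⊥ := eq_bot_iff.2 fun x hx => h1 ▸ fun s _ => hx s trivial
  rw [h1, h2, Subgroup.card_bot, one_pow, one_mul, mul_one,
    Nat.card_congr (Subgroup.subgroupOfEquivOfLe hE).toEquiv] at hf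
  rw [hf]
  congr 1
  exact Nat.card_congr
    ⟨fun x => ⟨(x : W), (x : W).2, fun s hs => congrArg Subtype.val (x.2 ⟨s, hE hs⟩ hs)⟩,
      fun y => ⟨⟨(y : H), y.2.1⟩, fun s hs => Subtype.ext (y.2.2 (s : A) hs)⟩, fun x => rfl, fun y => rfl⟩

/-- Without fixed points of the kernel the order is a power of the fixed points of the complement. -/
theorem card_eq_pow {U E : Subgroup A} (hnorm : E ≤ Subgroup.normalizer (U : Set A))
    (hinf : U ⊓ E = ⊥) (hfpf : ∀ e ∈ E, e ≠ 1 → ∀ u ∈ U, e * u = u * e → u = 1)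
    {H : Type v} [Group H] [Finite H] (hsolv : Group.IsSolvable H)
    (hcop : (Nat.card A).Coprime (Nat.card H)) (φ : A →* MulAut H) (hfix : fixedSub φ U = ⊥) :
    Nat.card H = Nat.card (fixedSub φ E) ^ Nat.card E := by
  have h := card_invariant_eq_pow hnorm hinf hfpf hsolv hcop φ ⊤ (fun _ _ _ _ => trivial)
    (fun x _ hx => by rwa [hfix, Subgroup.mem_bot] at hx)
  rwa [Subgroup.card_top, top_inf_eq] at h

variable {U E : Subgroup A} [U.Normal]

/-- The linear case. -/
theorem commute_module (hinf : U ⊓ E = ⊥)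
    (hfpf : ∀ e ∈ E, e ≠ 1 → ∀ u ∈ U, e * u = u * e → u = 1) (hp : (Nat.card E).Prime)
    {V : Type v} [CommGroup V] [Finite V] {r : ℕ} [Fact r.Prime] [Module (ZMod r) (Additive V)]
    (hcop : (Nat.card A).Coprime (Nat.card V)) (φ : A →* MulAut V) (hfix : fixedSub φ U = ⊥)
    (hE : Nat.card (fixedSub φ E) ∣ r) : ∀ a ∈ U, ∀ b ∈ U, φ (a * b) = φ (b * a) := by
  classical
  by_cases htriv : ∀ a ∈ U, φ a = 1
  · intro a ha b hb
    rw [map_mul, map_mul, htriv a ha, htriv b hb]
  push Not at htriv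
  have hr : r.Prime := Fact.out
  set p := Nat.card E with hpdef
  have hsV : Group.IsSolvable V := inferInstance
  have hUn : E ≤ Subgroup.normalizer (U : Set A) := by rw [Subgroup.normalizer_eq_top]; exact le_top
  have hV := card_eq_pow hUn hinf hfpf hsV hcop φ hfix
  have hEr : Nat.card (fixedSub φ E) = r := by
    refine ((Nat.dvd_prime hr).1 hE).resolve_left fun h => ?_
    rw [h, one_pow] at hV
    haveI : Subsingleton V := (Nat.card_eq_one_iff_unique.1 hV).1
    obtain ⟨a, -, ha⟩ := htriv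
    exact ha (MulEquiv.ext fun x => Subsingleton.elim _ _)
  rw [hEr] at hV
  -- the generator of the complement
  haveI := Fact.mk hp
  obtain ⟨r₀, hr₀⟩ := exists_prime_orderOf_dvd_card' (G := E) p (hpdef ▸ dvd_rfl)
  have hr0E : ∀ e ∈ E, e ∈ Subgroup.zpowers (r₀ : A) := by
    intro e he
    have h := Subgroup.eq_of_le_of_card_ge (Subgroup.zpowers_le.2 r₀.2)
      (by rw [Nat.card_zpowers, Subgroup.orderOf_coe, hr₀])
    rwa [h]
  have hr01 : (r₀ : A) ≠ 1 := fun h => hp.one_lt.ne' (by rw [← hr₀, ← Subgroup.orderOf_coe, h, orderOf_one])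
  -- the kernel is nilpotent, so its image has a centre
  have hnil : Group.IsNilpotent U := by
    refine CfsgLib.ThompsonNil.isNilpotent hp (MulAut.conjNormal (r₀ : A)) ?_ fun u hu => ?_
    · rw [← map_pow, ← Subgroup.coe_pow, ← hr₀, pow_orderOf_eq_one, Subgroup.coe_one, map_one]
    · have e := congrArg Subtype.val hu
      rw [MulAut.conjNormal_apply] at e
      exact Subtype.ext (hfpf r₀ r₀.2 hr01 u u.2 (mul_inv_eq_iff_eq_mul.1 e))
  let Z : Subgroup A :=
    { carrier := {z | z ∈ U ∧ ∀ u ∈ U, φ z * φ u = φ u * φ z}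
      one_mem' := ⟨U.one_mem, fun u _ => by simp⟩
      mul_mem' := fun {x y} hx hy => ⟨U.mul_mem hx.1 hy.1, fun u hu => by
        rw [map_mul, mul_assoc, hy.2 u hu, ← mul_assoc, hx.2 u hu, mul_assoc]⟩
      inv_mem' := fun {x} hx => ⟨U.inv_mem hx.1, fun u hu => by
        rw [map_inv]
        exact ((show Commute (φ x) (φ u) from hx.2 u hu).inv_left).eq⟩ }
  have hZn : Z.Normal := ⟨fun z hz g => ⟨(inferInstance : U.Normal).conj_mem z hz.1 g, fun u hu => by
    have h := hz.2 (g⁻¹ * u * g) (by simpa using (inferInstance : U.Normal).conj_mem u hu g⁻¹)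
    simp only [map_mul, map_inv] at h ⊢
    calc φ g * φ z * (φ g)⁻¹ * φ u = φ g * (φ z * ((φ g)⁻¹ * φ u * φ g)) * (φ g)⁻¹ := by group
      _ = φ g * ((φ g)⁻¹ * φ u * φ g * φ z) * (φ g)⁻¹ := by rw [h]
      _ = φ u * (φ g * φ z * (φ g)⁻¹) := by group⟩⟩
  obtain ⟨z₁, hz₁, hz₁'⟩ : ∃ z ∈ Z, φ z ≠ 1 := by
    let f := (φ.comp U.subtype).rangeRestrict
    haveI := hnil
    haveI : Group.IsNilpotent (φ.comp U.subtype).range :=
      Group.nilpotent_of_surjective f (MonoidHom.rangeRestrict_surjective _)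
    obtain ⟨a, ha, ha'⟩ := htriv
    have hne : (⊤ : Subgroup (φ.comp U.subtype).range) ≠ ⊥ := fun h => ha' (by
      have h1 : (⟨φ a, ⟨⟨a, ha⟩, rfl⟩⟩ : (φ.comp U.subtype).range) ∈ (⊥ : Subgroup _) := h ▸ trivial
      exact congrArg Subtype.val (Subgroup.mem_bot.1 h1))
    obtain ⟨⟨c, hct, hc⟩, hcne⟩ :=
      Subgroup.ne_bot_iff_exists_ne_one.1 (CfsgLib.PGroupBasic.inf_center_ne_bot _ hne)
    have hc1 : c ≠ 1 := fun h => hcne (Subtype.ext h)
    obtain ⟨⟨z, hz⟩, hzc⟩ := c.2
    have hzc' : φ z = (c : MulAut V) := hzc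
    refine ⟨z, ⟨hz, fun u hu => ?_⟩, fun h => hc1 (Subtype.ext (hzc'.symm.trans h))⟩
    have := congrArg Subtype.val ((Subgroup.mem_center_iff.1 hc) ⟨φ u, ⟨⟨u, hu⟩, rfl⟩⟩)
    rw [hzc']
    exact this.symm
  have hZU : Z ≤ U := fun z hz => hz.1
  have hZinf : Z ⊓ E = ⊥ := eq_bot_iff.2 (hinf ▸ inf_le_inf_right _ hZU)
  have hdichot : ∀ W : Subgroup V, ∀ (T : Subgroup A), T.Normal → T ≤ U →
      (∀ a ∈ T ⊔ E, ∀ x ∈ W, φ a x ∈ W) → (∀ x ∈ W, x ∈ fixedSub φ T → x = 1) → W = ⊥ ∨ W = ⊤ := by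
    intro W T hT hTU hW hWf
    haveI := hT
    have h := card_invariant_eq_pow (U := T) (E := E)
      (by rw [Subgroup.normalizer_eq_top]; exact le_top)
      (eq_bot_iff.2 (hinf ▸ inf_le_inf_right _ hTU))
      (fun e he he1 u hu => hfpf e he he1 u (hTU hu)) hsV hcop φ W hW hWf
    rcases (Nat.dvd_prime hr).1 ((Subgroup.card_dvd_of_le (inf_le_right : W ⊓ fixedSub φ E ≤ _)).trans hEr.dvd)
      with h1 | h1
    · exact .inl (Subgroup.card_eq_one.1 (by rw [h, h1, one_pow]))
    · exact .inr ((W.eq_top_of_card_eq (by rw [h, h1, hV])))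
  have hfixZ : fixedSub φ Z = ⊥ := by
    refine (hdichot (fixedSub φ Z) U inferInstance le_rfl (fun a _ x hx z hz => ?_)
      (fun x _ hx => by rwa [hfix, Subgroup.mem_bot] at hx)).resolve_right fun h => ?_
    · have h2 := hx (a⁻¹ * z * a) (by simpa using hZn.conj_mem z hz a⁻¹)
      rw [map_mul, map_mul, MulAut.mul_apply, MulAut.mul_apply] at h2
      have := congrArg (φ a) h2
      rwa [← MulAut.mul_apply, ← map_mul, mul_inv_cancel, map_one, MulAut.one_apply] at this
    · exact hz₁' (MulEquiv.ext fun x => (h ▸ trivial : x ∈ fixedSub φ Z) z₁ hz₁)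
  -- pass to operators
  let lin : A →* Module.End (ZMod r) (Additive V) :=
    { toFun := fun a => ((MonoidHom.toAdditive (φ a).toMonoidHom).toZModLinearMap r)
      map_one' := LinearMap.ext fun x => by simp
      map_mul' := fun a c => LinearMap.ext fun x => by simp }
  have hlin : ∀ a (x : V), lin a (Additive.ofMul x) = Additive.ofMul (φ a x) := fun a x => rfl
  have hinjlin : ∀ a b, lin a = lin b → φ a = φ b := fun a b h => MulEquiv.ext fun x =>
    Additive.ofMul.injective (LinearMap.congr_fun h (Additive.ofMul x))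
  haveI : Module.Free (ZMod r) (Additive V) := Module.Free.of_divisionRing (ZMod r) (Additive V)
  haveI : Module.Finite (ZMod r) (Additive V) := Module.Finite.of_finite
  have hdim : Module.finrank (ZMod r) (Additive V) = p := by
    refine Nat.pow_right_injective hr.two_le ?_
    change r ^ _ = r ^ p
    rw [← hV, Nat.card_congr (Additive.ofMul : V ≃ Additive V), Module.natCard_eq_pow_finrank (K := ZMod r),
      Nat.card_zmod]
  intro a ha b hb
  refine hinjlin _ _ ?_
  rw [map_mul, map_mul]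
  refine commute_of_prime_dim hp hdim (lin '' Z) ?_ (lin r₀) ?_ ?_ ?_ ?_ ?_ ?_ ?_
  · rintro _ ⟨x, hx, rfl⟩ _ ⟨y, hy, rfl⟩
    rw [← map_mul, ← map_mul]
    have h : φ (x * y) = φ (y * x) := by rw [map_mul, map_mul, hx.2 y hy.1]
    exact LinearMap.ext fun v => by
      change Additive.ofMul (φ (x * y) v.toMul) = Additive.ofMul (φ (y * x) v.toMul)
      rw [h]
  · rw [← map_pow, ← Subgroup.coe_pow, ← hr₀, pow_orderOf_eq_one, Subgroup.coe_one, map_one]
  · rintro _ ⟨z, hz, rfl⟩
    exact ⟨_, ⟨_, hZn.conj_mem z hz r₀, rfl⟩, by rw [← map_mul, ← map_mul]; group⟩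
  · rintro _ ⟨z, hz, rfl⟩
    exact ⟨_, ⟨_, by simpa using hZn.conj_mem z hz (r₀ : A)⁻¹, rfl⟩, by
      rw [← map_mul, ← map_mul]; group⟩
  · intro W hWZ hWR
    let W' : Subgroup V :=
      { carrier := {x | Additive.ofMul x ∈ W}
        one_mem' := W.zero_mem
        mul_mem' := fun hx hy => W.add_mem hx hy
        inv_mem' := fun hx => W.neg_mem hx }
    have hinv : ∀ a ∈ Z ⊔ E, ∀ x ∈ W', φ a x ∈ W' := by
      haveI := hZn
      intro a ha
      obtain ⟨z, hz, e, he, rfl⟩ : ∃ z ∈ Z, ∃ e ∈ E, z * e = a := by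
        have h1 : a ∈ ((Z ⊔ E : Subgroup A) : Set A) := ha
        rw [Subgroup.normal_mul Z E] at h1
        exact Set.mem_mul.1 h1
      obtain ⟨k, rfl⟩ := (mem_powers_iff_mem_zpowers (x := (r₀ : A))).2 (hr0E e he)
      intro x hx
      rw [map_mul, MulAut.mul_apply]
      refine hWZ _ ⟨z, hz, rfl⟩ _ ?_
      change φ ((r₀ : A) ^ k) x ∈ W'
      clear ha he
      induction k with
      | zero => simpa using hx
      | succ k ih =>
        rw [pow_succ', map_mul, MulAut.mul_apply]
        exact hWR _ ih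
    rcases hdichot W' Z hZn hZU hinv (fun x _ hx => by rwa [hfixZ, Subgroup.mem_bot] at hx) with h | h
    · exact .inl (eq_bot_iff.2 fun x hx => by
        have h1 : x.toMul ∈ W' := hx
        rw [h, Subgroup.mem_bot] at h1
        exact h1)
    · exact .inr (eq_top_iff.2 fun x _ => (h ▸ trivial : x.toMul ∈ W'))
  · by_contra hns
    push Not at hns
    -- scalars commute with the complement
    have hker : ∀ z ∈ Z, φ ((r₀ : A) * z * (r₀ : A)⁻¹) = φ z := by
      intro z hz
      obtain ⟨c, hc⟩ := hns _ ⟨z, hz, rfl⟩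
      refine hinjlin _ _ ?_
      have h1 : lin r₀ * lin z = lin z * lin r₀ := by
        rw [hc, mul_smul_comm, smul_mul_assoc, mul_one, one_mul]
      rw [map_mul, map_mul, h1, mul_assoc, ← map_mul, mul_inv_cancel, map_one, mul_one]
    have hinj : Set.InjOn (fun z => z⁻¹ * ((r₀ : A) * z * (r₀ : A)⁻¹)) Z := by
      intro x hx y hy hxy
      have h1 : (r₀ : A) * (y * x⁻¹) = (y * x⁻¹) * r₀ := by
        have hxy' : x⁻¹ * ((r₀ : A) * x * (r₀ : A)⁻¹) = y⁻¹ * ((r₀ : A) * y * (r₀ : A)⁻¹) := hxy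
        calc (r₀ : A) * (y * x⁻¹) = y * (y⁻¹ * ((r₀ : A) * y * (r₀ : A)⁻¹)) * r₀ * x⁻¹ := by group
          _ = (y * x⁻¹) * r₀ := by rw [← hxy']; group
      exact (mul_inv_eq_one.1 (hfpf r₀ r₀.2 hr01 _ (hZU (Z.mul_mem hy (Z.inv_mem hx))) h1)).symm
    have hsub : (fun z => z⁻¹ * ((r₀ : A) * z * (r₀ : A)⁻¹)) '' (Z : Set A) ⊆ (Z ⊓ φ.ker : Subgroup A) := by
      rintro _ ⟨z, hz, rfl⟩
      refine ⟨Z.mul_mem (Z.inv_mem hz) (hZn.conj_mem z hz r₀), ?_⟩
      change φ _ = 1
      rw [map_mul, hker z hz, map_inv, inv_mul_cancel]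
    have h2 := Set.ncard_le_ncard hsub (Set.toFinite _)
    rw [hinj.ncard_image, ← Nat.card_coe_set_eq, ← Nat.card_coe_set_eq] at h2
    have h3 := Subgroup.eq_of_le_of_card_ge (inf_le_left : Z ⊓ φ.ker ≤ Z) h2
    exact hz₁' (MonoidHom.mem_ker.1 (h3.symm ▸ hz₁ : z₁ ∈ Z ⊓ φ.ker).2)
  · rintro _ ⟨z, hz, rfl⟩
    exact LinearMap.ext fun v => by
      rw [← map_mul, ← map_mul]
      change Additive.ofMul (φ (a * z) v.toMul) = Additive.ofMul (φ (z * a) v.toMul)
      rw [map_mul, map_mul, hz.2 a ha]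
  · rintro _ ⟨z, hz, rfl⟩
    exact LinearMap.ext fun v => by
      rw [← map_mul, ← map_mul]
      change Additive.ofMul (φ (b * z) v.toMul) = Additive.ofMul (φ (z * b) v.toMul)
      rw [map_mul, map_mul, hz.2 b hb]

/-- The elementary abelian case. -/
theorem commute_elementary (hinf : U ⊓ E = ⊥) (hsup : U ⊔ E = ⊤)
    (hfpf : ∀ e ∈ E, e ≠ 1 → ∀ u ∈ U, e * u = u * e → u = 1) (hp : (Nat.card E).Prime)
    {V : Type v} [CommGroup V] [Finite V] {r : ℕ} [Fact r.Prime] (hexp : ∀ x : V, x ^ r = 1)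
    (hcop : (Nat.card A).Coprime (Nat.card V)) (φ : A →* MulAut V)
    (hE : Nat.card (fixedSub φ E) ∣ r) : ∀ a ∈ U, ∀ b ∈ U, φ (a * b) = φ (b * a) := by
  classical
  set C := fixedSub φ U with hC
  have hCinv : ∀ a, ∀ x ∈ C, φ a x ∈ C := by
    intro a x hx u hu
    have h := hx (a⁻¹ * u * a) (by simpa using (inferInstance : U.Normal).conj_mem u hu a⁻¹)
    rw [map_mul, map_mul, MulAut.mul_apply, MulAut.mul_apply] at h
    have := congrArg (φ a) h
    rwa [← MulAut.mul_apply, ← map_mul, mul_inv_cancel, map_one, MulAut.one_apply] at this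
  haveI : Group.IsSolvable C := inferInstance
  have hcopC : (Nat.card A).Coprime (Nat.card C) :=
    hcop.coprime_dvd_right (Subgroup.card_subgroup_dvd_card C)
  have hQU : fixedSub (quotientAut φ C hCinv) U = ⊥ := by
    rw [fixedSub_quotient_eq_map φ C hCinv hcopC, eq_bot_iff]
    rintro _ ⟨x, hx, rfl⟩
    exact (QuotientGroup.eq_one_iff x).2 hx
  have hQE : Nat.card (fixedSub (quotientAut φ C hCinv) E) ∣ r := by
    rw [fixedSub_quotient_eq_map φ C hCinv hcopC]
    exact (Subgroup.card_map_dvd _ _).trans hE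
  have hexpQ : ∀ x : V ⧸ C, x ^ r = 1 := fun x => by
    obtain ⟨y, rfl⟩ := QuotientGroup.mk'_surjective C x
    rw [← map_pow, hexp, map_one]
  have hQ := @commute_module A _ _ U E _ hinf hfpf hp (V ⧸ C) _ _ r _
    (AddCommGroup.zmodModule fun x => Additive.toMul.injective (by rw [toMul_nsmul]; exact hexpQ _))
    (hcop.coprime_dvd_right (by rw [← Subgroup.index_eq_card]; exact Subgroup.index_dvd_card C))
    (quotientAut φ C hCinv) hQU hQE
  intro a ha b hb
  have h1 : φ ((b * a)⁻¹ * (a * b)) = 1 := by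
    refine eq_one_of_stabilizes φ C hCinv _ (hcopC.coprime_dvd_left (orderOf_dvd_natCard _)) ?_ ?_
    · exact MulEquiv.ext fun x => Subtype.ext
        (x.2 _ (U.mul_mem (U.inv_mem (U.mul_mem hb ha)) (U.mul_mem ha hb)))
    · rw [map_mul, map_inv, hQ a ha b hb, inv_mul_cancel]
  rw [map_mul, map_inv, inv_mul_eq_one] at h1
  exact h1.symm

/-- The solvable case with cyclic fixed points of the complement. -/
theorem commute_of_cyclic_fixed (hinf : U ⊓ E = ⊥) (hsup : U ⊔ E = ⊤)
    (hfpf : ∀ e ∈ E, e ≠ 1 → ∀ u ∈ U, e * u = u * e → u = 1) (hp : (Nat.card E).Prime) :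
    ∀ (m : ℕ) {H : Type v} [Group H] [Finite H], Nat.card H = m → Group.IsSolvable H →
      (Nat.card A).Coprime (Nat.card H) → ∀ φ : A →* MulAut H, IsCyclic (fixedSub φ E) →
      ∀ a ∈ U, ∀ b ∈ U, φ (a * b) = φ (b * a) := by
  classical
  intro m
  induction m using Nat.strong_induction_on with
  | _ m ih =>
    intro H _ _ hm hsolv hcop φ hcyc a ha b hb
    by_cases hH : Subsingleton H
    · exact MulEquiv.ext fun x => Subsingleton.elim _ _
    rw [not_subsingleton_iff_nontrivial] at hH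
    haveI := hsolv
    obtain ⟨r, W, hr, hW1, hWc, hWe, hWchar, -⟩ := exists_char_elementary hsolv
    haveI := Fact.mk hr
    haveI : W.Normal := ⟨fun x hx g => hWchar (MulAut.conj g) x hx⟩
    have hWinv : ∀ a, ∀ x ∈ W, φ a x ∈ W := fun a x hx => hWchar (φ a) x hx
    letI : CommGroup W := { (inferInstance : Group W) with
      mul_comm := fun x y => Subtype.ext (hWc x x.2 y y.2) }
    have hcopW : (Nat.card A).Coprime (Nat.card W) :=
      hcop.coprime_dvd_right (Subgroup.card_subgroup_dvd_card W)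
    haveI := hcyc
    have hWE : Nat.card (fixedSub (restrictAut φ W hWinv) E) ∣ r := by
      let f : fixedSub (restrictAut φ W hWinv) E →* fixedSub φ E :=
        (W.subtype.comp (fixedSub (restrictAut φ W hWinv) E).subtype).codRestrict _
          fun x s hs => congrArg Subtype.val (x.2 s hs)
      haveI : IsCyclic (fixedSub (restrictAut φ W hWinv) E) := isCyclic_of_injective f
        fun x y h => Subtype.ext (Subtype.ext (congrArg (fun z : fixedSub φ E => (z : H)) h :))
      rw [← IsCyclic.exponent_eq_card]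
      exact Monoid.exponent_dvd_of_forall_pow_eq_one fun x => Subtype.ext (Subtype.ext (hWe _ (x : W).2))
    have hA := commute_elementary hinf hsup hfpf hp (fun x : W => Subtype.ext (hWe x x.2)) hcopW
      (restrictAut φ W hWinv) hWE a ha b hb
    have hlt : Nat.card (H ⧸ W) < m := by
      rw [← hm, ← Subgroup.index_eq_card, ← W.card_mul_index]
      exact lt_mul_of_one_lt_left (Nat.pos_of_ne_zero W.index_ne_zero_of_finite)
        ((Subgroup.one_lt_card_iff_ne_bot W).2 hW1)
    have hQcyc : IsCyclic (fixedSub (quotientAut φ W hWinv) E) := by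
      rw [fixedSub_quotient_eq_map φ W hWinv hcopW]
      exact isCyclic_of_surjective _ ((QuotientGroup.mk' W).subgroupMap_surjective _)
    have hB := ih _ hlt rfl (Group.isSolvable_of_surjective (QuotientGroup.mk'_surjective W))
      (hcop.coprime_dvd_right (by rw [← Subgroup.index_eq_card]; exact Subgroup.index_dvd_card W))
      (quotientAut φ W hWinv) hQcyc a ha b hb
    have h1 : φ ((b * a)⁻¹ * (a * b)) = 1 := by
      refine eq_one_of_stabilizes φ W hWinv _ (hcopW.coprime_dvd_left (orderOf_dvd_natCard _)) ?_ ?_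
      · rw [map_mul, map_inv, hA, inv_mul_cancel]
      · rw [map_mul, map_inv, hB, inv_mul_cancel]
    rw [map_mul, map_inv, inv_mul_eq_one] at h1
    exact h1.symm

end CfsgLib.Coprime
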