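import Cfsg.Agent.Coprime.Generation
import Mathlib.GroupTheory.Schreier
import Mathlib.GroupTheory.Abelianization.Defs

/-!
An elementary abelian group of order `q ^ 3` acting coprimely: if the derived subgroups of the fixed
subgroups of the nontrivial elements have bounded order, so does the derived subgroup of the group.

`G'` is generated by the elements of `C(B) ∩ C(a)'` (`|B| ≥ q ^ 2`), each `C(B)` meets its centraliser
in bounded index, so `|G : C(G')|` is bounded and Schur's theorem applies.
-/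

set_option autoImplicit false
set_option linter.style.haveILetI false
set_option linter.unusedSectionVars false

namespace CfsgLib.Coprime.BoundedDerived

open Subgroup
open scoped commutatorElement

universe u v

variable {G : Type u} [Group G] [Finite G] {A : Type v} [CommGroup A] [Finite A]
  [MulDistribMulAction A G]

/-- Elements fixed by the subgroup `B`. -/
def fix (B : Subgroup A) : Subgroup G where
  carrier := {g | ∀ b ∈ B, b • g = g}
  one_mem' := fun b _ => smul_one b
  mul_mem' := fun {x y} hx hy b hb => by rw [smul_mul', hx b hb, hy b hb]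
  inv_mem' := fun {x} hx b hb => by rw [smul_inv', hx b hb]

/-- The subgroups of order at least `q ^ 2`. -/
abbrev Large (A : Type v) [CommGroup A] (q : ℕ) : Type v := {B : Subgroup A // q ^ 2 ≤ Nat.card B}

theorem exists_common {q : ℕ} (hq : q.Prime) (hA : Nat.card A = q ^ 3) (B₁ B₂ : Large A q) :
    ∃ a : A, a ≠ 1 ∧ a ∈ B₁.1 ∧ a ∈ B₂.1 := by
  by_contra! h
  have hinf : B₁.1 ⊓ B₂.1 = ⊥ := (Subgroup.eq_bot_iff_forall _).2 fun a ha => by
    by_contra h1
    exact h a h1 ha.1 ha.2
  have hinj : Function.Injective (fun x : B₁.1 × B₂.1 => (x.1 : A) * x.2) :=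
    Subgroup.mul_injective_of_disjoint (disjoint_iff.2 hinf)
  have h1 := Nat.card_le_card_of_injective _ hinj
  rw [Nat.card_prod, hA] at h1
  have h2 := (Nat.mul_le_mul B₁.2 B₂.2).trans h1
  rw [← pow_add] at h2
  exact absurd ((Nat.pow_le_pow_iff_right hq.one_lt).1 h2) (by norm_num)

theorem mem_of_zpow_mem {q : ℕ} (hq : q.Prime) {b : A} (hb : b ^ q = 1) {i : ℤ} {S : Subgroup A}
    (h : b ^ i ∈ S) (hne : b ^ i ≠ 1) : b ∈ S := by
  haveI : Fact q.Prime := ⟨hq⟩
  have hb1 : b ≠ 1 := fun e => hne (by rw [e, one_zpow])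
  have h1 : zpowers (b ^ i) = zpowers b := eq_of_le_of_card_ge
    (zpowers_le.2 (zpow_mem (mem_zpowers b) i))
    (by rw [Nat.card_zpowers, Nat.card_zpowers, orderOf_eq_prime hb hb1,
      orderOf_eq_prime (by rw [← zpow_natCast, ← zpow_mul, mul_comm, zpow_mul, zpow_natCast, hb,
        one_zpow]) hne])
  exact zpowers_le.2 h (h1 ▸ mem_zpowers b)

/-- Generation of an invariant subgroup by the fixed points of large subgroups. -/
theorem le_iSup_fix {q : ℕ} (hq : q.Prime) (hA : Nat.card A = q ^ 3) (hAe : ∀ a : A, a ^ q = 1)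
    (hcop : (Nat.card A).Coprime (Nat.card G)) (M : Subgroup G) (hM : IsInvariant A M) :
    M ≤ ⨆ B : Large A q, M ⊓ fix B.1 := by
  have hncyc : ∀ E : Subgroup A, q < Nat.card E → ¬ IsCyclic E := by
    intro E hE hc
    obtain ⟨x, hx⟩ := hc.exists_generator
    have h1 : orderOf x ≤ q := Nat.le_of_dvd hq.pos (orderOf_dvd_of_pow_eq_one
      (Subtype.ext (by rw [Subgroup.coe_pow, hAe, Subgroup.coe_one])))
    rw [orderOf_eq_card_of_forall_mem_zpowers hx] at h1
    omega
  -- generation inside one invariant subgroup by one noncyclic subgroup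
  have gen : ∀ (E : Subgroup A), q < Nat.card E → ∀ (N : Subgroup G), IsInvariant A N →
      N ≤ Subgroup.closure {g : G | g ∈ N ∧ ∃ a ∈ E, a ≠ 1 ∧ a • g = g} := by
    intro E hE N hN
    letI : SMul E N := ⟨fun a x => ⟨(a : A) • (x : G), hN (a : A) x x.2⟩⟩
    have hcoe : ∀ (a : E) (x : N), ((a • x : N) : G) = (a : A) • (x : G) := fun _ _ => rfl
    letI : MulDistribMulAction E N :=
      { one_smul := fun x => Subtype.ext (by rw [hcoe, Subgroup.coe_one, one_smul])
        mul_smul := fun a b x => Subtype.ext (by rw [hcoe, Subgroup.coe_mul, mul_smul, hcoe, hcoe])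
        smul_mul := fun a x y => Subtype.ext (by simp only [hcoe, Subgroup.coe_mul, smul_mul'])
        smul_one := fun a => Subtype.ext (by rw [hcoe, Subgroup.coe_one, smul_one]) }
    have h := closure_fixed_eq_top (A := E) (G := N) (hncyc E hE)
      ((hcop.coprime_dvd_left (Subgroup.card_subgroup_dvd_card E)).coprime_dvd_right
        (Subgroup.card_subgroup_dvd_card N))
    intro g hg
    have h2 : (⊤ : Subgroup N).map N.subtype ≤
        Subgroup.closure {g : G | g ∈ N ∧ ∃ a ∈ E, a ≠ 1 ∧ a • g = g} := by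
      rw [← h, MonoidHom.map_closure, Subgroup.closure_le]
      rintro _ ⟨x, ⟨a, ha, hax⟩, rfl⟩
      exact subset_closure ⟨x.2, a, a.2, fun e => ha (Subtype.ext e), by
        rw [Subgroup.coe_subtype, ← hcoe, hax]⟩
    exact h2 ⟨⟨g, hg⟩, mem_top _, rfl⟩
  haveI : Fact q.Prime := ⟨hq⟩
  obtain ⟨E₀, hE₀⟩ : ∃ E₀ : Subgroup A, Nat.card E₀ = q ^ 3 := ⟨⊤, by rw [card_top, hA]⟩
  refine (gen E₀ (by rw [hE₀]; calc q = q ^ 1 := (pow_one q).symm
                                    _ < q ^ 3 := Nat.pow_lt_pow_right hq.one_lt (by norm_num))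
    M hM).trans ((Subgroup.closure_le _).2 ?_)
  rintro g ⟨hg, a, -, ha, hag⟩
  -- second step: inside the fixed points of `a`
  have hpA : IsPGroup q A := IsPGroup.of_card hA
  obtain ⟨W, haW, hW⟩ : ∃ W : Subgroup A, zpowers a ≤ W ∧ Nat.card W = q ^ 1 :=
    ⟨zpowers a, le_rfl, by
      rw [Nat.card_zpowers, pow_one, orderOf_eq_prime (hAe a) ha]⟩
  -- a complement of `a` of order `q ^ 2`
  obtain ⟨E, hE, haE⟩ : ∃ E : Subgroup A, Nat.card E = q ^ 2 ∧ a ∉ E := by
    obtain ⟨b, hb⟩ : ∃ b, b ∉ W := by
      by_contra! h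
      have : Nat.card W = q ^ 3 := by
        rw [show W = ⊤ from eq_top_iff.2 fun x _ => h x, card_top, hA]
      rw [hW] at this
      exact absurd (Nat.pow_right_injective hq.two_le this) (by norm_num)
    have hWb : zpowers a ⊔ zpowers b ≠ ⊤ := by
      intro htop
      have hinj : Function.Surjective (fun x : zpowers a × zpowers b => (x.1 : A) * x.2) := by
        intro y
        have : y ∈ ((zpowers a ⊔ zpowers b : Subgroup A) : Set A) := by rw [htop]; trivial
        rw [Subgroup.mul_normal] at this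
        obtain ⟨x, hx, z, hz, rfl⟩ := this
        exact ⟨(⟨x, hx⟩, ⟨z, hz⟩), rfl⟩
      have h1 := Nat.card_le_card_of_surjective _ hinj
      rw [Nat.card_prod, hA, Nat.card_zpowers, Nat.card_zpowers, orderOf_eq_prime (hAe a) ha,
        orderOf_eq_prime (hAe b) (fun e => hb (e ▸ one_mem W))] at h1
      have : q * q < q ^ 3 := by rw [← sq]; exact Nat.pow_lt_pow_right hq.one_lt (by norm_num)
      omega
    obtain ⟨c, hc⟩ : ∃ c, c ∉ zpowers a ⊔ zpowers b := by
      by_contra! h; exact hWb (eq_top_iff.2 fun x _ => h x)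
    have key : ∀ i : ℤ, b ^ i ∈ zpowers a → b ^ i = 1 := by
      intro i hi
      by_contra hne
      exact hb (haW (mem_of_zpow_mem hq (hAe b) hi hne))
    refine ⟨zpowers b ⊔ zpowers c, ?_, fun hm => ?_⟩
    · have hdis : Disjoint (zpowers b) (zpowers c) := by
        rw [Subgroup.disjoint_def]
        rintro x hxb ⟨i, rfl⟩
        by_contra hne
        exact hc (mem_sup_right (mem_of_zpow_mem hq (hAe c) hxb hne))
      have hb1 : b ≠ 1 := fun e => hb (e ▸ one_mem W)
      have hc1 : c ≠ 1 := fun e => hc (e ▸ one_mem _)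
      refine le_antisymm ?_ ?_
      · have hsurj : Function.Surjective (fun x : zpowers b × zpowers c =>
            (⟨(x.1 : A) * x.2, mul_mem_sup x.1.2 x.2.2⟩ : ↥(zpowers b ⊔ zpowers c))) := by
          rintro ⟨y, hy⟩
          obtain ⟨x, hx, z, hz, rfl⟩ := Subgroup.mem_sup.1 hy
          exact ⟨(⟨x, hx⟩, ⟨z, hz⟩), rfl⟩
        have h1 := Nat.card_le_card_of_surjective _ hsurj
        rw [Nat.card_prod, Nat.card_zpowers, Nat.card_zpowers, orderOf_eq_prime (hAe b) hb1,
          orderOf_eq_prime (hAe c) hc1] at h1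
        rwa [sq]
      · have hinj : Function.Injective (fun x : zpowers b × zpowers c =>
            (⟨(x.1 : A) * x.2, mul_mem_sup x.1.2 x.2.2⟩ : ↥(zpowers b ⊔ zpowers c))) :=
          fun x y h => Subgroup.mul_injective_of_disjoint hdis (congrArg Subtype.val h)
        have h1 := Nat.card_le_card_of_injective _ hinj
        rw [Nat.card_prod, Nat.card_zpowers, Nat.card_zpowers, orderOf_eq_prime (hAe b) hb1,
          orderOf_eq_prime (hAe c) hc1] at h1
        rwa [sq]
    · obtain ⟨x, hx, z, hz, hxz⟩ := Subgroup.mem_sup.1 hm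
      obtain ⟨i, rfl⟩ := hx
      obtain ⟨j, rfl⟩ := hz
      change b ^ i * c ^ j = a at hxz
      by_cases hd : c ^ j = 1
      · rw [hd, mul_one] at hxz
        exact ha (hxz ▸ key i (hxz ▸ mem_zpowers a))
      · refine hc (mem_of_zpow_mem hq (hAe c) ?_ hd)
        rw [eq_inv_mul_iff_mul_eq.2 hxz]
        exact mul_mem (inv_mem (mem_sup_right (zpow_mem (mem_zpowers b) i)))
          (mem_sup_left (mem_zpowers a))
  have hN : IsInvariant A (M ⊓ fix (zpowers a)) := hM.inf fun x n hn b hb => by
    rw [← mul_smul, mul_comm, mul_smul, hn b hb]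
  have hgN : g ∈ M ⊓ fix (zpowers a) := ⟨hg, fun b hb => by
    have hs : a ∈ MulAction.stabilizer A g := hag
    exact (zpowers_le.2 hs) hb⟩
  refine (gen E (by rw [hE]; calc q = q ^ 1 := (pow_one q).symm
                                  _ < q ^ 2 := Nat.pow_lt_pow_right hq.one_lt (by norm_num))
    _ hN).trans ((Subgroup.closure_le _).2 ?_) hgN
  rintro y ⟨⟨hy, hya⟩, e, he, he1, hey⟩
  set B := zpowers a ⊔ zpowers e
  have hcard : q ^ 2 ≤ Nat.card B := by
    have hdis : Disjoint (zpowers a) (zpowers e) := by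
      rw [disjoint_iff]
      have h1 : Nat.card ↥(zpowers a ⊓ zpowers e) ∣ q := by
        have := Subgroup.card_dvd_of_le (inf_le_left : zpowers a ⊓ zpowers e ≤ zpowers a)
        rwa [Nat.card_zpowers, orderOf_eq_prime (hAe a) ha] at this
      rcases (Nat.dvd_prime hq).1 h1 with h | h
      · exact eq_bot_of_card_eq _ h
      · exfalso
        have h2 : zpowers a ⊓ zpowers e = zpowers a := eq_of_le_of_card_ge inf_le_left (by
          rw [h, Nat.card_zpowers, orderOf_eq_prime (hAe a) ha])
        exact haE (zpowers_le.2 he ((inf_eq_left.1 h2) (mem_zpowers a)))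
    have hinj : Function.Injective (fun x : zpowers a × zpowers e =>
        (⟨(x.1 : A) * x.2, mul_mem_sup x.1.2 x.2.2⟩ : B)) :=
      fun x y h => Subgroup.mul_injective_of_disjoint hdis (congrArg Subtype.val h)
    have h1 := Nat.card_le_card_of_injective _ hinj
    rw [Nat.card_prod, Nat.card_zpowers, Nat.card_zpowers, orderOf_eq_prime (hAe a) ha,
      orderOf_eq_prime (hAe e) he1] at h1
    rwa [sq]
  refine le_iSup (fun B : Large A q => M ⊓ fix B.1) ⟨B, hcard⟩ ⟨hy, ?_⟩
  have hs : B ≤ MulAction.stabilizer A y :=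
    sup_le (zpowers_le.2 (hya a (mem_zpowers a))) (zpowers_le.2 hey)
  exact fun b hb => hs hb

/-! ### Counting -/

theorem card_map_mul_inf (N : Subgroup G) [N.Normal] (X : Subgroup G) :
    Nat.card (X.map (QuotientGroup.mk' N)) * Nat.card (X ⊓ N : Subgroup G) = Nat.card X := by
  have h1 := Subgroup.card_mul_index (N.subgroupOf X)
  rw [show (N.subgroupOf X).index = N.relIndex X from rfl] at h1
  have h2 : N.relIndex X = Nat.card (X.map (QuotientGroup.mk' N)) := by
    have h3 : ((⊥ : Subgroup (G ⧸ N)).comap (QuotientGroup.mk' N)).relIndex X =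
        (⊥ : Subgroup (G ⧸ N)).relIndex (X.map (QuotientGroup.mk' N)) :=
      Subgroup.relIndex_comap _ _ _
    rwa [MonoidHom.comap_bot, QuotientGroup.ker_mk', Subgroup.relIndex_bot_left] at h3
  rw [← h2, mul_comm, ← h1, ← Subgroup.inf_subgroupOf_left N X]
  congr 1
  exact (Nat.card_congr (Subgroup.subgroupOfEquivOfLe (inf_le_left : X ⊓ N ≤ X)).toEquiv).symm

theorem card_iSup_le {C : Type u} [CommGroup C] [Finite C] {ι : Type v} (s : Finset ι)
    (H : ι → Subgroup C) :
    Nat.card (⨆ i ∈ s, H i : Subgroup C) ≤ ∏ i ∈ s, Nat.card (H i) := by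
  classical
  induction s using Finset.induction with
  | empty => simp
  | insert i s hi ih =>
    rw [Finset.iSup_insert, Finset.prod_insert hi]
    set K := ⨆ j ∈ s, H j
    have hsurj : Function.Surjective
        (fun x : H i × K => (⟨(x.1 : C) * x.2, mul_mem_sup x.1.2 x.2.2⟩ : ↥(H i ⊔ K))) := by
      rintro ⟨y, hy⟩
      obtain ⟨x, hx, z, hz, rfl⟩ := Subgroup.mem_sup.1 hy
      exact ⟨(⟨x, hx⟩, ⟨z, hz⟩), rfl⟩
    refine (Nat.card_le_card_of_surjective _ hsurj).trans ?_
    rw [Nat.card_prod]
    exact Nat.mul_le_mul_left _ ih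

/-- The image of a solvable invariant subgroup is bounded by the images of its fixed points. -/
theorem card_image_le {q : ℕ} (hq : q.Prime) (hA : Nat.card A = q ^ 3) (hAe : ∀ a : A, a ^ q = 1)
    (hcop : (Nat.card A).Coprime (Nat.card G)) [Fintype (Large A q)] {H : Type u} [Group H]
    [Finite H] (π : G →* H) :
    ∀ (n : ℕ) (M : Subgroup G), Nat.card M ≤ n → IsInvariant A M → Group.IsSolvable M →
      Nat.card (M.map π) ≤ ∏ B : Large A q, Nat.card ((M ⊓ fix B.1).map π) := by
  classical
  intro n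
  induction n with
  | zero => intro M hM; exact absurd (Nat.card_pos (α := M)) (by omega)
  | succ n ih =>
    intro M hMn hMinv hMsol
    rcases eq_or_ne M ⊥ with rfl | hM1
    · simp only [Subgroup.map_bot, bot_inf_eq, card_bot, Finset.prod_const_one, le_refl]
    haveI := hMsol
    haveI : Nontrivial M := M.nontrivial_iff_ne_bot.2 hM1
    have hlt : ⁅M, M⁆ < M := by
      rw [← Subgroup.map_subtype_commutator M]
      conv_rhs => rw [← M.range_subtype, MonoidHom.range_eq_map]
      exact (Subgroup.map_lt_map_iff_of_injective M.subtype_injective).2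
        (Group.IsSolvable.commutator_lt_top_of_nontrivial M)
    have hLcard : Nat.card (⁅M, M⁆ : Subgroup G) < Nat.card M := by
      by_contra hle
      exact hlt.ne (eq_of_le_of_card_ge hlt.le (not_lt.1 hle))
    have hihL := ih ⁅M, M⁆ (by omega) hMinv.commutator
      (Group.isSolvable_of_isSolvable_injective (Subgroup.inclusion_injective hlt.le))
    -- work inside `π M`
    set Mb := M.map π
    let f : M →* Mb := π.subgroupMap M
    have hf : Function.Surjective f := π.subgroupMap_surjective M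
    set L := commutator Mb
    haveI : Finite (Abelianization Mb) := inferInstanceAs (Finite (Mb ⧸ commutator Mb))
    have hL : (⁅M, M⁆ : Subgroup G).map π = L.map Mb.subtype := by
      rw [map_subtype_commutator, Subgroup.map_commutator]
    let π' : M →* Abelianization Mb := Abelianization.of.comp f
    have hgen : (⊤ : Subgroup (Abelianization Mb)) =
        ⨆ B ∈ (Finset.univ : Finset (Large A q)), ((M ⊓ fix B.1).subgroupOf M).map π' := by
      refine le_antisymm ?_ le_top
      have hsur : Function.Surjective π' :=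
        (QuotientGroup.mk'_surjective _).comp hf
      rw [← Subgroup.map_top_of_surjective π' hsur]
      refine (Subgroup.map_mono (f := π')
        (show (⊤ : Subgroup M) ≤ ⨆ B : Large A q, (M ⊓ fix B.1).subgroupOf M from ?_)).trans ?_
      · rw [← Subgroup.map_le_map_iff_of_injective M.subtype_injective, Subgroup.map_iSup,
          ← MonoidHom.range_eq_map, M.range_subtype]
        refine (le_iSup_fix hq hA hAe hcop M hMinv).trans (iSup_mono fun B x hx => ?_)
        exact ⟨⟨x, hx.1⟩, Subgroup.mem_subgroupOf.2 hx, rfl⟩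
      · rw [Subgroup.map_iSup]
        exact iSup_le fun B => le_iSup₂_of_le B (Finset.mem_univ B) le_rfl
    have hab := card_iSup_le Finset.univ
      (fun B : Large A q => ((M ⊓ fix B.1).subgroupOf M).map π')
    rw [← hgen, card_top] at hab
    have hfac : ∀ B : Large A q, Nat.card (((M ⊓ fix B.1).subgroupOf M).map π') *
        Nat.card ((⁅M, M⁆ ⊓ fix B.1).map π) ≤ Nat.card ((M ⊓ fix B.1).map π) := by
      intro B
      set X := ((M ⊓ fix B.1).subgroupOf M).map f
      have e1 : ((M ⊓ fix B.1).subgroupOf M).map π' = X.map (QuotientGroup.mk' L) := by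
        rw [Subgroup.map_map]; rfl
      have e2 : (M ⊓ fix B.1).map π = X.map Mb.subtype := by
        rw [Subgroup.map_map]
        ext y
        constructor
        · rintro ⟨x, hx, rfl⟩
          exact ⟨⟨x, hx.1⟩, Subgroup.mem_subgroupOf.2 hx, rfl⟩
        · rintro ⟨x, hx, rfl⟩
          exact ⟨x, Subgroup.mem_subgroupOf.1 hx, rfl⟩
      rw [e1, e2, Subgroup.card_map_of_injective Mb.subtype_injective, ← card_map_mul_inf L X]
      refine Nat.mul_le_mul_left _ ?_
      rw [← Subgroup.card_map_of_injective (K := X ⊓ L) Mb.subtype_injective]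
      refine Subgroup.card_le_of_le ?_
      rintro _ ⟨x, hx, rfl⟩
      refine ⟨⟨π x, mem_map_of_mem π (hlt.le hx.1)⟩, ⟨⟨⟨x, hlt.le hx.1⟩,
        Subgroup.mem_subgroupOf.2 ⟨hlt.le hx.1, hx.2⟩, rfl⟩, ?_⟩, rfl⟩
      have : π x ∈ L.map Mb.subtype := hL ▸ mem_map_of_mem π hx.1
      obtain ⟨w, hw, hwx⟩ := this
      rwa [show (⟨π x, mem_map_of_mem π (hlt.le hx.1)⟩ : Mb) = w from Subtype.ext hwx.symm]
    calc Nat.card Mb = Nat.card (Abelianization Mb) * Nat.card L :=
          Subgroup.card_eq_card_quotient_mul_card_subgroup L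
      _ = Nat.card (Abelianization Mb) * Nat.card ((⁅M, M⁆ : Subgroup G).map π) := by
          rw [hL, Subgroup.card_map_of_injective Mb.subtype_injective]
      _ ≤ (∏ B : Large A q, Nat.card (((M ⊓ fix B.1).subgroupOf M).map π')) *
            ∏ B : Large A q, Nat.card ((⁅M, M⁆ ⊓ fix B.1).map π) := Nat.mul_le_mul hab hihL
      _ ≤ _ := by
          rw [← Finset.prod_mul_distrib]
          exact Finset.prod_le_prod' fun B _ => hfac B

/-! ### The bound -/

theorem card_commutatorSet_le {K : Type u} [Group K] [Finite K] :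
    Nat.card (commutatorSet K) ≤ (center K).index * (center K).index := by
  have hz : ∀ (a b z : K), z ∈ center K → ⁅a * z, b⁆ = ⁅a, b⁆ ∧ ⁅a, b * z⁆ = ⁅a, b⁆ := by
    intro a b z hz
    have h := fun g => mem_center_iff.1 hz g
    constructor
    · rw [commutatorElement_def, commutatorElement_def, mul_inv_rev]
      calc a * z * b * (z⁻¹ * a⁻¹) * b⁻¹ = a * (z * b) * z⁻¹ * a⁻¹ * b⁻¹ := by group
        _ = a * (b * z) * z⁻¹ * a⁻¹ * b⁻¹ := by rw [← h b]
        _ = _ := by group
    · rw [commutatorElement_def, commutatorElement_def, mul_inv_rev]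
      calc a * (b * z) * a⁻¹ * (z⁻¹ * b⁻¹) = a * b * (z * a⁻¹) * z⁻¹ * b⁻¹ := by group
        _ = a * b * (a⁻¹ * z) * z⁻¹ * b⁻¹ := by rw [← h a⁻¹]
        _ = _ := by group
  let f : (K ⧸ center K) × (K ⧸ center K) → commutatorSet K := fun x =>
    ⟨⁅x.1.out, x.2.out⁆, x.1.out, x.2.out, rfl⟩
  have hf : Function.Surjective f := by
    rintro ⟨_, a, b, rfl⟩
    refine ⟨(QuotientGroup.mk a, QuotientGroup.mk b), Subtype.ext ?_⟩
    obtain ⟨z, hz1⟩ := QuotientGroup.mk_out_eq_mul (center K) a
    obtain ⟨w, hw1⟩ := QuotientGroup.mk_out_eq_mul (center K) b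
    show ⁅_, _⁆ = ⁅a, b⁆
    rw [hz1, hw1, (hz a _ z z.2).1, (hz a b w w.2).2]
  exact (Nat.card_le_card_of_surjective f hf).trans_eq (by rw [Nat.card_prod]; rfl)

/-- The bound used. -/
def bound (q m : ℕ) : ℕ :=
  let d := q ^ 3 * m + 1
  let N := Nat.factorial ((d ^ d) ^ 2 ^ (q ^ 3))
  d ^ d * N ^ (N * (N * N) + 1)

theorem card_commutator_le {q m : ℕ} (hq : q.Prime) (hA : Nat.card A = q ^ 3)
    (hAe : ∀ a : A, a ^ q = 1) (hcop : (Nat.card A).Coprime (Nat.card G))
    (hm : ∀ a : A, a ≠ 1 → Nat.card (⁅(fix (zpowers a) : Subgroup G), fix (zpowers a)⁆ :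
      Subgroup G) ≤ m) :
    Nat.card (commutator G) ≤ bound q m := by
  classical
  haveI := Fintype.ofFinite A
  haveI := Fintype.ofFinite G
  haveI := Fintype.ofFinite (Large A q)
  -- derived fixed subgroups
  let D : Finset G := (Finset.univ.filter fun a : A => a ≠ 1).biUnion fun a =>
    Finset.univ.filter (fun g => g ∈ (⁅(fix (zpowers a) : Subgroup G), fix (zpowers a)⁆ : Subgroup G))
  have hmemD : ∀ g, g ∈ D ↔
      ∃ a : A, a ≠ 1 ∧ g ∈ (⁅(fix (zpowers a) : Subgroup G), fix (zpowers a)⁆ : Subgroup G) := fun g => by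
    simp [D]
  have hDcard : D.card ≤ q ^ 3 * m := by
    refine Finset.card_biUnion_le.trans ?_
    refine (Finset.sum_le_card_nsmul _ _ m fun a ha => ?_).trans ?_
    · have h := hm a (Finset.mem_filter.1 ha).2
      rwa [Nat.card_eq_fintype_card, Fintype.card_subtype] at h
    · rw [smul_eq_mul, ← hA, Nat.card_eq_fintype_card]
      exact Nat.mul_le_mul_right _ (Finset.card_le_univ _)
  obtain ⟨d, hd⟩ : ∃ d, d = q ^ 3 * m + 1 := ⟨_, rfl⟩
  let E : Finset G := D.filter fun g => ∃ B : Large A q, g ∈ (fix B.1 : Subgroup G)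
  have hEcard : E.card ≤ d := (Finset.card_filter_le _ _).trans (by omega)
  set K := Subgroup.closure (E : Set G)
  have hcommD : ∀ (B₁ B₂ : Large A q), ∀ x ∈ (fix B₁.1 : Subgroup G), ∀ y ∈ (fix B₂.1 : Subgroup G),
      ⁅x, y⁆ ∈ D := by
    intro B₁ B₂ x hx y hy
    obtain ⟨a, ha, ha1, ha2⟩ := exists_common hq hA B₁ B₂
    exact (hmemD _).2 ⟨a, ha, commutator_mem_commutator
      (fun b hb => hx b (zpowers_le.2 ha1 hb)) (fun b hb => hy b (zpowers_le.2 ha2 hb))⟩
  have hinvfix : ∀ a : A, IsInvariant A (fix (zpowers a) : Subgroup G) := fun a x n hn b hb => by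
    rw [← mul_smul, mul_comm, mul_smul, hn b hb]
  have hDK : ∀ g ∈ D, g ∈ K := by
    intro g hg
    obtain ⟨a, ha, hga⟩ := (hmemD g).1 hg
    refine (le_iSup_fix hq hA hAe hcop _ (hinvfix a).commutator).trans (iSup_le fun B => ?_) hga
    exact fun y hy => subset_closure (Finset.mem_coe.2 (Finset.mem_filter.2
      ⟨(hmemD y).2 ⟨a, ha, hy.1⟩, B, hy.2⟩))
  have htop : (⊤ : Subgroup G) ≤ ⨆ B : Large A q, (fix B.1 : Subgroup G) :=
    (le_iSup_fix hq hA hAe hcop ⊤ (fun _ _ _ => mem_top _)).trans (iSup_mono fun B => inf_le_right)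
  have hKn : K.Normal := by
    refine normalizer_eq_top_iff.1 (eq_top_iff.2 (htop.trans (iSup_le fun B y hy => ?_)))
    have hle : ∀ w ∈ (fix B.1 : Subgroup G), ∀ x ∈ K, w * x * w⁻¹ ∈ K := by
      intro w hw x hx
      have h : K ≤ K.comap (MulAut.conj w).toMonoidHom := by
        refine (Subgroup.closure_le _).2 fun e he => ?_
        obtain ⟨heD, B', heB⟩ := Finset.mem_filter.1 (Finset.mem_coe.1 he)
        show w * e * w⁻¹ ∈ K
        rw [show w * e * w⁻¹ = ⁅w, e⁆ * e by rw [commutatorElement_def]; group]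
        exact mul_mem (hDK _ (hcommD B B' w hw e heB)) (hDK _ heD)
      exact h hx
    refine mem_normalizer_iff.2 fun x => ⟨hle y hy x, fun hx => ?_⟩
    have := hle y⁻¹ (inv_mem hy) _ hx
    simpa [mul_assoc] using this
  haveI := hKn
  have hKeq : commutator G = K := by
    refine le_antisymm ?_ ?_
    · rw [_root_.commutator_def, Subgroup.commutator_le]
      intro x _ y _
      let π := QuotientGroup.mk' K
      have hc : ∀ (B : Large A q), ∀ u ∈ (fix B.1 : Subgroup G), ∀ g : G,
          Commute (π u) (π g) := by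
        intro B u hu g
        have hle : (⊤ : Subgroup G) ≤ (centralizer {π u}).comap π :=
          htop.trans (iSup_le fun B' w hw => by
            show π w ∈ centralizer {π u}
            rw [mem_centralizer_singleton_iff, ← commutatorElement_eq_one_iff_mul_comm,
              ← map_commutatorElement]
            exact (QuotientGroup.eq_one_iff _).2 (hDK _ (hcommD B' B w hw u hu)))
        exact (mem_centralizer_singleton_iff.1 (hle (mem_top g))).symm
      have hcen : (⊤ : Subgroup G) ≤ (center (G ⧸ K)).comap π :=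
        htop.trans (iSup_le fun B u hu => by
          show π u ∈ center (G ⧸ K)
          refine mem_center_iff.2 fun z => ?_
          obtain ⟨g, rfl⟩ := QuotientGroup.mk'_surjective K z
          exact (hc B u hu g).eq.symm)
      refine (QuotientGroup.eq_one_iff _).1 ?_
      show π ⁅x, y⁆ = 1
      rw [map_commutatorElement, commutatorElement_eq_one_iff_mul_comm]
      exact (mem_center_iff.1 (hcen (mem_top x)) (π y)).symm
    · refine (Subgroup.closure_le _).2 fun e he => ?_
      obtain ⟨a, -, h⟩ := (hmemD e).1 (Finset.mem_filter.1 (Finset.mem_coe.1 he)).1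
      exact commutator_mono le_top le_top h
  -- the action on `K`
  obtain ⟨N, hNd⟩ : ∃ N, N = Nat.factorial ((d ^ d) ^ 2 ^ (q ^ 3)) := ⟨_, rfl⟩
  set C := centralizer (K : Set G) with hC
  haveI hCn : C.Normal := ⟨fun x hx g => mem_centralizer_iff.2 fun k hk => by
    have h := mem_centralizer_iff.1 hx _ (SetLike.mem_coe.2 (hKn.conj_mem k hk g⁻¹))
    calc k * (g * x * g⁻¹) = g * (g⁻¹ * k * g⁻¹⁻¹ * x) * g⁻¹ := by group
      _ = g * (x * (g⁻¹ * k * g⁻¹⁻¹)) * g⁻¹ := by rw [h]
      _ = g * x * g⁻¹ * k := by group⟩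
  set π := QuotientGroup.mk' C
  have himg : ∀ B : Large A q, Nat.card ((fix B.1 : Subgroup G).map π) ≤ d ^ d := by
    intro B
    have hex : ∀ z : (fix B.1 : Subgroup G).map π, ∃ y ∈ (fix B.1 : Subgroup G), π y = z := fun z => z.2
    choose y hy hyz using hex
    let Φ : (fix B.1 : Subgroup G).map π → (E → D) := fun z e => ⟨⁅y z, (e : G)⁆, by
      obtain ⟨-, B', hB'⟩ := Finset.mem_filter.1 e.2
      exact hcommD B B' _ (hy z) _ hB'⟩
    have hΦ : Function.Injective Φ := by
      intro z w hzw
      refine Subtype.ext (show (z : G ⧸ C) = w from ?_)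
      rw [← hyz z, ← hyz w]
      refine QuotientGroup.eq.2 (mem_centralizer_iff.2 fun k hk => ?_)
      have hle : K ≤ centralizer {(y z)⁻¹ * y w} := (Subgroup.closure_le _).2 fun e he => by
        have h1 : ⁅y z, e⁆ = ⁅y w, e⁆ := congrArg Subtype.val (congrFun hzw ⟨e, he⟩)
        rw [commutatorElement_def, commutatorElement_def, mul_left_inj] at h1
        refine mem_centralizer_singleton_iff.2 ?_
        calc e * ((y z)⁻¹ * y w) = (y z)⁻¹ * (y z * e * (y z)⁻¹) * y w := by group
          _ = _ := by rw [h1]; group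
      exact mem_centralizer_singleton_iff.1 (hle hk)
    refine (Nat.card_le_card_of_injective Φ hΦ).trans ?_
    rw [Nat.card_fun, Nat.card_eq_fintype_card, Nat.card_eq_fintype_card, Fintype.card_coe,
      Fintype.card_coe]
    exact (Nat.pow_le_pow_left (show D.card ≤ d by omega) _).trans
      (Nat.pow_le_pow_right (by omega) hEcard)
  have hI : Nat.card (Large A q) ≤ 2 ^ (q ^ 3) := by
    refine (Nat.card_le_card_of_injective (fun B : Large A q => ((B.1 : Subgroup A) : Set A))
      fun x y h => Subtype.ext (SetLike.coe_injective h)).trans ?_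
    rw [Nat.card_eq_fintype_card, Fintype.card_set, ← hA, Nat.card_eq_fintype_card]
  have hindex : C.index ∣ N := by
    haveI : Group.IsSolvable A := inferInstance
    rw [← (Nat.factorization_le_iff_dvd Subgroup.index_ne_zero_of_finite
      (hNd ▸ Nat.factorial_ne_zero _))]
    intro p
    by_cases hp : p.Prime
    swap
    · simp [Nat.factorization_eq_zero_of_not_prime _ hp]
    haveI : Fact p.Prime := ⟨hp⟩
    obtain ⟨P, hP⟩ := exists_invariant_sylow (A := A) (G := G) hcop p
    haveI : Group.IsNilpotent (P : Subgroup G) := P.isPGroup'.isNilpotent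
    haveI : Group.IsSolvable (P : Subgroup G) := IsNilpotent.to_isSolvable
    have h1 := card_image_le hq hA hAe hcop π _ (P : Subgroup G) le_rfl hP inferInstance
    have h2 : Nat.card ((P : Subgroup G).map π) ≤ (d ^ d) ^ 2 ^ (q ^ 3) := by
      refine h1.trans ((Finset.prod_le_pow_card _ _ (d ^ d) fun B _ =>
        (Subgroup.card_le_of_le (map_mono inf_le_right)).trans (himg B)).trans ?_)
      refine Nat.pow_le_pow_right (Nat.one_le_pow _ _ (by omega)) ?_
      rw [Finset.card_univ, ← Nat.card_eq_fintype_card]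
      exact hI
    have h3 := (P.mapSurjective (QuotientGroup.mk'_surjective C)).card_eq_multiplicity
    rw [Sylow.coe_mapSurjective] at h3
    rw [h3] at h2
    refine (hp.pow_dvd_iff_le_factorization (hNd ▸ Nat.factorial_ne_zero _)).1 ?_
    rw [hNd]
    exact Nat.dvd_factorial (pow_pos hp.pos _) h2
  have hN1 : 1 ≤ N := hNd ▸ Nat.factorial_pos _
  have hz : (center K).index ≤ N := by
    refine le_trans ?_ (Nat.le_of_dvd hN1 hindex)
    have h1 : C.subgroupOf K ≤ center K := fun x hx => mem_center_iff.2 fun k =>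
      Subtype.ext (mem_centralizer_iff.1 (Subgroup.mem_subgroupOf.1 hx) k k.2)
    exact (Nat.le_of_dvd (Nat.pos_of_ne_zero Subgroup.index_ne_zero_of_finite)
      (Subgroup.index_dvd_of_le h1)).trans (Nat.le_of_dvd
      (Nat.pos_of_ne_zero Subgroup.index_ne_zero_of_finite)
      (Subgroup.relIndex_dvd_index_of_normal C K))
  have hderK : Nat.card (commutator K) ≤ N ^ (N * (N * N) + 1) := by
    refine (Nat.le_of_dvd (pow_pos (Nat.pos_of_ne_zero Subgroup.index_ne_zero_of_finite) _)
      (card_commutator_dvd_index_center_pow K)).trans ?_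
    refine (Nat.pow_le_pow_left hz _).trans (Nat.pow_le_pow_right hN1 (Nat.succ_le_succ ?_))
    exact Nat.mul_le_mul hz (card_commutatorSet_le.trans (Nat.mul_le_mul hz hz))
  have habK : Nat.card (Abelianization K) ≤ d ^ d := by
    haveI : Finite (Abelianization K) := inferInstanceAs (Finite (K ⧸ commutator K))
    let of' : E → Abelianization K := fun e =>
      Abelianization.of ⟨(e : G), subset_closure (Finset.mem_coe.2 e.2)⟩
    have hgen : (⊤ : Subgroup (Abelianization K)) =
        ⨆ e ∈ (Finset.univ : Finset E), zpowers (of' e) := by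
      refine le_antisymm ?_ le_top
      intro z hz0
      obtain ⟨⟨x, hx⟩, rfl⟩ := QuotientGroup.mk'_surjective (commutator K) z
      clear hz0
      change Abelianization.of (⟨x, hx⟩ : K) ∈ _
      induction hx using Subgroup.closure_induction with
      | mem y hy => exact le_iSup₂ (f := fun e (_ : e ∈ (Finset.univ : Finset E)) =>
          zpowers (of' e)) ⟨y, hy⟩ (Finset.mem_univ _) (mem_zpowers _)
      | one => exact one_mem _
      | mul y z hy hz h1 h2 =>
        rw [show (⟨y * z, _⟩ : K) = ⟨y, hy⟩ * ⟨z, hz⟩ from rfl, map_mul]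
        exact mul_mem h1 h2
      | inv y hy h1 =>
        rw [show (⟨y⁻¹, _⟩ : K) = (⟨y, hy⟩ : K)⁻¹ from rfl, map_inv]
        exact inv_mem h1
    have h := card_iSup_le Finset.univ (fun e : E => zpowers (of' e))
    rw [← hgen, card_top] at h
    refine h.trans ((Finset.prod_le_pow_card _ _ d fun e _ => ?_).trans ?_)
    · obtain ⟨a, ha, hea⟩ := (hmemD e).1 (Finset.mem_filter.1 e.2).1
      rw [Nat.card_zpowers]
      refine (Nat.le_of_dvd (orderOf_pos _) (orderOf_map_dvd _ _)).trans ?_
      rw [Subgroup.orderOf_mk]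
      have h1 : orderOf (e : G) ∣
          Nat.card (⁅(fix (zpowers a) : Subgroup G), fix (zpowers a)⁆ : Subgroup G) := by
        rw [← Subgroup.orderOf_mk _ hea]; exact orderOf_dvd_natCard _
      refine (Nat.le_of_dvd Nat.card_pos h1).trans ((hm a ha).trans ?_)
      have : 1 * m ≤ q ^ 3 * m := Nat.mul_le_mul_right _ (Nat.one_le_pow _ _ hq.pos)
      omega
    · rw [Finset.card_univ, Fintype.card_coe]
      exact Nat.pow_le_pow_right (by omega) hEcard
  rw [hKeq, Subgroup.card_eq_card_quotient_mul_card_subgroup (commutator K)]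
  exact (Nat.mul_le_mul habK hderK).trans_eq (by rw [hNd, hd]; rfl)

end CfsgLib.Coprime.BoundedDerived
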