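import Mathlib.LinearAlgebra.FiniteDimensional.Lemmas
import Mathlib.LinearAlgebra.Eigenspace.Basic
import Mathlib.Algebra.Algebra.Subalgebra.Lattice
import Mathlib.Algebra.Field.ZMod
import Mathlib.Data.ZMod.Basic

/-!
# Commuting operators in prime dimension

If a commuting family of operators, not all scalar, is normalised by a further operator of prime order
equal to the dimension and the whole system is irreducible, then the family has commutative centralizer.
-/

set_option autoImplicit false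
set_option linter.style.haveILetI false
set_option linter.unusedSectionVars false

namespace CfsgLib.Coprime

universe u

variable {F : Type} [Field F] {V : Type u} [AddCommGroup V] [Module F V] [FiniteDimensional F V]

/-- Operators commuting with a commuting family having a cyclic vector commute. -/
theorem commute_of_cyclic (Z : Set (Module.End F V)) (hZ : ∀ a ∈ Z, ∀ b ∈ Z, a * b = b * a) (v : V)
    (hv : ∀ W : Submodule F V, v ∈ W → (∀ a ∈ Z, ∀ x ∈ W, a x ∈ W) → W = ⊤)
    {c c' : Module.End F V} (hc : ∀ a ∈ Z, c * a = a * c) (hc' : ∀ a ∈ Z, c' * a = a * c') :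
    c * c' = c' * c := by
  let S := Algebra.adjoin F Z
  have hScomm : ∀ a ∈ S, ∀ b ∈ S, a * b = b * a := by
    intro a ha b hb
    have hZc : ∀ z ∈ Z, ∀ y ∈ S, z * y = y * z := by
      intro z hz y hy
      induction hy using Algebra.adjoin_induction with
      | mem x hx => exact hZ z hz x hx
      | algebraMap r => exact (Algebra.commutes r z).symm
      | add x y _ _ hx hy => rw [mul_add, add_mul, hx, hy]
      | mul x y _ _ hx hy => rw [← mul_assoc, hx, mul_assoc, hy, mul_assoc]
    induction ha using Algebra.adjoin_induction with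
    | mem x hx => exact hZc x hx b hb
    | algebraMap r => exact Algebra.commutes r b
    | add x y _ _ hx hy => rw [add_mul, mul_add, hx, hy]
    | mul x y _ _ hx hy => rw [mul_assoc, hy, ← mul_assoc, hx, mul_assoc]
  have hcS : ∀ (f : Module.End F V), (∀ a ∈ Z, f * a = a * f) → ∀ a ∈ S, f * a = a * f := by
    intro f hf a ha
    induction ha using Algebra.adjoin_induction with
    | mem x hx => exact hf x hx
    | algebraMap r => exact (Algebra.commutes r f).symm
    | add x y _ _ hx hy => rw [mul_add, add_mul, hx, hy]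
    | mul x y _ _ hx hy => rw [← mul_assoc, hx, mul_assoc, hy, mul_assoc]
  let O : Submodule F V := (Subalgebra.toSubmodule S).map (LinearMap.applyₗ v)
  have hO : O = ⊤ := hv O ⟨1, S.one_mem, rfl⟩ (by
    rintro a ha _ ⟨b, hb, rfl⟩
    exact ⟨a * b, S.mul_mem (Algebra.subset_adjoin ha) hb, rfl⟩)
  have key : ∀ f : Module.End F V, (∀ a ∈ Z, f * a = a * f) → f ∈ S := by
    intro f hf
    obtain ⟨a, ha, hav⟩ : f v ∈ O := hO ▸ Submodule.mem_top
    suffices f = a by rw [this]; exact ha
    refine LinearMap.ext fun x => ?_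
    obtain ⟨b, hb, rfl⟩ : x ∈ O := hO ▸ Submodule.mem_top
    have hav' : a v = f v := hav
    change f (b v) = a (b v)
    rw [← Module.End.mul_apply, hcS f hf b hb, Module.End.mul_apply, ← hav', ← Module.End.mul_apply,
      hScomm b hb a ha, Module.End.mul_apply]
  exact hScomm c (key c hc) c' (key c' hc')

/-- Centralizers of a non-scalar commuting family in prime dimension `p`, normalised irreducibly by
an operator of order `p`, are commutative. -/
theorem commute_of_prime_dim {p : ℕ} (hp : p.Prime) (hdim : Module.finrank F V = p)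
    (Z : Set (Module.End F V)) (hZ : ∀ a ∈ Z, ∀ b ∈ Z, a * b = b * a) (R : Module.End F V)
    (hR : R ^ p = 1) (hRZ : ∀ a ∈ Z, ∃ b ∈ Z, R * a = b * R) (hRZ' : ∀ b ∈ Z, ∃ a ∈ Z, R * a = b * R)
    (hirr : ∀ W : Submodule F V, (∀ a ∈ Z, ∀ x ∈ W, a x ∈ W) → (∀ x ∈ W, R x ∈ W) → W = ⊥ ∨ W = ⊤)
    (hns : ∃ a ∈ Z, ∀ c : F, a ≠ c • (1 : Module.End F V))
    {c c' : Module.End F V} (hc : ∀ a ∈ Z, c * a = a * c) (hc' : ∀ a ∈ Z, c' * a = a * c') :
    c * c' = c' * c := by
  classical
  haveI : Nontrivial V := Module.nontrivial_of_finrank_pos (R := F) (by rw [hdim]; exact hp.pos)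
  -- a minimal invariant subspace
  have hex : ∃ d, ∃ W : Submodule F V, W ≠ ⊥ ∧ (∀ a ∈ Z, ∀ x ∈ W, a x ∈ W) ∧ Module.finrank F W = d :=
    ⟨_, ⊤, top_ne_bot, fun _ _ _ _ => trivial, rfl⟩
  obtain ⟨W, hW, hWZ, hWd⟩ := Nat.find_spec hex
  set d := Nat.find hex with hd
  have hmin : ∀ W' : Submodule F V, W' ≠ ⊥ → (∀ a ∈ Z, ∀ x ∈ W', a x ∈ W') → d ≤ Module.finrank F W' :=
    fun W' h1 h2 => Nat.find_min' hex ⟨W', h1, h2, rfl⟩
  by_cases hWt : W = ⊤
  · obtain ⟨v, -, hv⟩ := Submodule.exists_mem_ne_zero_of_ne_bot hW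
    refine commute_of_cyclic Z hZ v (fun W' hvW' hW' => ?_) hc hc'
    have h1 := hmin W' (fun h => hv (by rwa [h, Submodule.mem_bot] at hvW')) hW'
    rw [← hWd, hWt, finrank_top] at h1
    exact Submodule.eq_top_of_finrank_eq (le_antisymm (Submodule.finrank_le W') h1)
  -- translates
  have hRinj : ∀ i : ℕ, Function.Injective ⇑(R ^ i) := by
    intro i x y hxy
    have h1 := congrArg (R ^ ((p - 1) * i)) hxy
    rw [← Module.End.mul_apply, ← Module.End.mul_apply, ← pow_add, ← Nat.succ_mul,
      show (p - 1).succ = p by have := hp.pos; omega, pow_mul, hR, one_pow] at h1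
    exact h1
  let Wi : ℕ → Submodule F V := fun i => W.map (R ^ i)
  have hWid : ∀ i, Module.finrank F (Wi i) = d := fun i => by
    rw [← hWd]; exact (Submodule.equivMapOfInjective _ (hRinj i) W).finrank_eq.symm
  have hWiZ : ∀ i, ∀ a ∈ Z, ∀ x ∈ Wi i, a x ∈ Wi i := by
    intro i
    induction i with
    | zero => simpa [Wi, Module.End.one_eq_id] using hWZ
    | succ i ih =>
      intro a ha x hx
      obtain ⟨w, hw, rfl⟩ := hx
      obtain ⟨b, hb, hab⟩ := hRZ' a ha
      obtain ⟨w', hw', e⟩ := ih b hb _ ⟨w, hw, rfl⟩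
      refine ⟨w', hw', ?_⟩
      rw [pow_succ', Module.End.mul_apply, e, Module.End.mul_apply, ← Module.End.mul_apply,
        hab, Module.End.mul_apply]
  let T : ℕ → Submodule F V := fun n => ⨆ i ∈ Finset.range n, Wi i
  have hTZ : ∀ n, ∀ a ∈ Z, ∀ x ∈ T n, a x ∈ T n := by
    intro n a ha
    suffices T n ≤ (T n).comap a from fun x hx => this hx
    refine iSup₂_le fun i hi => ?_
    intro x hx
    exact Submodule.mem_comap.2 (le_iSup₂ (f := fun i (_ : i ∈ Finset.range n) => Wi i) i hi (hWiZ i a ha x hx))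
  have hTd : ∀ n, d ∣ Module.finrank F (T n) := by
    intro n
    induction n with
    | zero => rw [show T 0 = ⊥ by simp [T], finrank_bot]; exact dvd_zero _
    | succ n ih =>
      have hT : T (n + 1) = T n ⊔ Wi n := by
        simp only [T, Finset.range_add_one, Finset.iSup_insert, sup_comm]
      rw [hT]
      by_cases h : T n ⊓ Wi n = ⊥
      · have := Submodule.finrank_sup_add_finrank_inf_eq (T n) (Wi n)
        rw [h, finrank_bot, add_zero, hWid] at this
        rw [this]
        exact dvd_add ih dvd_rfl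
      · have h1 := hmin (T n ⊓ Wi n) h fun a ha x hx => ⟨hTZ n a ha x hx.1, hWiZ n a ha x hx.2⟩
        have h2 : T n ⊓ Wi n = Wi n := Submodule.eq_of_le_of_finrank_le inf_le_right (by rwa [hWid])
        rwa [sup_eq_left.2 (inf_eq_right.1 h2)]
  have hTp : T p = ⊤ := by
    refine (hirr (T p) (hTZ p) ?_).resolve_left fun h => hW ?_
    · suffices T p ≤ (T p).comap R from fun x hx => this hx
      refine iSup₂_le fun i hi => ?_
      rintro _ ⟨w, hw, rfl⟩
      rw [Submodule.mem_comap, ← Module.End.mul_apply, ← pow_succ']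
      rcases Nat.lt_or_ge (i + 1) p with h | h
      · exact le_iSup₂ (f := fun i (_ : i ∈ Finset.range p) => Wi i) (i + 1) (Finset.mem_range.2 h)
          ⟨w, hw, rfl⟩
      · rw [show i + 1 = p by have := Finset.mem_range.1 hi; omega]
        exact le_iSup₂ (f := fun i (_ : i ∈ Finset.range p) => Wi i) 0 (Finset.mem_range.2 hp.pos)
          ⟨w, hw, by rw [hR, pow_zero]⟩
    · refine eq_bot_iff.2 fun w hw => ?_
      rw [← h]
      exact le_iSup₂ (f := fun i (_ : i ∈ Finset.range p) => Wi i) 0 (Finset.mem_range.2 hp.pos)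
        ⟨w, hw, by rw [pow_zero]; rfl⟩
  have hd1 : d = 1 := by
    have h1 := hTd p
    rw [hTp, finrank_top, hdim, Nat.dvd_prime hp] at h1
    rcases h1 with h1 | h1
    · exact h1
    · exact absurd (Submodule.eq_top_of_finrank_eq (by rw [hWd, h1, hdim])) hWt
  -- the lines carry distinct eigen-functions
  obtain ⟨w, hwW, hw0⟩ := Submodule.exists_mem_ne_zero_of_ne_bot hW
  let l : Fin p → V := fun i => (R ^ (i : ℕ)) w
  have hl0 : ∀ i, l i ≠ 0 := fun i h => hw0 (hRinj i (h.trans (map_zero _).symm))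
  have hWspan : ∀ i : Fin p, ∀ x ∈ Wi i, ∃ c : F, x = c • l i := by
    intro i x hx
    obtain ⟨c, hc⟩ := (finrank_eq_one_iff_of_nonzero' (⟨l i, ⟨w, hwW, rfl⟩⟩ : Wi i)
      (fun h => hl0 i (congrArg Subtype.val h))).1 (by rw [hWid, hd1]) ⟨x, hx⟩
    exact ⟨c, (congrArg Subtype.val hc).symm⟩
  have heig : ∀ (i : Fin p) (a : Z), ∃ c : F, (a : Module.End F V) (l i) = c • l i := fun i a =>
    hWspan i _ (hWiZ i a a.2 _ ⟨w, hwW, rfl⟩)
  choose μ hμ using heig
  have hspan : Submodule.span F (Set.range l) = ⊤ := by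
    rw [eq_top_iff, ← hTp]
    refine iSup₂_le fun i hi x hx => ?_
    obtain ⟨c, rfl⟩ := hWspan ⟨i, Finset.mem_range.1 hi⟩ x hx
    exact Submodule.smul_mem _ _ (Submodule.subset_span ⟨_, rfl⟩)
  have hdist : ∀ i j, i ≠ j → μ i ≠ μ j := by
    intro i j hij he
    -- a coincidence spreads along the orbit
    have hshift : ∀ (s : ℕ) (m : ℕ) (a : Module.End F V), a ∈ Z → ∀ c : F,
        a ((R ^ (s + m)) w) = c • (R ^ (s + m)) w → ∃ b ∈ Z, R ^ s * b = a * R ^ s ∧
        b ((R ^ m) w) = c • (R ^ m) w := by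
      intro s
      induction s with
      | zero => intro m a ha c hac; exact ⟨a, ha, by simp, by simpa using hac⟩
      | succ s ih =>
        intro m a ha c hac
        obtain ⟨b, hb, hbR⟩ := hRZ' a ha
        have h1 : b ((R ^ (s + m)) w) = c • (R ^ (s + m)) w := by
          refine hRinj 1 ?_
          rw [pow_one, map_smul, ← Module.End.mul_apply, hbR, Module.End.mul_apply,
            ← Module.End.mul_apply R, ← pow_succ', show s + m + 1 = s + 1 + m by omega]
          exact hac
        obtain ⟨b', hb', hb'R, hb'c⟩ := ih m b hb c h1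
        refine ⟨b', hb', ?_, hb'c⟩
        rw [pow_succ', mul_assoc, hb'R, ← mul_assoc, hbR, mul_assoc]
    obtain ⟨a₀, ha₀, hns⟩ := hns
    -- the difference of the two indices
    let s : ℕ := if (i : ℕ) < j then j - i else i - j
    let m : ℕ := if (i : ℕ) < j then i else j
    have hs0 : 0 < s ∧ s < p ∧ s + m < p := by
      have h1 := i.2
      have h2 := j.2
      have h3 : (i : ℕ) ≠ j := fun h => hij (Fin.ext h)
      simp only [s, m]
      split <;> omega
    have hsm : ∀ a ∈ Z, ∀ c : F, a ((R ^ m) w) = c • (R ^ m) w →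
        a ((R ^ (s + m)) w) = c • (R ^ (s + m)) w := by
      intro a ha c hac
      have hlm : ∀ c' : F, c' • (R ^ m) w = c • (R ^ m) w → c' = c := fun c' h =>
        smul_left_injective F (fun h0 => hw0 (hRinj m (h0.trans (map_zero _).symm))) h
      by_cases hlt : (i : ℕ) < j
      · have hm' : m = i := if_pos hlt
        have hsm' : s + m = j := by simp only [s, m, if_pos hlt]; omega
        rw [hsm']
        rw [hm'] at hac hlm
        have h1 : μ i ⟨a, ha⟩ = c := hlm _ ((hμ i ⟨a, ha⟩).symm.trans hac)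
        have h2 := hμ j ⟨a, ha⟩
        rw [← congrFun he, h1] at h2
        exact h2
      · have hm' : m = j := if_neg hlt
        have hsm' : s + m = i := by simp only [s, m, if_neg hlt]; omega
        rw [hsm']
        rw [hm'] at hac hlm
        have h1 : μ j ⟨a, ha⟩ = c := hlm _ ((hμ j ⟨a, ha⟩).symm.trans hac)
        have h2 := hμ i ⟨a, ha⟩
        rw [congrFun he, h1] at h2
        exact h2
    -- periodicity in all positions
    have hper : ∀ q, ∀ a ∈ Z, ∀ c : F, a ((R ^ q) w) = c • (R ^ q) w →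
        a ((R ^ (q + s)) w) = c • (R ^ (q + s)) w := by
      intro q a ha c hac
      -- move position `q` to position `m`
      obtain ⟨t, ht⟩ : ∃ t, (R ^ (t + m)) = R ^ q ∧ ∀ u, (R ^ (t + (u + m))) = R ^ (q + u) := by
        refine ⟨q + (p - 1) * m, ?_, fun u => ?_⟩
        · rw [show q + (p - 1) * m + m = q + p * m by
            have := hp.pos; obtain ⟨p', rfl⟩ : ∃ p', p = p' + 1 := ⟨p - 1, by omega⟩
            simp only [Nat.add_sub_cancel]; ring, pow_add, pow_mul, hR, one_pow, mul_one]
        · rw [show q + (p - 1) * m + (u + m) = q + u + p * m by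
            have := hp.pos; obtain ⟨p', rfl⟩ : ∃ p', p = p' + 1 := ⟨p - 1, by omega⟩
            simp only [Nat.add_sub_cancel]; ring, pow_add, pow_mul, hR, one_pow, mul_one]
      obtain ⟨b, hb, hbR, hbc⟩ := hshift t m a ha c (by rw [ht.1]; exact hac)
      have h1 := congrArg (R ^ t) (hsm b hb c hbc)
      rw [← Module.End.mul_apply, hbR, map_smul, Module.End.mul_apply, ← Module.End.mul_apply (R ^ t),
        ← pow_add, ht.2 s] at h1
      exact h1
    have hall : ∀ a ∈ Z, ∀ c : F, a w = c • w → ∀ u : ℕ, a ((R ^ (u * s)) w) = c • (R ^ (u * s)) w := by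
      intro a ha c hac u
      induction u with
      | zero => simpa using hac
      | succ u ih => rw [Nat.succ_mul]; exact hper _ a ha c ih
    refine hns (μ ⟨0, hp.pos⟩ ⟨a₀, ha₀⟩) (LinearMap.ext_on_range hspan fun q => ?_)
    obtain ⟨u, hu⟩ : ∃ u : ℕ, (u * s) % p = (q : ℕ) := by
      haveI := Fact.mk hp
      refine ⟨(((q : ℕ) : ZMod p) * ((s : ℕ) : ZMod p)⁻¹).val, ?_⟩
      have hs : ((s : ℕ) : ZMod p) ≠ 0 := fun h =>
        Nat.not_dvd_of_pos_of_lt hs0.1 hs0.2.1 ((ZMod.natCast_eq_zero_iff _ _).1 h)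
      rw [← ZMod.val_natCast, Nat.cast_mul, ZMod.natCast_zmod_val, mul_assoc, inv_mul_cancel₀ hs,
        mul_one, ZMod.val_natCast, Nat.mod_eq_of_lt q.2]
    have hl : l q = (R ^ (u * s)) w := by
      change (R ^ (q : ℕ)) w = _
      rw [← hu, ← pow_eq_pow_mod _ hR]
    rw [hl, LinearMap.smul_apply, Module.End.one_apply]
    exact hall a₀ ha₀ _ (by simpa [l] using hμ ⟨0, hp.pos⟩ ⟨a₀, ha₀⟩) u
  -- the sum of the lines is a cyclic vector
  refine commute_of_cyclic Z hZ (∑ i, l i) (fun W' hv hW' => ?_) hc hc'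
  have key : ∀ (s : Finset (Fin p)) (cs : Fin p → F), (∀ i ∈ s, cs i ≠ 0) →
      (∑ i ∈ s, cs i • l i) ∈ W' → ∀ i ∈ s, l i ∈ W' := by
    intro s
    induction hn : s.card using Nat.strong_induction_on generalizing s with
    | _ n ih =>
      intro cs hcs hmem i hi
      by_cases hone : ∀ j ∈ s, j = i
      · rw [Finset.eq_singleton_iff_unique_mem.2 ⟨hi, hone⟩, Finset.sum_singleton] at hmem
        have := W'.smul_mem (cs i)⁻¹ hmem
        rwa [smul_smul, inv_mul_cancel₀ (hcs i hi), one_smul] at this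
      push Not at hone
      obtain ⟨j, hj, hji⟩ := hone
      obtain ⟨a, hne⟩ : ∃ a, μ i a ≠ μ j a := Function.ne_iff.1 (hdist i j (Ne.symm hji))
      let s' := s.filter fun q => μ q a ≠ μ j a
      have hmem' : (∑ q ∈ s', (cs q * (μ q a - μ j a)) • l q) ∈ W' := by
        have h1 : (a : Module.End F V) (∑ q ∈ s, cs q • l q) - μ j a • (∑ q ∈ s, cs q • l q) ∈ W' :=
          W'.sub_mem (hW' a a.2 _ hmem) (W'.smul_mem _ hmem)
        rw [map_sum, Finset.smul_sum, ← Finset.sum_sub_distrib] at h1
        convert h1 using 1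
        rw [Finset.sum_filter]
        refine Finset.sum_congr rfl fun q _ => ?_
        rw [map_smul, hμ, smul_smul, smul_smul, mul_comm (μ j a), ← sub_smul, ← mul_sub]
        by_cases h : μ q a = μ j a <;> simp [h]
      refine ih s'.card (hn ▸ Finset.card_lt_card (Finset.filter_ssubset.2 ⟨j, hj, by simp⟩)) s' rfl
        _ (fun q hq => ?_) hmem' i (Finset.mem_filter.2 ⟨hi, hne⟩)
      exact mul_ne_zero (hcs q (Finset.mem_filter.1 hq).1) (sub_ne_zero.2 (Finset.mem_filter.1 hq).2)
  rw [eq_top_iff, ← hspan, Submodule.span_le]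
  rintro _ ⟨i, rfl⟩
  exact key Finset.univ (fun _ => 1) (fun _ _ => one_ne_zero) (by simpa using hv) i (Finset.mem_univ i)

end CfsgLib.Coprime
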