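import Cfsg.Agent.Char.Generalized
import Cfsg.Agent.Char.ClassProducts
import Cfsg.Agent.Char.CosetConj
import Cfsg.Agent.Char.Kernel
import Cfsg.Agent.Char.LinearTwist

/-!
Characters on the three nontrivial cosets of an odd order normal subgroup with a four-group
complement.

Let `H = N⟨a, b⟩`. If for each involution `e` of the complement `B_e` is an irreducible character
of `C_H(e)` trivial on `⟨a, b⟩` and on a subgroup `K_e` containing the commutators of `C_N(e)`
with `⟨a, b⟩`, all three agree on `C_N(a, b)` and the `K_e` generate `N`, then they are constant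
on `C_N(a, b)`. No solvability of `N` is used.
-/

namespace CfsgLib.FourCosets

open scoped ComplexConjugate
open Finset CfsgLib.Char

universe u

attribute [local instance] Fintype.ofFinite

noncomputable local instance (priority := 10000) subgroupFintype {G : Type*} [Group G] [Finite G]
    (U : Subgroup G) : Fintype U := Fintype.ofFinite U

variable {H : Type u} [Group H] [Finite H]

/-- The subgroup `N ∩ C(e)`. -/
def fixIn (N : Subgroup H) (e : H) : Subgroup H := N ⊓ Subgroup.centralizer ({e} : Set H)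

omit [Finite H] in
theorem mem_fixIn {N : Subgroup H} {e x : H} : x ∈ fixIn N e ↔ x ∈ N ∧ x * e = e * x := by
  rw [fixIn, Subgroup.mem_inf, Subgroup.mem_centralizer_singleton_iff]

/-- The average of a function over a subgroup. -/
noncomputable def avg (U : Subgroup H) (F : H → ℂ) : ℂ :=
  (Nat.card U : ℂ)⁻¹ * ∑ x : U, F x

theorem avg_congr {U : Subgroup H} {F F' : H → ℂ} (h : ∀ x ∈ U, F x = F' x) :
    avg U F = avg U F' := by
  unfold avg
  congr 1
  exact Finset.sum_congr rfl fun x _ => h x x.2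

theorem avg_const_mul (U : Subgroup H) (c : ℂ) (F : H → ℂ) :
    avg U (fun x => c * F x) = c * avg U F := by
  rw [avg, avg, ← Finset.mul_sum]; ring

/-- Averaging over a coset reduces to the centraliser of the coprime acting element. -/
theorem avg_coset (U : Subgroup H) (g : H) (hg : ∀ x ∈ U, g * x * g⁻¹ ∈ U)
    (hcop : Nat.Coprime (orderOf g) (Nat.card U)) (F : H → ℂ)
    (hF : ∀ y ∈ U, ∀ x ∈ U, F (y * (x * g) * y⁻¹) = F (x * g)) :
    avg U (fun x => F (g * x)) = avg (fixIn U g) (fun x => F (g * x)) := by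
  classical
  let D : Subgroup U := (fixIn U g).subgroupOf U
  have hD : ∀ c : U, c ∈ D ↔ (c : H) * g = g * c := fun c => by
    simp [D, Subgroup.mem_subgroupOf, mem_fixIn]
  let f : (U ⧸ D) × D → U := fun q =>
    ⟨(q.1.out : H) * ((q.2 : U) : H) * (g * (q.1.out : H)⁻¹ * g⁻¹),
      U.mul_mem (U.mul_mem q.1.out.2 (q.2 : U).2) (hg _ (U.inv_mem q.1.out.2))⟩
  have hf : ∀ q, (f q : H) * g =
      (q.1.out : H) * (((q.2 : U) : H) * g) * (q.1.out : H)⁻¹ := fun q => by
    simp only [f]; group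
  have hsurj : Function.Surjective f := by
    intro h
    obtain ⟨x, hx, c, hc, hcg, he⟩ := exists_conj_mem_centralizer_mul U g hg hcop h h.2
    obtain ⟨d, hd⟩ := QuotientGroup.mk_out_eq_mul D (⟨x⁻¹, U.inv_mem hx⟩ : U)
    have hdc := (hD d).1 d.2
    refine ⟨((⟨x⁻¹, U.inv_mem hx⟩ : U), ⟨(d : U)⁻¹ * ⟨c, hc⟩ * d,
      D.mul_mem (D.mul_mem (D.inv_mem d.2) ((hD _).2 hcg)) d.2⟩),
      Subtype.ext (mul_right_cancel (b := g) ?_)⟩
    rw [hf]
    simp only [hd, Subgroup.coe_mul, Subgroup.coe_inv]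
    calc x⁻¹ * ((d : U) : H) * ((((d : U) : H))⁻¹ * c * ((d : U) : H) * g) *
          (x⁻¹ * ((d : U) : H))⁻¹
        = x⁻¹ * c * (((d : U) : H) * g) * ((d : U) : H)⁻¹ * x := by group
      _ = x⁻¹ * (c * g) * x := by rw [hdc]; group
      _ = (h : H) * g := by rw [← he]; group
  have hcard : Nat.card ((U ⧸ D) × D) = Nat.card U := by
    rw [Nat.card_prod, ← Subgroup.card_eq_card_quotient_mul_card_subgroup]
  have hbij : Function.Bijective f :=
    (Nat.bijective_iff_surjective_and_card f).2 ⟨hsurj, hcard⟩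
  have hsum : ∑ x : U, F (x * g) = (Nat.card (U ⧸ D) : ℂ) * ∑ c : D, F ((c : U) * g) := by
    rw [← Fintype.sum_bijective f hbij (fun q => F (((q.2 : U) : H) * g)) _ fun q => by
      rw [hf, hF _ q.1.out.2 _ (q.2 : U).2]]
    rw [Fintype.sum_prod_type]
    simp [Finset.sum_const, Nat.card_eq_fintype_card]
  let e : D ≃ fixIn U g := (Subgroup.subgroupOfEquivOfLe (inf_le_left : fixIn U g ≤ U)).toEquiv
  have hsum2 : ∑ c : D, F ((c : U) * g) = ∑ x : fixIn U g, F (x * g) :=
    Fintype.sum_equiv e _ _ fun c => rfl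
  have hc : (Nat.card U : ℂ) = (Nat.card (U ⧸ D) : ℂ) * (Nat.card (fixIn U g) : ℂ) := by
    rw [← Nat.card_congr e]
    exact_mod_cast Subgroup.card_eq_card_quotient_mul_card_subgroup D
  have hq : (Nat.card (U ⧸ D) : ℂ) ≠ 0 := by exact_mod_cast Nat.card_pos.ne'
  let r : U → U := fun x => ⟨g * x * g⁻¹, hg x x.2⟩
  have hr : Function.Bijective r :=
    Finite.injective_iff_bijective.1 fun x y h => Subtype.ext (by simpa [r] using h)
  have hleft : ∑ x : U, F (g * x) = ∑ x : U, F (x * g) :=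
    Fintype.sum_bijective r hr (fun x : U => F (g * x)) (fun x : U => F (x * g)) fun x => by
      simp [r]
  have hright : ∑ x : fixIn U g, F (g * x) = ∑ x : fixIn U g, F (x * g) :=
    Finset.sum_congr rfl fun x _ => by rw [(mem_fixIn.1 x.2).2]
  rw [avg, avg, hleft, hright, hsum, hsum2, hc]
  field_simp

/-- A four-group of automorphisms, seen inside the extension. -/
structure Ctx (N : Subgroup H) (C : Subgroup H) (a b : H) (s t : H →* ℂˣ) : Prop where
  normal : N.Normal
  odd : Odd (Nat.card N)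
  ha : a ^ 2 = 1
  hb : b ^ 2 = 1
  hab : a * b = b * a
  mem_C : ∀ x, x ∈ C ↔ x ∈ N ∧ x * a = a * x ∧ x * b = b * x
  mem_N : ∀ x, x ∈ N ↔ s x = 1 ∧ t x = 1
  s_val : ∀ x, s x = 1 ∨ s x = -1
  t_val : ∀ x, t x = 1 ∨ t x = -1
  sa : s a = -1
  sb : s b = 1
  ta : t a = 1
  tb : t b = -1

/-- The data attached to one involution `e`. -/
structure Datum (N C : Subgroup H) (e f : H) (B0 : H → ℂ) (K : Subgroup H) (B : H → ℂ) : Prop where
  irr : Cfsg.IsIrrCharacter (Subgroup.centralizer ({e} : Set H)) (fun x => B x)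
  inv_e : ∀ y ∈ fixIn N e, B (e * y) = B y
  inv_f : ∀ y ∈ fixIn N e, B (f * y) = B y
  inv_g : ∀ y ∈ fixIn N e, B (e * f * y) = B y
  agree : ∀ x ∈ C, B x = B0 x
  triv : ∀ k ∈ K, B k = B 1
  K_le : K ≤ fixIn N e
  comm : ∀ y ∈ fixIn N e, f * y * f⁻¹ * y⁻¹ ∈ K

variable {N C : Subgroup H} {a b : H} {s t : H →* ℂˣ}

theorem Ctx.rotate (c : Ctx N C a b s t) : Ctx N C b (a * b) (s * t) s where
  normal := c.normal
  odd := c.odd
  ha := c.hb
  hb := by rw [(show Commute a b from c.hab).mul_pow, c.ha, c.hb, one_mul]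
  hab := by rw [← mul_assoc, ← c.hab]
  mem_C x := by
    rw [c.mem_C]
    refine ⟨fun ⟨h1, h2, h3⟩ => ⟨h1, h3, ?_⟩, fun ⟨h1, h2, h3⟩ => ⟨h1, ?_, h2⟩⟩
    · rw [← mul_assoc, h2, mul_assoc, h3, mul_assoc]
    · refine mul_right_cancel (b := b) ?_
      rw [mul_assoc, h3, mul_assoc a x b, h2, ← mul_assoc]
  mem_N x := by
    rw [c.mem_N, MonoidHom.mul_apply]
    constructor
    · rintro ⟨h1, h2⟩; simp [h1, h2]
    · rintro ⟨h1, h2⟩; rw [h2, one_mul] at h1; exact ⟨h2, h1⟩
  s_val x := by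
    rw [MonoidHom.mul_apply]
    rcases c.s_val x with h | h <;> rcases c.t_val x with h' | h' <;> simp [h, h']
  t_val := c.s_val
  sa := by simp [c.sb, c.tb]
  sb := by simp [c.sa, c.sb, c.ta, c.tb]
  ta := c.sb
  tb := by simp [c.sa, c.sb]

theorem Ctx.coprime_two (c : Ctx N C a b s t) {g : H} (hg : g ^ 2 = 1) {U : Subgroup H}
    (hU : U ≤ N) : Nat.Coprime (orderOf g) (Nat.card U) := by
  refine (Nat.Coprime.coprime_dvd_left (orderOf_dvd_of_pow_eq_one hg) ?_)
  exact (Nat.Coprime.coprime_dvd_right (Subgroup.card_dvd_of_le hU)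
    (Nat.coprime_two_left.2 c.odd))

omit [Finite H] in
theorem Ctx.mul_self (c : Ctx N C a b s t) : a * a = 1 ∧ b * b = 1 :=
  ⟨by rw [← sq, c.ha], by rw [← sq, c.hb]⟩

/-- The sum over a subgroup containing `a` and `b` splits into four sums. -/
theorem Ctx.sum_split (c : Ctx N C a b s t) (U : Subgroup H) (hau : a ∈ U) (hbu : b ∈ U)
    (F : H → ℂ) :
    ∑ x : U, F x = ∑ y : (N ⊓ U : Subgroup H), (F y + F (a * y) + F (b * y) + F (a * b * y)) := by
  classical
  let pick : Bool × Bool → H := fun q => (if q.1 then a else 1) * (if q.2 then b else 1)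
  have hpick : ∀ q, pick q ∈ U := fun q => U.mul_mem
    (by split <;> [exact hau; exact U.one_mem]) (by split <;> [exact hbu; exact U.one_mem])
  let f : (Bool × Bool) × (N ⊓ U : Subgroup H) → U := fun q =>
    ⟨pick q.1 * q.2, U.mul_mem (hpick _) q.2.2.2⟩
  have hst : ∀ q, s (f q : H) = (if q.1.1 then -1 else 1) ∧
      t (f q : H) = (if q.1.2 then -1 else 1) := fun q => by
    obtain ⟨h1, h2⟩ := (c.mem_N _).1 q.2.2.1
    obtain ⟨⟨i, j⟩, y⟩ := q
    simp only [f, pick, map_mul, h1, h2, mul_one]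
    cases i <;> cases j <;> simp [c.sa, c.sb, c.ta, c.tb]
  have hbij : Function.Bijective f := by
    constructor
    · intro p q hpq
      have h1 : p.1 = q.1 := by
        have hp := hst p
        have hq := hst q
        rw [hpq] at hp
        obtain ⟨⟨i, j⟩, y⟩ := p
        obtain ⟨⟨i', j'⟩, y'⟩ := q
        have e1 := hp.1.symm.trans hq.1
        have e2 := hp.2.symm.trans hq.2
        have hne : (-1 : ℂˣ) ≠ 1 := fun h => by
          have := congrArg (fun z : ℂˣ => (z : ℂ)) h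
          norm_num at this
        cases i <;> cases j <;> cases i' <;> cases j' <;> simp_all
      refine Prod.ext h1 (Subtype.ext ?_)
      have := congrArg (fun z : U => (z : H)) hpq
      simp only [f, h1] at this
      exact mul_left_cancel this
    · intro x
      let q : Bool × Bool := (decide (s (x : H) = -1), decide (t (x : H) = -1))
      have hp1 : pick q * pick q = 1 := by
        obtain ⟨h1, h2⟩ := c.mul_self
        cases h : q.1 <;> cases h' : q.2 <;> simp only [pick, h, h'] <;> simp [h1, h2]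
        calc a * b * (a * b) = a * (b * a) * b := by simp only [mul_assoc]
          _ = a * a * (b * b) := by rw [← c.hab]; simp only [mul_assoc]
          _ = 1 := by rw [h1, h2, one_mul]
      have hN : pick q * x ∈ N := by
        rw [c.mem_N]
        have hne : (-1 : ℂˣ) ≠ 1 := fun h => by
          have := congrArg (fun z : ℂˣ => (z : ℂ)) h
          norm_num at this
        rcases c.s_val x with h | h <;> rcases c.t_val x with h' | h' <;>
          simp [q, pick, h, h', hne, hne.symm, c.sa, c.sb, c.ta, c.tb]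
      refine ⟨(q, ⟨pick q * x, hN, U.mul_mem (hpick _) x.2⟩), Subtype.ext ?_⟩
      change pick q * (pick q * x) = x
      rw [← mul_assoc, hp1, one_mul]
  rw [← Fintype.sum_bijective f hbij (fun q => F (pick q.1 * q.2)) _ fun q => rfl,
    Fintype.sum_prod_type, Fintype.sum_prod_type, Fintype.sum_bool, Fintype.sum_bool,
    Fintype.sum_bool, ← Finset.sum_add_distrib, ← Finset.sum_add_distrib, ← Finset.sum_add_distrib]
  exact Finset.sum_congr rfl fun y _ => by simp [pick]; ring

variable {B0 B : H → ℂ} {K : Subgroup H}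

/-- The multiplicity of `B` on the coset of `e`. -/
noncomputable def mult (N : Subgroup H) (e : H) (B χ : H → ℂ) : ℂ :=
  avg (fixIn N e) fun y => χ (e * y) * conj (B y)

/-- The multiplicity of `B0` on the coset of `g`. -/
noncomputable def rest (C : Subgroup H) (g : H) (B0 χ : H → ℂ) : ℂ :=
  avg C fun x => χ (g * x) * conj (B0 x)

theorem Ctx.mem_cent (c : Ctx N C a b s t) :
    a ∈ Subgroup.centralizer ({a} : Set H) ∧ b ∈ Subgroup.centralizer ({a} : Set H) :=
  ⟨Subgroup.mem_centralizer_singleton_iff.2 rfl,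
    Subgroup.mem_centralizer_singleton_iff.2 c.hab.symm⟩

theorem Ctx.fix_eq_C (c : Ctx N C a b s t) {g : H} (hg : g = b ∨ g = a * b) :
    fixIn (fixIn N a) g = C := by
  ext x
  rw [mem_fixIn, mem_fixIn, c.mem_C]
  rcases hg with rfl | rfl
  · tauto
  · refine ⟨fun ⟨⟨h1, h2⟩, h3⟩ => ⟨h1, h2, ?_⟩, fun ⟨h1, h2, h3⟩ => ⟨⟨h1, h2⟩, ?_⟩⟩
    · refine mul_left_cancel (a := a) ?_
      rw [← mul_assoc, ← mul_assoc, ← h2, mul_assoc, h3]
    · rw [← mul_assoc, h2, mul_assoc, h3, mul_assoc]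

theorem Datum.isClassFunction (d : Datum N C a b B0 K B) {u x : H}
    (hu : u * a = a * u) (hx : x * a = a * x) : B (u * x * u⁻¹) = B x := by
  have := IsIrrCharacter.isClassFunction d.irr
    (⟨x, Subgroup.mem_centralizer_singleton_iff.2 hx⟩ : Subgroup.centralizer ({a} : Set H))
    ⟨u, Subgroup.mem_centralizer_singleton_iff.2 hu⟩
  simpa using this

/-- The four sums making up an inner product on `C_H(a)`. -/
theorem Ctx.inner_cent (c : Ctx N C a b s t) (d : Datum N C a b B0 K B) {χ : H → ℂ}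
    (hχ : Cfsg.IsClassFunction H χ) :
    Cfsg.classInner (fun x : Subgroup.centralizer ({a} : Set H) => χ x) (fun x => B x) =
      4⁻¹ * (avg (fixIn N a) (fun y => χ y * conj (B y)) + mult N a B χ + rest C b B0 χ +
        rest C (a * b) B0 χ) := by
  classical
  set U := Subgroup.centralizer ({a} : Set H) with hU
  have hcardU : (Nat.card U : ℂ) = 4 * Nat.card (fixIn N a) := by
    have h := c.sum_split U c.mem_cent.1 c.mem_cent.2 (fun _ => 1)
    simp only [Finset.sum_const, Finset.card_univ, nsmul_eq_mul, mul_one] at h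
    rw [Nat.card_eq_fintype_card, Nat.card_eq_fintype_card, h, fixIn]
    ring
  have hrest : ∀ g, (g = b ∨ g = a * b) → (∀ y ∈ fixIn N a, B (g * y) = B y) →
      avg (fixIn N a) (fun y => χ (g * y) * conj (B (g * y))) = rest C g B0 χ := by
    intro g hg hBg
    have hga : g * a = a * g := by
      rcases hg with rfl | rfl
      · exact c.hab.symm
      · rw [mul_assoc, ← c.hab]
    have hg2 : g ^ 2 = 1 := by
      rcases hg with rfl | rfl
      · exact c.hb
      · exact c.rotate.hb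
    have hginv : g⁻¹ = g := inv_eq_of_mul_eq_one_right (by rw [← sq, hg2])
    have hnorm : ∀ x ∈ fixIn N a, g * x * g⁻¹ ∈ fixIn N a := by
      intro x hx
      rw [mem_fixIn] at hx ⊢
      refine ⟨c.normal.conj_mem x hx.1 g, ?_⟩
      have h2 : g⁻¹ * a = a * g⁻¹ := by rw [hginv, hga]
      calc g * x * g⁻¹ * a = g * (x * a) * g⁻¹ := by rw [mul_assoc, h2]; simp only [mul_assoc]
        _ = a * (g * x * g⁻¹) := by
          rw [hx.2, ← mul_assoc g a x, hga]; simp only [mul_assoc]
    have key := avg_coset (fixIn N a) g hnorm (c.coprime_two hg2 inf_le_left)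
      (fun z => χ z * conj (B z))
      (fun y hy x hx => by
        rw [hχ, d.isClassFunction (mem_fixIn.1 hy).2
          (by rw [mul_assoc, hga, ← mul_assoc, (mem_fixIn.1 hx).2, mul_assoc])])
    rw [key, c.fix_eq_C hg]
    exact avg_congr fun x hx => by
      have hx' := (c.mem_C x).1 hx
      rw [hBg x (mem_fixIn.2 ⟨hx'.1, hx'.2.1⟩), d.agree x hx]
  have h4 : (Nat.card (fixIn N a) : ℂ) ≠ 0 := by exact_mod_cast Nat.card_pos.ne'
  rw [classInner_def, hcardU]
  have hsplit := c.sum_split U c.mem_cent.1 c.mem_cent.2 (fun x => χ x * conj (B x))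
  rw [← hrest b (Or.inl rfl) d.inv_f, ← hrest (a * b) (Or.inr rfl) d.inv_g]
  simp only [mult, avg]
  rw [← Finset.sum_congr rfl (fun y _ => by rw [d.inv_e y y.2] :
    ∀ y ∈ (Finset.univ : Finset (fixIn N a)), χ (a * y) * conj (B (a * y)) =
      χ (a * y) * conj (B y))]
  rw [hsplit, Finset.sum_add_distrib, Finset.sum_add_distrib, Finset.sum_add_distrib]
  simp only [fixIn, hU]
  field_simp
  rfl

/-- The four linear twists give integral combinations. -/
theorem Ctx.twist_int (c : Ctx N C a b s t) (d : Datum N C a b B0 K B) {χ : H → ℂ}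
    (hχ : Cfsg.IsIrrCharacter H χ) (lam : H →* ℂˣ) (hlam : ∀ x ∈ N, lam x = 1) :
    ∃ z : ℤ, 4⁻¹ * (avg (fixIn N a) (fun y => χ y * conj (B y)) + (lam a : ℂ) * mult N a B χ +
      (lam b : ℂ) * rest C b B0 χ + (lam (a * b) : ℂ) * rest C (a * b) B0 χ) = z := by
  have hχ' := IsIrrCharacter.mul_hom hχ lam
  obtain ⟨z, hz⟩ := IsCharacter.exists_classInner_eq_natCast'
    (IsCharacter.restrict (IsIrrCharacter.isCharacter hχ') (Subgroup.centralizer ({a} : Set H)))
    (IsIrrCharacter.isCharacter d.irr)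
  refine ⟨(z : ℤ), ?_⟩
  rw [Int.cast_natCast, ← hz, c.inner_cent d (IsIrrCharacter.isClassFunction hχ')]
  have hCN : ∀ x ∈ C, x ∈ N := fun x hx => ((c.mem_C x).1 hx).1
  have q1 : avg (fixIn N a) (fun y => (χ * fun g => (lam g : ℂ)) y * conj (B y)) =
      avg (fixIn N a) (fun y => χ y * conj (B y)) :=
    avg_congr fun y hy => by rw [Pi.mul_apply, hlam y hy.1]; simp
  have q2 : mult N a B (χ * fun g => (lam g : ℂ)) = (lam a : ℂ) * mult N a B χ := by
    rw [mult, mult, ← avg_const_mul]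
    exact avg_congr fun y hy => by rw [Pi.mul_apply, map_mul, hlam y hy.1]; simp; ring
  have q3 : ∀ g, rest C g B0 (χ * fun g => (lam g : ℂ)) = (lam g : ℂ) * rest C g B0 χ := fun g => by
    rw [rest, rest, ← avg_const_mul]
    exact avg_congr fun y hy => by
      rw [Pi.mul_apply, map_mul lam g y, hlam y (hCN y hy)]; simp; ring
  rw [q1, q2, q3, q3]

/-- The multiplicities are integers of equal parity. -/
theorem Ctx.parity (c : Ctx N C a b s t) (d : Datum N C a b B0 K B) {χ : H → ℂ}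
    (hχ : Cfsg.IsIrrCharacter H χ) :
    ∃ n r r' : ℤ, mult N a B χ = n ∧ rest C b B0 χ = r ∧ rest C (a * b) B0 χ = r' ∧
      (2 : ℤ) ∣ n + r ∧ (2 : ℤ) ∣ n + r' := by
  obtain ⟨z0, h0⟩ := c.twist_int d hχ 1 (fun x _ => rfl)
  obtain ⟨z1, h1⟩ := c.twist_int d hχ s (fun x hx => ((c.mem_N x).1 hx).1)
  obtain ⟨z2, h2⟩ := c.twist_int d hχ t (fun x hx => ((c.mem_N x).1 hx).2)
  obtain ⟨z3, h3⟩ := c.twist_int d hχ (s * t) (fun x hx => by
    rw [MonoidHom.mul_apply, ((c.mem_N x).1 hx).1, ((c.mem_N x).1 hx).2, one_mul])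
  simp only [MonoidHom.one_apply, MonoidHom.mul_apply, map_mul, c.sa, c.sb, c.ta, c.tb,
    Units.val_one, Units.val_neg, Units.val_mul, mul_one, one_mul, neg_mul, mul_neg,
    neg_neg] at h0 h1 h2 h3
  refine ⟨z0 + z2 - z1 - z3, z0 + z1 - z2 - z3, z0 + z3 - z1 - z2, ?_, ?_, ?_,
    ⟨z0 - z3, by ring⟩, ⟨z0 - z1, by ring⟩⟩ <;> push_cast
  · linear_combination h0 + h2 - h1 - h3
  · linear_combination h0 + h1 - h2 - h3
  · linear_combination h0 + h3 - h1 - h2

open Classical in
/-- The class function supported on the coset of `a`. -/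
noncomputable def lift (N : Subgroup H) (a : H) (B : H → ℂ) (h : H) : ℂ :=
  (Nat.card (Subgroup.centralizer ({a} : Set H)) : ℂ)⁻¹ *
    ∑ x : H, if a * (x * h * x⁻¹) ∈ fixIn N a then B (a * (x * h * x⁻¹)) else 0

theorem lift_isClassFunction (N : Subgroup H) (a : H) (B : H → ℂ) :
    Cfsg.IsClassFunction H (lift N a B) := by
  classical
  intro g y
  simp only [lift]
  congr 1
  exact Fintype.sum_equiv (Equiv.mulRight y) _ _ fun x => by
    simp only [Equiv.coe_mulRight, mul_inv_rev, mul_assoc]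

theorem Ctx.inner_lift (c : Ctx N C a b s t) (B : H → ℂ) {F : H → ℂ}
    (hF : Cfsg.IsClassFunction H F) :
    Cfsg.classInner (lift N a B) F = 4⁻¹ * avg (fixIn N a) (fun y => B y * conj (F (a * y))) := by
  classical
  obtain ⟨haa, -⟩ := c.mul_self
  set U := Subgroup.centralizer ({a} : Set H) with hU
  have hcardU : (Nat.card U : ℂ) = 4 * Nat.card (fixIn N a) := by
    have h := c.sum_split U c.mem_cent.1 c.mem_cent.2 (fun _ => 1)
    simp only [Finset.sum_const, Finset.card_univ, nsmul_eq_mul, mul_one] at h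
    rw [Nat.card_eq_fintype_card, Nat.card_eq_fintype_card, h, fixIn]
    ring
  have hone : ∑ y : H, (if a * y ∈ fixIn N a then B (a * y) else 0) * conj (F y) =
      ∑ y : fixIn N a, B y * conj (F (a * y)) := by
    rw [← Fintype.sum_equiv (Equiv.mulLeft a)
      (fun z => (if z ∈ fixIn N a then B z else 0) * conj (F (a * z))) _ (fun z => by
        simp [← mul_assoc, haa])]
    rw [Finset.sum_subtype (p := fun z => z ∈ fixIn N a)
      (Finset.univ.filter fun z => z ∈ fixIn N a) (by simp) (fun z => B z * conj (F (a * z))) |>.symm,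
      Finset.sum_filter]
    exact Finset.sum_congr rfl fun z _ => by split <;> simp
  have hsum : ∑ h : H, lift N a B h * conj (F h) =
      (Nat.card U : ℂ)⁻¹ * ((Nat.card H : ℂ) * ∑ y : fixIn N a, B y * conj (F (a * y))) := by
    simp only [lift, ← hU, mul_assoc, Finset.sum_mul]
    rw [← Finset.mul_sum, Finset.sum_comm]
    congr 1
    refine (Finset.sum_eq_card_nsmul (b := ∑ y : fixIn N a, B y * conj (F (a * y)))
      fun x _ => ?_).trans (by rw [Finset.card_univ, nsmul_eq_mul, Nat.card_eq_fintype_card])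
    rw [← hone]
    exact Fintype.sum_equiv (MulAut.conj x).toEquiv _ _ fun h => by
      change _ = _ * conj (F (x * h * x⁻¹))
      rw [hF h x]
      simp [mul_assoc]
  have hH : (Nat.card H : ℂ) ≠ 0 := by exact_mod_cast Nat.card_pos.ne'
  rw [classInner_def, hsum, hcardU, avg]
  field_simp

theorem Ctx.lift_apply (c : Ctx N C a b s t) (d : Datum N C a b B0 K B) {y : H}
    (hy : y ∈ fixIn N a) : lift N a B (a * y) = B y := by
  classical
  obtain ⟨haa, -⟩ := c.mul_self
  obtain ⟨m, hm⟩ := c.odd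
  have hay : a * y * a = a * (a * y) := by rw [mul_assoc, (mem_fixIn.1 hy).2]
  have hpow : ∀ z ∈ fixIn N a, (a * z) ^ Nat.card N = a := by
    intro z hz
    have h1 : z ^ Nat.card N = 1 := congrArg Subtype.val
      (pow_card_eq_one' (x := (⟨z, hz.1⟩ : N)))
    rw [(show Commute a z from (mem_fixIn.1 hz).2.symm).mul_pow, h1, mul_one, hm, pow_succ,
      pow_mul, c.ha, one_pow, one_mul]
  have key : ∀ x : H, (if a * (x * (a * y) * x⁻¹) ∈ fixIn N a
      then B (a * (x * (a * y) * x⁻¹)) else 0) =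
        if x ∈ Subgroup.centralizer ({a} : Set H) then B y else 0 := by
    intro x
    by_cases hx : x ∈ Subgroup.centralizer ({a} : Set H)
    · have hxa := Subgroup.mem_centralizer_singleton_iff.1 hx
      have he : a * (x * (a * y) * x⁻¹) = x * y * x⁻¹ := by
        rw [← mul_assoc x a y, hxa, ← mul_assoc a, ← mul_assoc a, ← mul_assoc a, haa, one_mul]
      have hmem : x * y * x⁻¹ ∈ fixIn N a := by
        refine mem_fixIn.2 ⟨c.normal.conj_mem y hy.1 x, ?_⟩
        have h2 : x⁻¹ * a = a * x⁻¹ := ((show Commute x a from hxa).inv_left).eq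
        rw [mul_assoc, h2, ← mul_assoc, mul_assoc x y a, (mem_fixIn.1 hy).2, ← mul_assoc x a y,
          hxa]
        simp only [mul_assoc]
      rw [he, if_pos hmem, if_pos hx, d.isClassFunction hxa (mem_fixIn.1 hy).2]
    · rw [if_neg hx, if_neg]
      intro hmem
      have h := hpow _ hmem
      rw [← mul_assoc a a, haa, one_mul, conj_pow, hpow y hy] at h
      refine hx (Subgroup.mem_centralizer_singleton_iff.2 ?_)
      exact mul_inv_eq_iff_eq_mul.1 h
  rw [lift, Finset.sum_congr rfl fun x _ => key x, ← Finset.sum_filter, Finset.sum_const,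
    nsmul_eq_mul, Nat.card_eq_fintype_card, Fintype.card_subtype]
  have : ((Finset.univ.filter fun x : H => x ∈ Subgroup.centralizer ({a} : Set H)).card : ℂ) ≠ 0 := by
    exact_mod_cast Finset.card_ne_zero.2 ⟨1, by simp [Subgroup.one_mem]⟩
  field_simp

theorem Ctx.sum_sq (c : Ctx N C a b s t) (d : Datum N C a b B0 K B) :
    ∑ χ ∈ irrFinset H, mult N a B χ * conj (mult N a B χ) = 4 := by
  have hcl := lift_isClassFunction N a B
  have h := classInner_eq_sum_irr hcl (lift N a B)
  have hin : ∀ χ ∈ irrFinset H, Cfsg.classInner (lift N a B) χ = 4⁻¹ * conj (mult N a B χ) := by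
    intro χ hχ
    rw [c.inner_lift B (IsIrrCharacter.isClassFunction (mem_irrFinset.1 hχ))]
    simp only [mult, avg, map_mul, map_sum, map_inv₀, map_natCast, Complex.conj_conj]
    congr 2
    exact Finset.sum_congr rfl fun y _ => mul_comm _ _
  have hself : avg (fixIn N a) (fun y => B y * conj (B y)) = 1 := by
    have h1 := IsIrrCharacter.classInner_self d.irr
    have h4 : (Nat.card (fixIn N a) : ℂ) ≠ 0 := by exact_mod_cast Nat.card_pos.ne'
    have hcardU := c.sum_split _ c.mem_cent.1 c.mem_cent.2 (fun _ => 1)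
    simp only [Finset.sum_const, Finset.card_univ, nsmul_eq_mul, mul_one] at hcardU
    rw [classInner_def, c.sum_split _ c.mem_cent.1 c.mem_cent.2 (fun x => B x * conj (B x)),
      Nat.card_eq_fintype_card, hcardU] at h1
    rw [avg, Nat.card_eq_fintype_card]
    simp only [fixIn] at h1 h4 ⊢
    rw [Finset.sum_congr rfl (fun y _ => by rw [d.inv_e y y.2, d.inv_f y y.2, d.inv_g y y.2])] at h1
    simp only [Finset.sum_add_distrib] at h1
    field_simp at h1 ⊢
    exact h1
  have hl : Cfsg.classInner (lift N a B) (lift N a B) = 4⁻¹ := by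
    rw [c.inner_lift B hcl, avg_congr fun y hy => by rw [c.lift_apply d hy], hself, mul_one]
  rw [hl, Finset.sum_congr rfl fun χ hχ => by rw [hin χ hχ]] at h
  simp only [map_mul, map_inv₀, Complex.conj_conj, map_ofNat] at h
  rw [Finset.sum_congr rfl (fun χ _ => (by ring : (4 : ℂ)⁻¹ * conj (mult N a B χ) *
    (4⁻¹ * mult N a B χ) = 16⁻¹ * (mult N a B χ * conj (mult N a B χ)))), ← Finset.mul_sum] at h
  linear_combination -16 * h

theorem Ctx.mult_twist (c : Ctx N C a b s t) (lam : H →* ℂˣ) (hlam : ∀ x ∈ N, lam x = 1)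
    (B χ : H → ℂ) : mult N a B (χ * fun g => (lam g : ℂ)) = (lam a : ℂ) * mult N a B χ := by
  rw [mult, mult, ← avg_const_mul]
  exact avg_congr fun y hy => by rw [Pi.mul_apply, map_mul, hlam y hy.1]; simp; ring

/-- A character with odd multiplicity exists. -/
theorem Ctx.exists_odd (c : Ctx N C a b s t) (d : Datum N C a b B0 K B) :
    ∃ χ, Cfsg.IsIrrCharacter H χ ∧ ∃ n : ℤ, mult N a B χ = n ∧ Odd n := by
  classical
  by_contra hno
  have hev : ∀ χ ∈ irrFinset H, ∃ k : ℤ, mult N a B χ = ((2 * k : ℤ) : ℂ) := by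
    intro χ hχ
    obtain ⟨n, -, -, hn, -⟩ := c.parity d (mem_irrFinset.1 hχ)
    rcases Int.even_or_odd n with ⟨k, hk⟩ | hodd
    · exact ⟨k, by rw [hn, hk]; push_cast; ring⟩
    · exact absurd ⟨χ, mem_irrFinset.1 hχ, n, hn, hodd⟩ hno
  choose! k hk using hev
  have h := c.sum_sq d
  rw [Finset.sum_congr rfl fun χ hχ => by rw [hk χ hχ]] at h
  have hone : ∑ χ ∈ irrFinset H, k χ * k χ = 1 := by
    have : ((∑ χ ∈ irrFinset H, (2 * k χ) * (2 * k χ) : ℤ) : ℂ) = ((4 : ℤ) : ℂ) := by
      rw [← Int.cast_ofNat] at h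
      simpa [map_ofNat] using h
    have h2 : ∑ χ ∈ irrFinset H, (2 * k χ) * (2 * k χ) = 4 := by exact_mod_cast this
    have h3 : ∑ χ ∈ irrFinset H, (2 * k χ) * (2 * k χ) = 4 * ∑ χ ∈ irrFinset H, k χ * k χ := by
      rw [Finset.mul_sum]; exact Finset.sum_congr rfl fun χ _ => by ring
    omega
  obtain ⟨χ, hχ, hne⟩ : ∃ χ ∈ irrFinset H, k χ ≠ 0 := by
    by_contra! hall
    rw [Finset.sum_eq_zero fun χ hχ => by rw [hall χ hχ, mul_zero]] at hone
    exact zero_ne_one hone
  set ψ := χ * fun g => (s g : ℂ) with hψ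
  have hψi : ψ ∈ irrFinset H := mem_irrFinset.2 (IsIrrCharacter.mul_hom (mem_irrFinset.1 hχ) s)
  have hkψ : k ψ = - k χ := by
    have := hk ψ hψi
    rw [hψ, c.mult_twist s (fun x hx => ((c.mem_N x).1 hx).1) B χ, ← hψ, hk χ hχ, c.sa] at this
    have h2 : -(2 * k χ) = 2 * k ψ := by exact_mod_cast (by simpa using this :
      -((2 * k χ : ℤ) : ℂ) = ((2 * k ψ : ℤ) : ℂ))
    omega
  have hne' : ψ ≠ χ := fun e => by rw [e] at hkψ; omega
  have hle : k χ * k χ + k ψ * k ψ ≤ ∑ φ ∈ irrFinset H, k φ * k φ := by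
    rw [← Finset.sum_pair hne'.symm (f := fun φ => k φ * k φ)]
    exact Finset.sum_le_sum_of_subset_of_nonneg
      (by simp [Finset.insert_subset_iff, hχ, hψi]) fun φ _ _ => mul_self_nonneg _
  have := mul_self_pos.2 hne
  rw [hkψ, hone, neg_mul_neg] at hle
  omega

/-- A character of odd multiplicity not vanishing on two cosets is `± B` on the coset of `a`. -/
theorem Ctx.eq_on_coset (c : Ctx N C a b s t) (d : Datum N C a b B0 K B) {χ : H → ℂ}
    (hχ : Cfsg.IsIrrCharacter H χ) {n : ℤ} (hn : mult N a B χ = n) (hodd : Odd n)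
    (hb : ∃ y ∈ N, χ (b * y) ≠ 0) :
    (n = 1 ∨ n = -1) ∧ ∀ y ∈ fixIn N a, χ (a * y) = n * B y := by
  classical
  have hn0 : n ≠ 0 := fun h => by rw [h] at hodd; exact Int.not_odd_zero hodd
  obtain ⟨ya, hya, hane⟩ : ∃ y ∈ fixIn N a, χ (a * y) ≠ 0 := by
    by_contra! hall
    rw [mult, avg_congr (F' := fun _ => 0) fun y hy => by rw [hall y hy, zero_mul], avg] at hn
    simp at hn
    exact hn0 (by exact_mod_cast hn.symm)
  obtain ⟨yb, hyb, hbne⟩ := hb
  let L : Finset (H →* ℂˣ) := {1, s, t, s * t}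
  have hLN : ∀ l ∈ L, ∀ x ∈ N, l x = 1 := by
    intro l hl x hx
    simp only [L, Finset.mem_insert, Finset.mem_singleton] at hl
    obtain ⟨h1, h2⟩ := (c.mem_N x).1 hx
    rcases hl with rfl | rfl | rfl | rfl <;> simp [h1, h2]
  have hLa : ∀ l ∈ L, ((l a : ℂ) = 1 ∨ (l a : ℂ) = -1) := by
    intro l hl
    simp only [L, Finset.mem_insert, Finset.mem_singleton] at hl
    rcases hl with rfl | rfl | rfl | rfl <;> simp [c.sa, c.ta]
  have hinj : Set.InjOn (fun l : H →* ℂˣ => χ * fun g => (l g : ℂ)) L := by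
    intro l hl l' hl' he
    have h1 : (l a : ℂ) = l' a := by
      have := congrFun he (a * ya)
      simp only [Pi.mul_apply, map_mul, hLN l hl ya hya.1, hLN l' hl' ya hya.1, mul_one] at this
      exact mul_left_cancel₀ hane this
    have h2 : (l b : ℂ) = l' b := by
      have := congrFun he (b * yb)
      simp only [Pi.mul_apply, map_mul, hLN l hl yb hyb, hLN l' hl' yb hyb, mul_one] at this
      exact mul_left_cancel₀ hbne this
    simp only [L, Finset.coe_insert, Finset.coe_singleton, Set.mem_insert_iff,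
      Set.mem_singleton_iff] at hl hl'
    rcases hl with rfl | rfl | rfl | rfl <;> rcases hl' with rfl | rfl | rfl | rfl <;>
      first | rfl | (exfalso; revert h1 h2; simp [c.sa, c.sb, c.ta, c.tb]; norm_num)
  have hcard : L.card = 4 := by
    have hne : ∀ {l l' : H →* ℂˣ} (x : H), (l x : ℂ) ≠ l' x → l ≠ l' :=
      fun x h e => h (by rw [e])
    have e1 : (1 : H →* ℂˣ) ≠ s := hne a (by simp [c.sa]; norm_num)
    have e2 : (1 : H →* ℂˣ) ≠ t := hne b (by simp [c.tb]; norm_num)
    have e3 : (1 : H →* ℂˣ) ≠ s * t := hne a (by simp [c.sa, c.ta]; norm_num)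
    have e4 : s ≠ t := hne a (by simp [c.sa, c.ta]; norm_num)
    have e5 : s ≠ s * t := hne b (by simp [c.sb, c.tb]; norm_num)
    have e6 : t ≠ s * t := hne a (by simp [c.sa, c.ta]; norm_num)
    simp [L, e1, e2, e3, e4, e5, e6]
  set S := L.image (fun l : H →* ℂˣ => χ * fun g => (l g : ℂ)) with hS
  have hSsub : S ⊆ irrFinset H := by
    intro φ hφ
    obtain ⟨l, -, rfl⟩ := Finset.mem_image.1 hφ
    exact mem_irrFinset.2 (IsIrrCharacter.mul_hom hχ l)
  have hScard : S.card = 4 := by rw [hS, Finset.card_image_of_injOn hinj, hcard]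
  have hint : ∀ φ ∈ irrFinset H, ∃ m : ℤ, mult N a B φ = m := fun φ hφ => by
    obtain ⟨m, -, -, hm, -⟩ := c.parity d (mem_irrFinset.1 hφ)
    exact ⟨m, hm⟩
  choose! m hm using hint
  have hsum : ∑ φ ∈ irrFinset H, m φ * m φ = 4 := by
    have h := c.sum_sq d
    rw [Finset.sum_congr rfl fun φ hφ => by rw [hm φ hφ]] at h
    simp only [map_intCast] at h
    exact_mod_cast h
  have hmS : ∀ φ ∈ S, m φ * m φ = n * n := by
    intro φ hφ
    have hφ' := hm φ (hSsub hφ)
    obtain ⟨l, hl, rfl⟩ := Finset.mem_image.1 hφ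
    rw [c.mult_twist l (hLN l hl) B χ, hn] at hφ'
    rcases hLa l hl with h | h <;> rw [h] at hφ'
    · have : n = m (χ * fun g => (l g : ℂ)) := by exact_mod_cast (by simpa using hφ' :
        (n : ℂ) = (m (χ * fun g => (l g : ℂ)) : ℂ))
      rw [← this]
    · have : -n = m (χ * fun g => (l g : ℂ)) := by exact_mod_cast (by simpa using hφ' :
        -(n : ℂ) = (m (χ * fun g => (l g : ℂ)) : ℂ))
      rw [← this, neg_mul_neg]
  rw [← Finset.sum_sdiff hSsub, Finset.sum_congr rfl hmS, Finset.sum_const, hScard] at hsum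
  have hnn : 0 < n * n := mul_self_pos.2 hn0
  have hrest0 : ∀ φ ∈ irrFinset H \ S, 0 ≤ m φ * m φ := fun φ _ => mul_self_nonneg _
  have hpos := Finset.sum_nonneg hrest0
  simp only [nsmul_eq_mul, Nat.cast_ofNat] at hsum
  have hnn1 : n * n = 1 := by omega
  refine ⟨Int.eq_one_or_neg_one_of_mul_eq_one' hnn1 |>.elim
    (fun h => Or.inl h.1) (fun h => Or.inr h.1), fun y hy => ?_⟩
  have hzero := (Finset.sum_eq_zero_iff_of_nonneg hrest0).1 (by omega)
  have hcl := lift_isClassFunction N a B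
  have hexp := congrFun (eq_sum_irr hcl) (a * y)
  rw [c.lift_apply d hy, Finset.sum_apply, ← Finset.sum_subset hSsub (fun φ hφ hφS => by
    have h0 : m φ = 0 := mul_self_eq_zero.1 (hzero φ (Finset.mem_sdiff.2 ⟨hφ, hφS⟩))
    rw [Pi.smul_apply, c.inner_lift B (IsIrrCharacter.isClassFunction (mem_irrFinset.1 hφ))]
    have h1 : avg (fixIn N a) (fun y => B y * conj (φ (a * y))) = conj (mult N a B φ) := by
      simp only [mult, avg, map_mul, map_sum, map_inv₀, map_natCast, Complex.conj_conj]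
      congr 1
      exact Finset.sum_congr rfl fun y _ => mul_comm _ _
    rw [h1, hm φ hφ, h0]; simp), hS, Finset.sum_image hinj] at hexp
  have hterm : ∀ l ∈ L, (Cfsg.classInner (lift N a B) (χ * fun g => (l g : ℂ)) •
      (χ * fun g => (l g : ℂ))) (a * y) = 4⁻¹ * n * χ (a * y) := by
    intro l hl
    rw [Pi.smul_apply, c.inner_lift B (IsIrrCharacter.isClassFunction
      (IsIrrCharacter.mul_hom hχ l))]
    have h1 : avg (fixIn N a) (fun z => B z * conj ((χ * fun g => (l g : ℂ)) (a * z))) =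
        conj (mult N a B (χ * fun g => (l g : ℂ))) := by
      simp only [mult, avg, map_mul, map_sum, map_inv₀, map_natCast, Complex.conj_conj]
      congr 1
      exact Finset.sum_congr rfl fun z _ => mul_comm _ _
    rw [h1, c.mult_twist l (hLN l hl) B χ, hn, smul_eq_mul, Pi.mul_apply, map_mul l a y,
      hLN l hl y hy.1, mul_one]
    rcases hLa l hl with h | h <;> rw [h] <;> simp <;> ring
  rw [Finset.sum_congr rfl hterm, Finset.sum_const, hcard, nsmul_eq_mul] at hexp
  have hnC : (n : ℂ) * n = 1 := by exact_mod_cast hnn1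
  rw [hexp]
  push_cast
  linear_combination -χ (a * y) * hnC

/-- In a group of odd order an element whose inverse square lies in a subgroup lies there. -/
theorem mem_of_sq_inv_mem {U : Subgroup H} {k : H} (hk : Odd (orderOf k))
    (h : k⁻¹ * k⁻¹ ∈ U) : k ∈ U := by
  obtain ⟨i, hi⟩ := hk
  have h1 : k ^ 2 ∈ U := by
    have := U.inv_mem h
    simpa [sq] using this
  have h2 : k = (k ^ 2) ^ (i + 1) := by
    rw [← pow_mul, show 2 * (i + 1) = orderOf k + 1 by omega, pow_succ, pow_orderOf_eq_one,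
      one_mul]
  exact h2 ▸ U.pow_mem h1 _

/-- A product of conjugates of two of the involutions is conjugate into `(a * b) K`. -/
theorem Ctx.product_coset (c : Ctx N C a b s t) {Kc : Subgroup H}
    (hcomm : ∀ y ∈ fixIn N (a * b), a * y * a⁻¹ * y⁻¹ ∈ Kc) (y : H) :
    ∃ x : H, ∃ k ∈ fixIn N (a * b), k ∈ Kc ∧ x * (a * (y * b * y⁻¹)) * x⁻¹ = a * b * k := by
  haveI := c.normal
  obtain ⟨haa, hbb⟩ := c.mul_self
  set w := a * b with hw
  have hww : w * w = 1 := by rw [← sq]; exact c.rotate.hb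
  have hwinv : w⁻¹ = w := inv_eq_of_mul_eq_one_right hww
  have hainv : a⁻¹ = a := inv_eq_of_mul_eq_one_right haa
  have hbinv : b⁻¹ = b := inv_eq_of_mul_eq_one_right hbb
  have hh0 : a * (y * b * y⁻¹) * w⁻¹ ∈ N := by
    rw [c.mem_N]
    constructor <;> simp [hw, map_mul, map_inv, c.sa, c.sb, c.ta, c.tb]
  obtain ⟨x, hx, k, hk, hkw, he⟩ := exists_conj_mem_centralizer_mul N w
    (fun z hz => c.normal.conj_mem z hz w) (c.coprime_two (by rw [sq, hww]) le_rfl) _ hh0
  rw [inv_mul_cancel_right] at he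
  set a1 := x * a * x⁻¹ with ha1
  have ha1i : a1⁻¹ = a1 := by rw [ha1, mul_inv_rev, mul_inv_rev, inv_inv, hainv, mul_assoc]
  have hinv : a1 * (k * w) * a1⁻¹ = (k * w)⁻¹ := by
    rw [← he, ha1]
    simp only [mul_inv_rev, inv_inv, hainv, hbinv, mul_assoc, inv_mul_cancel_left]
    rw [← mul_assoc a a, haa, one_mul]
  have hpow : (k * w) ^ Nat.card N = w := by
    obtain ⟨m, hm⟩ := c.odd
    have h1 : k ^ Nat.card N = 1 := congrArg Subtype.val
      (pow_card_eq_one' (x := (⟨k, hk⟩ : N)))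
    rw [(show Commute k w from hkw).mul_pow, h1, one_mul, hm, pow_succ, pow_mul, sq, hww,
      one_pow, one_mul]
  have ha1w : a1 * w = w * a1 := by
    have := congrArg (· ^ Nat.card N) hinv
    simp only [conj_pow, inv_pow, hpow, hwinv] at this
    exact mul_inv_eq_iff_eq_mul.1 this
  have hy1 : a1 * a⁻¹ ∈ N := by
    rw [c.mem_N]; constructor <;> simp [ha1, map_mul, map_inv, c.sa, c.ta]
  have haw : a * w = w * a := by rw [hw, mul_assoc, ← c.hab]
  have hy1' : a1 * a⁻¹ ∈ fixIn N w := by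
    refine mem_fixIn.2 ⟨hy1, ?_⟩
    rw [hainv, mul_assoc, haw, ← mul_assoc, ha1w, mul_assoc]
  obtain ⟨u, hu, d, hd, hda, hu2⟩ := exists_conj_mem_centralizer_mul (fixIn N w) a
    (fun z hz => by
      refine mem_fixIn.2 ⟨c.normal.conj_mem z hz.1 a, ?_⟩
      have h2 : a⁻¹ * w = w * a⁻¹ := by rw [hainv, haw]
      rw [mul_assoc, h2, ← mul_assoc, mul_assoc a z w, (mem_fixIn.1 hz).2, ← mul_assoc a w z, haw]
      simp only [mul_assoc])
    (c.coprime_two c.ha inf_le_left) _ hy1'
  rw [inv_mul_cancel_right] at hu2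
  have hd1 : d = 1 := by
    have h1 : (d * a) ^ 2 = 1 := by
      rw [← hu2, conj_pow, sq, show a1 * a1 = 1 by
        nth_rw 1 [← ha1i]; exact inv_mul_cancel a1]
      simp
    rw [(show Commute d a from hda).mul_pow, c.ha, mul_one] at h1
    have hodd : Odd (orderOf d) := Odd.of_dvd_nat c.odd (by
      simpa using orderOf_dvd_natCard (⟨d, hd.1⟩ : N))
    have h2 : orderOf d = 1 := by
      rcases (Nat.dvd_prime Nat.prime_two).1 (orderOf_dvd_of_pow_eq_one h1) with h | h
      · exact h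
      · rw [h] at hodd; exact absurd hodd (by decide)
    exact orderOf_eq_one_iff.1 h2
  rw [hd1, one_mul] at hu2
  have huw := (mem_fixIn.1 hu).2
  set k' := u * k * u⁻¹ with hk'
  have huwc : u * w * u⁻¹ = w := by rw [huw, mul_inv_cancel_right]
  have hk'w : k' * w = w * k' := by
    have h : u * (k * w) * u⁻¹ = u * (w * k) * u⁻¹ := by rw [hkw]
    calc k' * w = (u * k * u⁻¹) * (u * w * u⁻¹) := by rw [huwc]
      _ = u * (k * w) * u⁻¹ := by group
      _ = u * (w * k) * u⁻¹ := h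
      _ = (u * w * u⁻¹) * (u * k * u⁻¹) := by group
      _ = w * k' := by rw [huwc]
  have hk'm : k' ∈ fixIn N w := mem_fixIn.2 ⟨c.normal.conj_mem k hk u, hk'w⟩
  have hinv' : a * (k' * w) * a⁻¹ = (k' * w)⁻¹ := by
    calc a * (k' * w) * a⁻¹
        = (u * a1 * u⁻¹) * ((u * k * u⁻¹) * (u * w * u⁻¹)) * (u * a1 * u⁻¹)⁻¹ := by
          rw [hu2, huwc]
      _ = u * (a1 * (k * w) * a1⁻¹) * u⁻¹ := by group
      _ = u * (k * w)⁻¹ * u⁻¹ := by rw [hinv]
      _ = ((u * k * u⁻¹) * (u * w * u⁻¹))⁻¹ := by group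
      _ = (k' * w)⁻¹ := by rw [huwc]
  have hk2 : a * k' * a⁻¹ = k'⁻¹ := by
    refine mul_right_cancel (b := w) ?_
    rw [mul_inv_rev, hwinv] at hinv'
    have h2 : w * k'⁻¹ = k'⁻¹ * w := ((show Commute k' w from hk'w).inv_left).eq.symm
    rw [← h2, ← hinv', hainv]
    simp only [mul_assoc, haw]
  have hkK : k' ∈ Kc := by
    refine mem_of_sq_inv_mem (Odd.of_dvd_nat c.odd (by
      simpa using orderOf_dvd_natCard (⟨k', hk'm.1⟩ : N))) ?_
    simpa [hk2] using hcomm k' hk'm
  refine ⟨u * x, k', hk'm, hkK, ?_⟩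
  rw [← hk'w, hk']
  calc u * x * (a * (y * b * y⁻¹)) * (u * x)⁻¹
      = u * (x * (a * (y * b * y⁻¹)) * x⁻¹) * u⁻¹ := by group
    _ = u * (k * w) * u⁻¹ := by rw [he]
    _ = u * k * u⁻¹ * w := by rw [← conj_mul, huwc]

theorem norm_eq_kernel {χ : H → ℂ} (hχ : Cfsg.IsCharacter H χ) {e k : H} {ε : ℂ}
    (hε : ‖ε‖ = 1) (h1 : χ e = ε * χ 1) (h2 : χ (e * k) = ε * χ 1) : χ k = χ 1 := by
  obtain ⟨n, ρ, rfl⟩ := hχ
  rw [ρ.char_one, Module.finrank_fin_fun] at h1 h2 ⊢
  obtain ⟨ω, hω⟩ := (norm_character_eq_iff ρ e).1 (by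
    rw [h1, norm_mul, hε, one_mul, Complex.norm_natCast, Module.finrank_fin_fun])
  have hx : ∀ x, ρ.character (e * x) = ω * ρ.character x := fun x => by
    simp only [Representation.character, map_mul, hω]
    rw [← Module.End.one_eq_id, smul_mul_assoc, one_mul, map_smul, smul_eq_mul]
  have he := hx 1
  rw [mul_one, h1, ρ.char_one, Module.finrank_fin_fun] at he
  have hk := hx k
  rw [h2] at hk
  by_cases hn : n = 0
  · subst hn
    simp [Representation.character, Subsingleton.elim (ρ k) 0]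
  have hω0 : ω ≠ 0 := fun h0 => by
    rw [h0, zero_mul, mul_eq_zero] at he
    rcases he with h | h
    · rw [h, norm_zero] at hε; exact zero_ne_one hε
    · exact hn (by exact_mod_cast h)
  exact mul_left_cancel₀ hω0 (hk.symm.trans he)

/-- The main result: the common restriction is constant. -/
theorem const_on_C (c : Ctx N C a b s t) {Ba Bb Bc : H → ℂ} {Ka Kb Kc : Subgroup H}
    (da : Datum N C a b B0 Ka Ba) (db : Datum N C b (a * b) B0 Kb Bb)
    (dc : Datum N C (a * b) a B0 Kc Bc) (hgen : Ka ⊔ Kb ⊔ Kc = N) :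
    ∀ x ∈ C, B0 x = B0 1 := by
  classical
  obtain ⟨haa, hbb⟩ := c.mul_self
  have cb := c.rotate
  have hba : b * (a * b) = a := by rw [← mul_assoc, ← c.hab, mul_assoc, hbb, mul_one]
  have hca : a * b * a = b := by rw [mul_assoc, ← c.hab, ← mul_assoc, haa, one_mul]
  have cc := cb.rotate
  rw [hba] at cc
  obtain ⟨χ, hχ, nc, hnc, hcodd⟩ := cc.exists_odd dc
  obtain ⟨nc', ra, rb, hnc', hra, hrb, hp1, hp2⟩ := cc.parity dc hχ
  rw [hca] at hrb
  obtain ⟨na, rb', rc, hna, hrb', hrc, hp3, hp4⟩ := c.parity da hχ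
  obtain ⟨nb, rc', ra', hnb, hrc', hra', hp5, hp6⟩ := cb.parity db hχ
  rw [hba] at hra'
  have e1 : nc' = nc := by exact_mod_cast hnc'.symm.trans hnc
  have e2 : rb' = rb := by exact_mod_cast hrb'.symm.trans hrb
  have e3 : ra' = ra := by exact_mod_cast hra'.symm.trans hra
  rw [Int.odd_iff] at hcodd
  have hao : Odd na := by rw [Int.odd_iff]; omega
  have hbo : Odd nb := by rw [Int.odd_iff]; omega
  have hnz : ∀ {e : H} {B : H → ℂ} {n : ℤ}, mult N e B χ = n → Odd n →
      ∃ y ∈ N, χ (e * y) ≠ 0 := by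
    intro e B n hn ho
    by_contra! hall
    rw [mult, avg_congr (F' := fun _ => 0) fun y hy => by rw [hall y hy.1, zero_mul], avg] at hn
    simp at hn
    rw [show n = 0 by exact_mod_cast hn.symm] at ho
    exact Int.not_odd_zero ho
  obtain ⟨hna1, hca'⟩ := c.eq_on_coset da hχ hna hao (hnz hnb hbo)
  obtain ⟨hnb1, hcb'⟩ := cb.eq_on_coset db hχ hnb hbo (hnz hnc (Int.odd_iff.2 hcodd))
  obtain ⟨hnc1, hcc'⟩ := cc.eq_on_coset dc hχ hnc (Int.odd_iff.2 hcodd) (hnz hna hao)
  have h1a : (1 : H) ∈ fixIn N a := (fixIn N a).one_mem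
  have hBa : Ba 1 = B0 1 := da.agree 1 C.one_mem
  have hBb : Bb 1 = B0 1 := db.agree 1 C.one_mem
  have hBc : Bc 1 = B0 1 := dc.agree 1 C.one_mem
  have hχa : χ a = na * B0 1 := by simpa [hBa] using hca' 1 h1a
  have hχb : χ b = nb * B0 1 := by simpa [hBb] using hcb' 1 (fixIn N b).one_mem
  have hχc : χ (a * b) = nc * B0 1 := by simpa [hBc] using hcc' 1 (fixIn N (a * b)).one_mem
  have hcls := IsIrrCharacter.isClassFunction hχ
  have hω := IsIrrCharacter.sum_class_apply_mul hχ b a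
  rw [Finset.sum_congr rfl (fun z hz => (?_ : χ (z * a) = nc * B0 1))] at hω
  rotate_left
  · obtain ⟨y, rfl⟩ := isConj_iff.1 (Finset.mem_filter.1 hz).2
    obtain ⟨x, k, hk, hkK, he⟩ := c.product_coset (Kc := Kc) dc.comm y
    rw [IsCharacter.apply_mul_comm (IsIrrCharacter.isCharacter hχ), ← hcls _ x, he,
      hcc' k hk, dc.triv k hkK, hBc]
  rw [Finset.sum_const, nsmul_eq_mul, Nat.card_eq_fintype_card, Fintype.card_subtype] at hω
  have hcl0 : ((Finset.univ.filter fun z : H => IsConj b z).card : ℂ) ≠ 0 := by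
    exact_mod_cast Finset.card_ne_zero.2
      ⟨b, Finset.mem_filter.2 ⟨Finset.mem_univ _, IsConj.refl b⟩⟩
  obtain ⟨d, hd0, hd⟩ := IsIrrCharacter.exists_degree hχ
  obtain ⟨m, hm0, hm⟩ := IsIrrCharacter.exists_degree da.irr
  simp only [OneMemClass.coe_one, hBa] at hm
  rw [hχa, hχb, hd, hm] at hω
  have hdC : (d : ℂ) ≠ 0 := by exact_mod_cast hd0.ne'
  have hmC : (m : ℂ) ≠ 0 := by exact_mod_cast hm0.ne'
  field_simp at hω
  have hdm : (nc : ℤ) * d = na * nb * m := by
    have : ((nc : ℂ)) * d = na * nb * m := by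
      linear_combination hω
    exact_mod_cast this
  have hdeq : d = m := by
    rcases hna1 with rfl | rfl <;> rcases hnb1 with rfl | rfl <;>
      rcases hnc1 with rfl | rfl <;> omega
  have hχ1 : χ 1 = B0 1 := by rw [hd, hm, hdeq]
  have hker : N ≤ kerSubgroup (IsIrrCharacter.isCharacter hχ) := by
    have key : ∀ {e : H} {K' : Subgroup H} {B' : H → ℂ} {n : ℤ}, (n = 1 ∨ n = -1) →
        B' 1 = B0 1 → (∀ y ∈ fixIn N e, χ (e * y) = n * B' y) →
        K' ≤ fixIn N e → (∀ k ∈ K', B' k = B' 1) →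
        K' ≤ kerSubgroup (IsIrrCharacter.isCharacter hχ) := by
      intro e K' B' n hn hB' hval hle htriv k hk
      rw [mem_kerSubgroup]
      refine norm_eq_kernel (IsIrrCharacter.isCharacter hχ) (e := e) (ε := (n : ℂ))
        (by rcases hn with rfl | rfl <;> simp) ?_ ?_
      · simpa [hB', ← hχ1] using hval 1 (fixIn N e).one_mem
      · rw [hval k (hle hk), htriv k hk, hB', hχ1]
    rw [← hgen]
    exact sup_le (sup_le (key hna1 hBa hca' da.K_le da.triv) (key hnb1 hBb hcb' db.K_le db.triv))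
      (key hnc1 hBc hcc' dc.K_le dc.triv)
  intro x hx
  obtain ⟨hxN, hxa, -⟩ := (c.mem_C x).1 hx
  have h := hca' x (mem_fixIn.2 ⟨hxN, hxa⟩)
  rw [IsCharacter.apply_mul_comm (IsIrrCharacter.isCharacter hχ),
    IsCharacter.apply_mul_of_apply_eq (IsIrrCharacter.isCharacter hχ)
      ((mem_kerSubgroup (IsIrrCharacter.isCharacter hχ) x).1 (hker hxN)),
    hχa, da.agree x hx] at h
  refine (mul_left_cancel₀ ?_ h).symm
  rcases hna1 with rfl | rfl <;> simp

end CfsgLib.FourCosets
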