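import Cfsg.Agent.Coprime.FourGroupCosets
import Cfsg.Agent.Solvable.CoprimeAct
import Mathlib.GroupTheory.SemidirectProduct
import Mathlib.GroupTheory.NoncommCoprod

/-!
Fixed points of a four-group of automorphisms of a group of odd order, with no solvability
assumption: if an abelian 2-group `A` acts with `⁅Y, A⁆ = Y` and `a, b ∈ A` act as commuting
involutions, then `C_Y(a, b)` is generated by its intersections with the `⁅C_Y(e), A⁆`.
-/

namespace CfsgLib.FourCosets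

open CfsgLib.Char
open scoped Classical

universe u

variable {H : Type u} [Group H] [Finite H] {N C : Subgroup H} {a b : H} {s t : H →* ℂˣ}

/-- An involution in the coset of an involution `g` normalising an odd order group is conjugate
to `g`. -/
theorem exists_conj_eq (U : Subgroup H) (g u : H) (hU : Odd (Nat.card U)) (hg : g ^ 2 = 1)
    (hgU : ∀ x ∈ U, g * x * g⁻¹ ∈ U) (hu : u ^ 2 = 1) (hug : u * g⁻¹ ∈ U) :
    ∃ x ∈ U, x * u * x⁻¹ = g := by
  obtain ⟨x, hx, d, hd, hda, he⟩ := exists_conj_mem_centralizer_mul U g hgU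
    (Nat.Coprime.coprime_dvd_left (orderOf_dvd_of_pow_eq_one hg) (Nat.coprime_two_left.2 hU)) _ hug
  rw [inv_mul_cancel_right] at he
  have h1 : (d * g) ^ 2 = 1 := by rw [← he, conj_pow, hu]; simp
  rw [(show Commute d g from hda).mul_pow, hg, mul_one] at h1
  have hodd : Odd (orderOf d) :=
    Odd.of_dvd_nat hU (by simpa using orderOf_dvd_natCard (⟨d, hd⟩ : U))
  rcases (Nat.dvd_prime Nat.prime_two).1 (orderOf_dvd_of_pow_eq_one h1) with h | h
  · exact ⟨x, hx, by rw [he, orderOf_eq_one_iff.1 h, one_mul]⟩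
  · rw [h] at hodd; exact absurd hodd (by decide)

/-- The centralisers of the three involutions generate `N`. -/
theorem Ctx.le_sup_fixIn (c : Ctx N C a b s t) :
    N ≤ fixIn N a ⊔ fixIn N b ⊔ fixIn N (a * b) := by
  haveI := c.normal
  intro y hy
  obtain ⟨haa, hbb⟩ := c.mul_self
  have hainv : a⁻¹ = a := inv_eq_of_mul_eq_one_right haa
  have hbinv : b⁻¹ = b := inv_eq_of_mul_eq_one_right hbb
  set w := a * b with hw
  have hw2 : w ^ 2 = 1 := c.rotate.hb
  set b1 := y * b * y⁻¹ with hb1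
  have hb1b1 : b1 * b1 = 1 := by rw [hb1, conj_mul, hbb, mul_one, mul_inv_cancel]
  clear_value b1
  have hb1inv : b1⁻¹ = b1 := inv_eq_of_mul_eq_one_right hb1b1
  set h := a * b1 with hh
  set c1 := h ^ Nat.card N with hc1
  obtain ⟨hy1, hy2⟩ := (c.mem_N y).1 hy
  have hsh : s h = -1 := by simp [hh, hb1, map_mul, map_inv, c.sa, c.sb, hy1]
  have hth : t h = -1 := by simp [hh, hb1, map_mul, map_inv, c.ta, c.tb, hy2]
  have hmem : c1 * w⁻¹ ∈ N := by
    rw [c.mem_N, hc1]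
    constructor <;>
      simp [map_mul, map_inv, map_pow, hsh, hth, c.odd.neg_one_pow, hw, c.sa, c.sb, c.ta, c.tb]
  have h2 : h ^ 2 ∈ N := by
    rw [c.mem_N]; constructor <;> simp [map_pow, hsh, hth]
  have hc12 : c1 ^ 2 = 1 := by
    rw [hc1, ← pow_mul, mul_comm, pow_mul]
    exact congrArg Subtype.val (pow_card_eq_one' (x := (⟨h ^ 2, h2⟩ : N)))
  have hc1inv : c1⁻¹ = c1 := inv_eq_of_mul_eq_one_right (by rw [← sq, hc12])
  have hac : a * c1 = c1 * a := by
    have e : a * h * a⁻¹ = h⁻¹ := by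
      rw [hh, mul_inv_rev, hb1inv, hainv, ← mul_assoc, haa, one_mul]
    have := congrArg (· ^ Nat.card N) e
    simp only [conj_pow, inv_pow, ← hc1, hc1inv] at this
    exact mul_inv_eq_iff_eq_mul.1 this
  have hbc : b1 * c1 = c1 * b1 := by
    have e : b1 * h * b1⁻¹ = h⁻¹ := by
      rw [hh, mul_inv_rev, hb1inv, hainv, mul_assoc, mul_assoc, hb1b1, mul_one]
    have := congrArg (· ^ Nat.card N) e
    simp only [conj_pow, inv_pow, ← hc1, hc1inv] at this
    exact mul_inv_eq_iff_eq_mul.1 this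
  obtain ⟨x, hx, hxc⟩ := exists_conj_eq N w c1 c.odd hw2
    (fun z hz => c.normal.conj_mem z hz w) hc12 hmem
  have hoddw : Odd (Nat.card (fixIn N w)) :=
    Odd.of_dvd_nat c.odd (Subgroup.card_dvd_of_le inf_le_left)
  have hnorm : ∀ g, g * w = w * g → ∀ z ∈ fixIn N w, g * z * g⁻¹ ∈ fixIn N w := by
    intro g hg z hz
    refine mem_fixIn.2 ⟨c.normal.conj_mem z hz.1 g, ?_⟩
    have h2 : g⁻¹ * w = w * g⁻¹ := ((show Commute g w from hg).inv_left).eq
    rw [mul_assoc, h2, ← mul_assoc, mul_assoc g z w, (mem_fixIn.1 hz).2, ← mul_assoc g w z, hg]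
    simp only [mul_assoc]
  have key : ∀ g v : H, g * w = w * g → g ^ 2 = 1 → v ^ 2 = 1 → v * g⁻¹ ∈ N → v * w = w * v →
      ∃ z ∈ fixIn N w, z * v * z⁻¹ = g := by
    intro g v hg hg2 hv2 hvg hvw
    refine exists_conj_eq (fixIn N w) g v hoddw hg2 (hnorm g hg) hv2 (mem_fixIn.2 ⟨hvg, ?_⟩)
    rw [mul_assoc, ((show Commute g w from hg).inv_left).eq, ← mul_assoc, hvw, mul_assoc]
  have haw : a * w = w * a := by rw [hw, mul_assoc, ← c.hab]
  have hbw : b * w = w * b := by rw [hw, ← mul_assoc, ← c.hab]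
  have hconj : ∀ v, v * c1 = c1 * v → x * v * x⁻¹ * w = w * (x * v * x⁻¹) := by
    intro v hv
    rw [← hxc, conj_mul, conj_mul, hv]
  obtain ⟨hx1, hx2⟩ := (c.mem_N x).1 hx
  obtain ⟨z, hz, hza⟩ := key a (x * a * x⁻¹) haw c.ha (by rw [conj_pow, c.ha]; simp)
    (by rw [c.mem_N]; constructor <;> simp [map_mul, map_inv, hx1, hx2]) (hconj a hac)
  obtain ⟨z', hz', hzb⟩ := key b (x * b1 * x⁻¹) hbw c.hb
    (by rw [conj_pow, sq, hb1b1]; simp)
    (by rw [c.mem_N]; constructor <;> simp [hb1, map_mul, map_inv, hx1, hx2, hy1, hy2])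
    (hconj b1 hbc)
  have hzx : z * x ∈ fixIn N a := by
    refine mem_fixIn.2 ⟨N.mul_mem hz.1 hx, mul_inv_eq_iff_eq_mul.1 ?_⟩
    calc z * x * a * (z * x)⁻¹ = z * (x * a * x⁻¹) * z⁻¹ := by group
      _ = a := hza
  have hzy : z' * x * y ∈ fixIn N b := by
    refine mem_fixIn.2 ⟨N.mul_mem (N.mul_mem hz'.1 hx) hy, mul_inv_eq_iff_eq_mul.1 ?_⟩
    calc z' * x * y * b * (z' * x * y)⁻¹ = z' * (x * b1 * x⁻¹) * z'⁻¹ := by rw [hb1]; group
      _ = b := hzb
  have hxS : x ∈ fixIn N a ⊔ fixIn N b ⊔ fixIn N w := by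
    rw [show x = z⁻¹ * (z * x) by group]
    exact mul_mem (inv_mem (Subgroup.mem_sup_right hz))
      (Subgroup.mem_sup_left (Subgroup.mem_sup_left hzx))
  rw [show y = x⁻¹ * z'⁻¹ * (z' * x * y) by group]
  exact mul_mem (mul_mem (inv_mem hxS) (inv_mem (Subgroup.mem_sup_right hz')))
    (Subgroup.mem_sup_left (Subgroup.mem_sup_right hzy))

end CfsgLib.FourCosets

namespace CfsgLib.FourFixed

open Subgroup CfsgLib.FourCosets CfsgLib.Char
open scoped commutatorElement Classical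

universe u

variable {G : Type u} [Group G]

/-- The homomorphism from the group of order two given by an element of square one. -/
noncomputable def signHom {X : Type*} [Monoid X] (x : X) (hx : x * x = 1) : ℤˣ →* X where
  toFun m := if m = 1 then 1 else x
  map_one' := if_pos rfl
  map_mul' m n := by
    rcases Int.units_eq_one_or m with rfl | rfl <;> rcases Int.units_eq_one_or n with rfl | rfl <;>
      simp [hx]

theorem signHom_neg_one {X : Type*} [Monoid X] (x : X) (hx : x * x = 1) :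
    signHom x hx (-1) = x := by simp [signHom]

/-- A homomorphism onto a quotient of a supplement of a normal subgroup. -/
theorem exists_retraction {P : Type*} [Group P] (K : Subgroup P) [K.Normal] {C0 : Type*} [Group C0]
    (ι : C0 →* P) (X : Subgroup C0) [X.Normal] (hKC : ∀ p, ∃ k ∈ K, ∃ c, p = k * ι c)
    (hX : ∀ c, ι c ∈ K → c ∈ X) :
    ∃ π : P →* C0 ⧸ X, (∀ c, π (ι c) = c) ∧ ∀ k ∈ K, π k = 1 := by
  let f : C0 →* P ⧸ K := (QuotientGroup.mk' K).comp ι
  have hf : Function.Surjective f := by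
    intro q
    obtain ⟨p, rfl⟩ := QuotientGroup.mk'_surjective K q
    obtain ⟨k, hk, c, rfl⟩ := hKC p
    refine ⟨c, ?_⟩
    simp [f, (QuotientGroup.eq_one_iff k).2 hk]
  have hker : f.ker ≤ (QuotientGroup.mk' X).ker := by
    intro c hc
    rw [QuotientGroup.ker_mk']
    exact hX c ((QuotientGroup.eq_one_iff _).1 hc)
  refine ⟨(f.liftOfSurjective hf ⟨QuotientGroup.mk' X, hker⟩).comp (QuotientGroup.mk' K),
    fun c => ?_, fun k hk => ?_⟩
  · exact MonoidHom.liftOfRightInverse_comp_apply f _ (Function.rightInverse_surjInv hf) ⟨QuotientGroup.mk' X, hker⟩ c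
  · rw [MonoidHom.comp_apply, QuotientGroup.mk'_apply, (QuotientGroup.eq_one_iff k).2 hk, map_one]

theorem commutator_normal_in {P A : Subgroup G} {p k : G} (hp : p ∈ P) (hk : k ∈ ⁅P, A⁆) :
    p * k * p⁻¹ ∈ ⁅P, A⁆ :=
  (mem_normalizer_iff.1 (normalizer_commutator_ge_left P A hp) k).1 hk

theorem fix_normalized {Y A : Subgroup G} (hAc : IsMulCommutative A)
    (hAY : A ≤ normalizer (Y : Set G)) {e : G} (he : e ∈ A) :
    A ≤ normalizer ((Y ⊓ centralizer ({e} : Set G) : Subgroup G) : Set G) := by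
  have hc : ∀ g ∈ A, e * g = g * e := fun g hg =>
    congrArg Subtype.val (hAc.is_comm.comm ⟨e, he⟩ ⟨g, hg⟩)
  have key : ∀ g ∈ A, ∀ y ∈ Y ⊓ centralizer ({e} : Set G),
      g * y * g⁻¹ ∈ Y ⊓ centralizer ({e} : Set G) := by
    intro g hg y hy
    refine ⟨(mem_normalizer_iff.1 (hAY hg) y).1 hy.1, mem_centralizer_singleton_iff.2 ?_⟩
    have h1 : g⁻¹ * e = e * g⁻¹ := ((show Commute e g from hc g hg).inv_right).eq.symm
    rw [mul_assoc, h1, ← mul_assoc, mul_assoc g y e, mem_centralizer_singleton_iff.1 hy.2,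
      ← mul_assoc g e y, ← hc g hg]
    simp only [mul_assoc]
  intro g hg
  refine mem_normalizer_iff.2 fun y => ⟨key g hg y, fun h => ?_⟩
  simpa [mul_assoc] using key g⁻¹ (A.inv_mem hg) _ h

theorem conj_sub_mem {P A : Subgroup G} {g y : G} (hg : g ∈ A) (hy : y ∈ P) :
    g * y * g⁻¹ * y⁻¹ ∈ ⁅P, A⁆ := by
  rw [commutator_comm, ← commutatorElement_def]
  exact commutator_mem_commutator hg hy

variable [Finite G]

/-- Fixed points of a four-group are generated by their parts in the commutators of the fixed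
points of its involutions. -/
theorem four {Y A : Subgroup G} (hodd : Odd (Nat.card Y)) (hA2 : IsPGroup 2 A)
    (hAc : IsMulCommutative A) (hAY : A ≤ normalizer (Y : Set G)) (hYA : ⁅Y, A⁆ = Y)
    {a b : G} (ha : a ∈ A) (hb : b ∈ A) (ha2 : ∀ y ∈ Y, a * a * y = y * (a * a))
    (hb2 : ∀ y ∈ Y, b * b * y = y * (b * b)) :
    let C := Y ⊓ centralizer ({a} : Set G) ⊓ centralizer ({b} : Set G)
    C ≤ C ⊓ ⁅Y ⊓ centralizer ({a} : Set G), A⁆ ⊔ C ⊓ ⁅Y ⊓ centralizer ({b} : Set G), A⁆ ⊔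
      C ⊓ ⁅Y ⊓ centralizer ({a * b} : Set G), A⁆ := by
  intro C
  set P : G → Subgroup G := fun e => Y ⊓ centralizer ({e} : Set G) with hP
  set Xg := C ⊓ ⁅P a, A⁆ ⊔ C ⊓ ⁅P b, A⁆ ⊔ C ⊓ ⁅P (a * b), A⁆ with hXg
  have hab : a * b = b * a := congrArg Subtype.val (hAc.is_comm.comm ⟨a, ha⟩ ⟨b, hb⟩)
  have hmemC : ∀ x, x ∈ C ↔ x ∈ Y ∧ x * a = a * x ∧ x * b = b * x := fun x => by
    simp [C, mem_inf, mem_centralizer_singleton_iff, and_assoc]
  have hCab : ∀ x ∈ C, x * (a * b) = a * b * x := fun x hx => by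
    obtain ⟨-, h1, h2⟩ := (hmemC x).1 hx
    rw [← mul_assoc, h1, mul_assoc, h2, mul_assoc]
  have hCP : ∀ e ∈ ({a, b, a * b} : Set G), C ≤ P e := by
    intro e he x hx
    obtain ⟨h0, h1, h2⟩ := (hmemC x).1 hx
    refine ⟨h0, mem_centralizer_singleton_iff.2 ?_⟩
    rcases he with rfl | rfl | rfl
    · exact h1
    · exact h2
    · exact hCab x hx
  have hXC : Xg ≤ C := sup_le (sup_le inf_le_left inf_le_left) inf_le_left
  have hmema : a ∈ ({a, b, a * b} : Set G) := by simp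
  have hmemb : b ∈ ({a, b, a * b} : Set G) := by simp
  have hmemc : a * b ∈ ({a, b, a * b} : Set G) := by simp
  let X : Subgroup C := Xg.subgroupOf C
  haveI hXn : X.Normal := by
    have hn : ∀ e ∈ ({a, b, a * b} : Set G), C ≤ normalizer ((C ⊓ ⁅P e, A⁆ : Subgroup G) : Set G) := by
      intro e he g hg
      refine mem_normalizer_iff.2 fun x => ⟨fun hx => ?_, fun hx => ?_⟩
      · exact ⟨C.mul_mem (C.mul_mem hg hx.1) (C.inv_mem hg), commutator_normal_in (hCP e he hg) hx.2⟩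
      · have h1 := C.mul_mem (C.mul_mem (C.inv_mem hg) hx.1) hg
        have h2 := commutator_normal_in (hCP e he (C.inv_mem hg)) hx.2
        simp only [inv_inv, mul_assoc, inv_mul_cancel_left, inv_mul_cancel, mul_one] at h1 h2
        exact ⟨h1, h2⟩
    constructor
    intro x hx g
    rw [mem_subgroupOf] at hx ⊢
    have hg : (g : G) ∈ normalizer (Xg : Set G) :=
      (normalizer_inf_normalizer_le_normalizer_sup _ _)
        ⟨(normalizer_inf_normalizer_le_normalizer_sup _ _) ⟨hn a hmema g.2, hn b hmemb g.2⟩,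
          hn (a * b) hmemc g.2⟩
    exact (mem_normalizer_iff.1 hg (x : G)).1 hx
  suffices hmain : ∀ x : C, (x : C ⧸ X) = 1 by
    intro x hx
    exact mem_subgroupOf.1 ((QuotientGroup.eq_one_iff _).1 (hmain ⟨x, hx⟩))
  -- the retractions
  have hcopA : ∀ e, (Nat.card A).Coprime (Nat.card (P e)) := fun e => by
    obtain ⟨n, hn⟩ := IsPGroup.iff_card.1 hA2
    rw [hn]
    exact (Nat.coprime_two_left.2 (Odd.of_dvd_nat hodd (card_dvd_of_le inf_le_left))).pow_left n
  haveI : Group.IsSolvable A := Group.isSolvable_of_comm fun x y => hAc.is_comm.comm x y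
  have hret : ∀ e ∈ ({a, b, a * b} : Set G), e ∈ A →
      ∃ π : P e →* C ⧸ X, (∀ x : C, ∀ h : (x : G) ∈ P e, π ⟨x, h⟩ = (x : C ⧸ X)) ∧
        ∀ k : P e, (k : G) ∈ ⁅P e, A⁆ → π k = 1 := by
    intro e he heA
    haveI : (⁅P e, A⁆.subgroupOf (P e)).Normal :=
      ⟨fun k hk g => by
        rw [mem_subgroupOf] at hk ⊢
        exact commutator_normal_in g.2 hk⟩
    obtain ⟨π, h1, h2⟩ := exists_retraction (⁅P e, A⁆.subgroupOf (P e))
      (inclusion (hCP e he)) X (fun p => by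
        obtain ⟨k, hk, c, hc, hkc⟩ := CoprimeAct.exists_mul_of_mem
          (fix_normalized hAc hAY heA) (hcopA e) (Or.inl ‹_›) p.2
        have hcC : c ∈ C := (hmemC c).2 ⟨hc.1.1, (mem_centralizer_iff.1 hc.2 a ha).symm,
          (mem_centralizer_iff.1 hc.2 b hb).symm⟩
        exact ⟨⟨k, le_normalizer_iff_commutator_le_left.1 (fix_normalized hAc hAY heA) hk⟩, hk,
          ⟨c, hcC⟩, Subtype.ext hkc.symm⟩)
      (fun x hx => by
        rw [mem_subgroupOf] at hx
        rw [mem_subgroupOf, hXg]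
        rcases he with rfl | rfl | rfl
        · exact mem_sup_left (mem_sup_left ⟨x.2, hx⟩)
        · exact mem_sup_left (mem_sup_right ⟨x.2, hx⟩)
        · exact mem_sup_right ⟨x.2, hx⟩)
    exact ⟨π, fun x h => h1 x, fun k hk => h2 k (mem_subgroupOf.2 hk)⟩
  -- the extension
  let α : ∀ g : G, g ∈ A → MulAut Y := fun g hg =>
    { toFun := fun y => ⟨g * y * g⁻¹, (mem_normalizer_iff.1 (hAY hg) y).1 y.2⟩
      invFun := fun y => ⟨g⁻¹ * y * g, (mem_normalizer_iff'.1 (hAY hg) _).2 (by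
        simp only [mul_assoc, mul_inv_cancel_left]; exact y.2)⟩
      left_inv := fun y => Subtype.ext (by simp [mul_assoc])
      right_inv := fun y => Subtype.ext (by simp [mul_assoc])
      map_mul' := fun y z => Subtype.ext (by simp [mul_assoc]) }
  have hsq : ∀ g (hg : g ∈ A), (∀ y ∈ Y, g * g * y = y * (g * g)) → α g hg * α g hg = 1 :=
    fun g hg h => MulEquiv.ext fun y => Subtype.ext (by
      change g * (g * (y : G) * g⁻¹) * g⁻¹ = y
      rw [show g * (g * (y : G) * g⁻¹) * g⁻¹ = g * g * y * (g * g)⁻¹ by group, h y y.2]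
      group)
  have hcomm : ∀ m n, Commute (signHom (α a ha) (hsq a ha ha2) m)
      (signHom (α b hb) (hsq b hb hb2) n) := by
    intro m n
    have : α a ha * α b hb = α b hb * α a ha := MulEquiv.ext fun y => Subtype.ext (by
      change a * (b * (y : G) * b⁻¹) * a⁻¹ = b * (a * y * a⁻¹) * b⁻¹
      calc a * (b * (y : G) * b⁻¹) * a⁻¹ = (a * b) * y * (a * b)⁻¹ := by group
        _ = (b * a) * y * (b * a)⁻¹ := by rw [hab]
        _ = _ := by group)
    rcases Int.units_eq_one_or m with rfl | rfl <;> rcases Int.units_eq_one_or n with rfl | rfl <;>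
      simp [signHom_neg_one, Commute.one_left, Commute.one_right]
    exact this
  let φ : ℤˣ × ℤˣ →* MulAut Y :=
    MonoidHom.noncommCoprod (signHom (α a ha) (hsq a ha ha2)) (signHom (α b hb) (hsq b hb hb2)) hcomm
  let el : ℤˣ × ℤˣ → G := fun m => (if m.1 = 1 then 1 else a) * (if m.2 = 1 then 1 else b)
  have hel : ∀ m, el m ∈ A := fun m => A.mul_mem
    (by split <;> [exact A.one_mem; exact ha]) (by split <;> [exact A.one_mem; exact hb])
  have hφ : ∀ m y, (φ m y : G) = el m * y * (el m)⁻¹ := by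
    rintro ⟨m, n⟩ y
    rcases Int.units_eq_one_or m with rfl | rfl <;> rcases Int.units_eq_one_or n with rfl | rfl <;>
      simp [φ, el, signHom, α, mul_assoc]
  haveI : Finite (Y ⋊[φ] (ℤˣ × ℤˣ)) := Finite.of_equiv _ SemidirectProduct.equivProd.symm
  let pm : ℤˣ →* ℂˣ := Units.map (Int.castRingHom ℂ : ℤ →* ℂ)
  have hpm : ∀ m, pm m = 1 ↔ m = 1 := fun m => by
    rcases Int.units_eq_one_or m with rfl | rfl
    · simp
    · have h : pm (-1) = -1 := Units.ext (by simp [pm])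
      have hne : (-1 : ℂˣ) ≠ 1 := fun e => by
        have := congrArg (fun z : ℂˣ => (z : ℂ)) e
        norm_num at this
      simp [h, hne]
  have hpm1 : pm (-1) = -1 := Units.ext (by simp [pm])
  let s : (Y ⋊[φ] (ℤˣ × ℤˣ)) →* ℂˣ := pm.comp ((MonoidHom.fst ℤˣ ℤˣ).comp SemidirectProduct.rightHom)
  let t : (Y ⋊[φ] (ℤˣ × ℤˣ)) →* ℂˣ := pm.comp ((MonoidHom.snd ℤˣ ℤˣ).comp SemidirectProduct.rightHom)
  let a' : (Y ⋊[φ] (ℤˣ × ℤˣ)) := SemidirectProduct.inr (-1, 1)
  let b' : (Y ⋊[φ] (ℤˣ × ℤˣ)) := SemidirectProduct.inr (1, -1)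
  let inlH : Y →* (Y ⋊[φ] (ℤˣ × ℤˣ)) := SemidirectProduct.inl
  let CH : Subgroup (Y ⋊[φ] (ℤˣ × ℤˣ)) := (C.subgroupOf Y).map inlH
  have hinr : ∀ (m : ℤˣ × ℤˣ) (x : (Y ⋊[φ] (ℤˣ × ℤˣ))), x * SemidirectProduct.inr m = SemidirectProduct.inr m * x ↔
      φ m x.left = x.left := fun m x => by
    rw [SemidirectProduct.ext_iff]
    simp only [SemidirectProduct.mul_left, SemidirectProduct.mul_right,
      SemidirectProduct.left_inr, SemidirectProduct.right_inr, map_one, mul_one, one_mul]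
    exact ⟨fun h => h.1.symm, fun h => ⟨h.symm, mul_comm _ _⟩⟩
  have hfix : ∀ (m : ℤˣ × ℤˣ) (x : Y), φ m x = x ↔ (x : G) * el m = el m * x := fun m x => by
    rw [Subtype.ext_iff, hφ, mul_inv_eq_iff_eq_mul, eq_comm]
  have hela : el (-1, 1) = a := by simp [el]
  have helb : el (1, -1) = b := by simp [el]
  have helc : el (-1, -1) = a * b := by simp [el]
  have hab' : a' * b' = SemidirectProduct.inr (-1, -1) := by
    change SemidirectProduct.inr (-1, 1) * SemidirectProduct.inr (1, -1) = _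
    rw [← map_mul]; simp
  have hN : ∀ x : (Y ⋊[φ] (ℤˣ × ℤˣ)), x ∈ inlH.range ↔ x.right = 1 := fun x => by
    change x ∈ (SemidirectProduct.inl : Y →* (Y ⋊[φ] (ℤˣ × ℤˣ))).range ↔ _
    rw [SemidirectProduct.range_inl_eq_ker_rightHom]; rfl
  have ctx : Ctx inlH.range CH a' b' s t := by
    refine ⟨?_, ?_, ?_, ?_, ?_, ?_, ?_, ?_, ?_, ?_, ?_, ?_, ?_⟩
    · change (SemidirectProduct.inl : Y →* (Y ⋊[φ] (ℤˣ × ℤˣ))).range.Normal
      rw [SemidirectProduct.range_inl_eq_ker_rightHom]; infer_instance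
    · rw [Nat.card_congr (MonoidHom.ofInjective (f := inlH)
        SemidirectProduct.inl_injective).toEquiv.symm]
      exact hodd
    · rw [sq]; change SemidirectProduct.inr _ * SemidirectProduct.inr _ = _
      rw [← map_mul, show ((-1, 1) : ℤˣ × ℤˣ) * (-1, 1) = 1 by decide, map_one]
    · rw [sq]; change SemidirectProduct.inr _ * SemidirectProduct.inr _ = _
      rw [← map_mul, show ((1, -1) : ℤˣ × ℤˣ) * (1, -1) = 1 by decide, map_one]
    · change SemidirectProduct.inr _ * SemidirectProduct.inr _ =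
        SemidirectProduct.inr _ * SemidirectProduct.inr _
      rw [← map_mul, ← map_mul]; simp
    · intro x
      rw [hN, hinr, hinr, hfix, hfix, hela, helb]
      constructor
      · rintro ⟨y, hy, rfl⟩
        have := (hmemC y).1 hy
        exact ⟨rfl, this.2⟩
      · rintro ⟨h1, h2⟩
        exact ⟨x.left, (hmemC _).2 ⟨x.left.2, h2⟩,
          SemidirectProduct.ext rfl h1.symm⟩
    · intro x
      rw [hN]
      simp only [s, t, MonoidHom.comp_apply, hpm, Prod.ext_iff]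
      rfl
    · intro x
      simp only [s, MonoidHom.comp_apply]
      rcases Int.units_eq_one_or ((MonoidHom.fst ℤˣ ℤˣ) (SemidirectProduct.rightHom x)) with h | h <;>
        rw [h] <;> simp [hpm1]
    · intro x
      simp only [t, MonoidHom.comp_apply]
      rcases Int.units_eq_one_or ((MonoidHom.snd ℤˣ ℤˣ) (SemidirectProduct.rightHom x)) with h | h <;>
        rw [h] <;> simp [hpm1]
    all_goals simp [s, t, a', b', hpm1]
  -- a common irreducible character
  intro x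
  refine isConj_one_left.1 ((isConj_iff_irr_eq _ _).2 fun β hβ => ?_)
  let B0 : (Y ⋊[φ] (ℤˣ × ℤˣ)) → ℂ := fun z => if h : (z.left : G) ∈ C then β ((⟨z.left, h⟩ : C) : C ⧸ X) else 0
  let KH : G → Subgroup (Y ⋊[φ] (ℤˣ × ℤˣ)) := fun e => (⁅P e, A⁆.subgroupOf Y).map inlH
  have hdatum : ∀ m n : ℤˣ × ℤˣ, el m ∈ ({a, b, a * b} : Set G) →
      (∀ z : (Y ⋊[φ] (ℤˣ × ℤˣ)), z ∈ CH → z * SemidirectProduct.inr m = SemidirectProduct.inr m * z) →
      ∃ B : (Y ⋊[φ] (ℤˣ × ℤˣ)) → ℂ, Datum inlH.range CH (SemidirectProduct.inr m) (SemidirectProduct.inr n) B0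
        (KH (el m)) B := by
    intro m n he hCm
    obtain ⟨π, hπC, hπK⟩ := hret _ he (hel m)
    have hinv : ∀ (g : G) (hg : g ∈ A) (y : P (el m)) (h : g * (y : G) * g⁻¹ ∈ P (el m)),
        π ⟨g * y * g⁻¹, h⟩ = π y := by
      intro g hg y h
      have h1 := hπK (⟨g * y * g⁻¹, h⟩ * y⁻¹) (conj_sub_mem hg y.2)
      rwa [map_mul, map_inv, mul_inv_eq_one] at h1
    let U := Subgroup.centralizer ({SemidirectProduct.inr m} : Set (Y ⋊[φ] (ℤˣ × ℤˣ)))
    have hUP : ∀ z : U, ((z : (Y ⋊[φ] (ℤˣ × ℤˣ))).left : G) ∈ P (el m) := fun z =>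
      ⟨(z : (Y ⋊[φ] (ℤˣ × ℤˣ))).left.2, mem_centralizer_singleton_iff.2
        ((hfix _ _).1 ((hinr _ _).1 (mem_centralizer_singleton_iff.1 z.2)))⟩
    let pU : U →* C ⧸ X :=
      { toFun := fun z => π ⟨(z : (Y ⋊[φ] (ℤˣ × ℤˣ))).left, hUP z⟩
        map_one' := by
          rw [← map_one π]; congr 1
        map_mul' := fun z w => by
          have hm : el (z : (Y ⋊[φ] (ℤˣ × ℤˣ))).right * ((w : (Y ⋊[φ] (ℤˣ × ℤˣ))).left : G) * (el (z : (Y ⋊[φ] (ℤˣ × ℤˣ))).right)⁻¹ ∈ P (el m) :=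
            (mem_normalizer_iff.1 (fix_normalized hAc hAY (hel m) (hel _)) _).1 (hUP w)
          rw [← hinv _ (hel (z : (Y ⋊[φ] (ℤˣ × ℤˣ))).right) ⟨(w : (Y ⋊[φ] (ℤˣ × ℤˣ))).left, hUP w⟩ hm, ← map_mul]
          congr 1
          exact Subtype.ext (by simp [hφ]) }
    have hpUs : Function.Surjective pU := by
      intro q
      obtain ⟨z, rfl⟩ := QuotientGroup.mk_surjective q
      have hz : inlH ⟨z, (hmemC _).1 z.2 |>.1⟩ ∈ CH := mem_map_of_mem _ (mem_subgroupOf.2 z.2)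
      refine ⟨⟨_, mem_centralizer_singleton_iff.2 (hCm _ hz)⟩, ?_⟩
      exact hπC z _
    let B : (Y ⋊[φ] (ℤˣ × ℤˣ)) → ℂ := fun z => if h : z ∈ U then β (pU ⟨z, h⟩) else 0
    have hB : ∀ z (hz : z ∈ U), B z = β (pU ⟨z, hz⟩) := fun z hz => dif_pos hz
    have hfixU : ∀ z ∈ fixIn inlH.range (SemidirectProduct.inr m : (Y ⋊[φ] (ℤˣ × ℤˣ))),
        z ∈ U := fun z hz => hz.2
    have hshift : ∀ (k : ℤˣ × ℤˣ) z, z ∈ fixIn inlH.range (SemidirectProduct.inr m : (Y ⋊[φ] (ℤˣ × ℤˣ))) →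
        B (SemidirectProduct.inr k * z) = B z := by
      intro k z hz
      have hkU : (SemidirectProduct.inr k : (Y ⋊[φ] (ℤˣ × ℤˣ))) ∈ U := by
        refine mem_centralizer_singleton_iff.2 ?_
        rw [← map_mul, ← map_mul, mul_comm]
      rw [hB _ (U.mul_mem hkU (hfixU z hz)), hB _ (hfixU z hz)]
      congr 1
      have : (⟨_, U.mul_mem hkU (hfixU z hz)⟩ : U) = ⟨_, hkU⟩ * ⟨z, hfixU z hz⟩ := rfl
      rw [this, map_mul]
      have h1 : pU ⟨_, hkU⟩ = 1 := by
        rw [← map_one π]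
        exact congrArg π (Subtype.ext (by simp))
      rw [h1, one_mul]
    refine ⟨B, ⟨?_, ?_, ?_, ?_, ?_, ?_, ?_, ?_⟩⟩
    · have := IsIrrCharacter.comp_surjective hβ pU hpUs
      convert this using 1
      funext z
      exact hB _ z.2
    · exact hshift m
    · exact hshift n
    · intro z hz
      rw [← map_mul]
      exact hshift _ z hz
    · intro z hz
      obtain ⟨y, hy, rfl⟩ := hz
      have hyC : ((inlH y).left : G) ∈ C := mem_subgroupOf.1 hy
      rw [hB _ (mem_centralizer_singleton_iff.2 (hCm _ (mem_map_of_mem _ hy)))]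
      simp only [B0, dif_pos hyC]
      congr 1
      exact hπC ⟨_, hyC⟩ _
    · rintro k ⟨y, hy, rfl⟩
      have hyP : (y : G) ∈ P (el m) :=
        le_normalizer_iff_commutator_le_left.1 (fix_normalized hAc hAY (hel m))
          (mem_subgroupOf.1 hy)
      have hU : inlH y ∈ U := mem_centralizer_singleton_iff.2 ((hinr _ _).2
        ((hfix _ _).2 (mem_centralizer_singleton_iff.1 hyP.2)))
      rw [hB _ hU, hB _ U.one_mem]
      congr 1
      rw [show (⟨1, U.one_mem⟩ : U) = 1 from rfl, map_one]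
      exact hπK _ (mem_subgroupOf.1 hy)
    · rintro k ⟨y, hy, rfl⟩
      have hyP : (y : G) ∈ P (el m) :=
        le_normalizer_iff_commutator_le_left.1 (fix_normalized hAc hAY (hel m))
          (mem_subgroupOf.1 hy)
      exact mem_fixIn.2 ⟨⟨y, rfl⟩, (hinr _ _).2
        ((hfix _ _).2 (mem_centralizer_singleton_iff.1 hyP.2))⟩
    · rintro z ⟨⟨y, rfl⟩, hz⟩
      have hyP : (y : G) ∈ P (el m) := ⟨y.2, mem_centralizer_singleton_iff.2
        ((hfix _ _).1 ((hinr _ _).1 (mem_centralizer_singleton_iff.1 hz)))⟩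
      refine ⟨φ n y * y⁻¹, mem_subgroupOf.2 ?_, ?_⟩
      · change (φ n y : G) * (y : G)⁻¹ ∈ _
        rw [hφ]
        exact conj_sub_mem (hel n) hyP
      · simp only [inlH, map_mul, map_inv, SemidirectProduct.inl_aut]
  have hCm : ∀ m : ℤˣ × ℤˣ, el m ∈ ({a, b, a * b} : Set G) → ∀ z : (Y ⋊[φ] (ℤˣ × ℤˣ)), z ∈ CH →
      z * SemidirectProduct.inr m = SemidirectProduct.inr m * z := by
    rintro m hm z ⟨y, hy, rfl⟩
    refine (hinr _ _).2 ((hfix _ _).2 ?_)
    have := (hCP _ hm (mem_subgroupOf.1 hy)).2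
    exact mem_centralizer_singleton_iff.1 this
  obtain ⟨Ba, da⟩ := hdatum (-1, 1) (1, -1) (by rw [hela]; exact hmema) (hCm _ (by rw [hela]; exact hmema))
  obtain ⟨Bb, db⟩ := hdatum (1, -1) (-1, -1) (by rw [helb]; exact hmemb) (hCm _ (by rw [helb]; exact hmemb))
  obtain ⟨Bc, dc⟩ := hdatum (-1, -1) (-1, 1) (by rw [helc]; exact hmemc) (hCm _ (by rw [helc]; exact hmemc))
  rw [hela] at da
  rw [helb, ← hab'] at db
  rw [helc, ← hab'] at dc
  -- generation
  have hW : ⁅P a, A⁆ ⊔ ⁅P b, A⁆ ⊔ ⁅P (a * b), A⁆ = Y := by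
    set W := ⁅P a, A⁆ ⊔ ⁅P b, A⁆ ⊔ ⁅P (a * b), A⁆
    have hle : ∀ e ∈ A, ⁅P e, A⁆ ≤ P e := fun e he =>
      le_normalizer_iff_commutator_le_left.1 (fix_normalized hAc hAY he)
    have hWY : W ≤ Y := sup_le (sup_le ((hle a ha).trans inf_le_left) ((hle b hb).trans inf_le_left))
      ((hle _ (A.mul_mem ha hb)).trans inf_le_left)
    have hWA : A ≤ normalizer (W : Set G) := fun g hg =>
      normalizer_inf_normalizer_le_normalizer_sup _ _
        ⟨normalizer_inf_normalizer_le_normalizer_sup _ _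
          ⟨normalizer_commutator_ge_right _ _ hg, normalizer_commutator_ge_right _ _ hg⟩,
          normalizer_commutator_ge_right _ _ hg⟩
    set D := Y ⊓ centralizer (A : Set G)
    have hDP : ∀ e ∈ A, D ≤ P e := fun e he x hx =>
      ⟨hx.1, mem_centralizer_singleton_iff.2 (mem_centralizer_iff.1 hx.2 e he).symm⟩
    have hDW : D ≤ normalizer (W : Set G) := fun g hg =>
      normalizer_inf_normalizer_le_normalizer_sup _ _
        ⟨normalizer_inf_normalizer_le_normalizer_sup _ _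
          ⟨normalizer_commutator_ge_left _ _ (hDP a ha hg),
            normalizer_commutator_ge_left _ _ (hDP b hb hg)⟩,
          normalizer_commutator_ge_left _ _ (hDP _ (A.mul_mem ha hb) hg)⟩
    have hPW : ∀ e ∈ A, e ∈ ({a, b, a * b} : Set G) → P e ≤ W ⊔ D := by
      intro e he hmem p hp
      obtain ⟨k, hk, c, hc, rfl⟩ := CoprimeAct.exists_mul_of_mem (fix_normalized hAc hAY he)
        (hcopA e) (Or.inl ‹_›) hp
      refine mul_mem (mem_sup_left ?_) (mem_sup_right ⟨hc.1.1, hc.2⟩)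
      rcases hmem with rfl | rfl | rfl
      · exact mem_sup_left (mem_sup_left hk)
      · exact mem_sup_left (mem_sup_right hk)
      · exact mem_sup_right hk
    have hYWD : Y ≤ W ⊔ D := by
      intro y hy
      have h := ctx.le_sup_fixIn (⟨⟨y, hy⟩, rfl⟩ : inlH ⟨y, hy⟩ ∈ inlH.range)
      have hf : ∀ m, el m ∈ ({a, b, a * b} : Set G) →
          fixIn inlH.range (SemidirectProduct.inr m : (Y ⋊[φ] (ℤˣ × ℤˣ))) ≤ ((W ⊔ D).subgroupOf Y).map inlH := by
        rintro m hm z ⟨⟨w, rfl⟩, hz⟩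
        refine mem_map_of_mem _ (mem_subgroupOf.2 (hPW _ (hel m) hm ⟨w.2, ?_⟩))
        refine mem_centralizer_singleton_iff.2 ?_
        exact (hfix _ _).1 ((hinr _ _).1 (mem_centralizer_singleton_iff.1 hz))
      rw [hab'] at h
      obtain ⟨w, hw, hwe⟩ := (sup_le (sup_le (hf (-1, 1) (by rw [hela]; exact hmema))
        (hf (1, -1) (by rw [helb]; exact hmemb))) (hf (-1, -1) (by rw [helc]; exact hmemc))) h
      obtain rfl := SemidirectProduct.inl_injective hwe
      exact mem_subgroupOf.1 hw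
    refine le_antisymm hWY ?_
    conv_lhs => rw [← hYA]
    rw [commutator_le]
    intro y hy g hg
    have hy' := hYWD hy
    rw [← SetLike.mem_coe, sup_comm, coe_mul_of_left_le_normalizer_right _ _ hDW, Set.mem_mul] at hy'
    obtain ⟨d, hd, w, hw, rfl⟩ := hy'
    have hdg : g * d = d * g := mem_centralizer_iff.1 hd.2 g hg
    have h1 : g * w⁻¹ * g⁻¹ ∈ W := (mem_normalizer_iff.1 (hWA hg) _).1 (inv_mem hw)
    have h2 := (mem_normalizer_iff.1 (hDW hd) _).1 (mul_mem hw h1)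
    convert h2 using 1
    rw [commutatorElement_def, mul_inv_rev]
    have hdg' : d⁻¹ * g⁻¹ = g⁻¹ * d⁻¹ := by
      rw [← mul_inv_rev, ← mul_inv_rev, hdg]
    calc d * w * g * (w⁻¹ * d⁻¹) * g⁻¹ = d * (w * g * w⁻¹) * (d⁻¹ * g⁻¹) := by group
      _ = d * (w * g * w⁻¹) * (g⁻¹ * d⁻¹) := by rw [hdg']
      _ = _ := by group
  have hgen : KH a ⊔ KH b ⊔ KH (a * b) = inlH.range := by
    have hle : ∀ e ∈ A, ⁅P e, A⁆ ≤ Y := fun e he =>
      (le_normalizer_iff_commutator_le_left.1 (fix_normalized hAc hAY he)).trans inf_le_left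
    simp only [KH]
    rw [← Subgroup.map_sup, ← Subgroup.map_sup, ← subgroupOf_sup (hle a ha) (hle b hb),
      ← subgroupOf_sup (sup_le (hle a ha) (hle b hb)) (hle _ (A.mul_mem ha hb)), hW,
      subgroupOf_self, ← MonoidHom.range_eq_map]
  have hfinal := const_on_C ctx da db dc hgen (inlH ⟨x, ((hmemC _).1 x.2).1⟩)
    (mem_map_of_mem _ (mem_subgroupOf.2 x.2))
  have h1 : ((1 : (Y ⋊[φ] (ℤˣ × ℤˣ))).left : G) ∈ C := by simp [C.one_mem]
  have h2 : ((inlH ⟨x, ((hmemC _).1 x.2).1⟩).left : G) ∈ C := x.2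
  simp only [B0, dif_pos h1, dif_pos h2] at hfinal
  have e1 : (⟨((inlH ⟨x, ((hmemC _).1 x.2).1⟩).left : G), h2⟩ : C) = x :=
    Subtype.ext rfl
  have e2 : (⟨((1 : (Y ⋊[φ] (ℤˣ × ℤˣ))).left : G), h1⟩ : C) = 1 := Subtype.ext rfl
  rw [e1, e2] at hfinal
  exact hfinal

end CfsgLib.FourFixed
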