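import Mathlib.GroupTheory.SchurZassenhaus
import Mathlib.GroupTheory.PGroup
import Mathlib.Data.ZMod.Basic
import Mathlib.Algebra.Field.ZMod
import Mathlib.LinearAlgebra.Matrix.NonsingularInverse
import Mathlib.LinearAlgebra.Matrix.Basis
import Mathlib.LinearAlgebra.Matrix.ToLin
import Mathlib.LinearAlgebra.Basis.VectorSpace
import Mathlib.LinearAlgebra.FiniteDimensional.Basic
import Mathlib.Algebra.Ring.GeomSum
import Mathlib.RingTheory.Nilpotent.Basic

/-!
# Lifting coprime linear actions and the rank of fixed spaces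

A representation of a finite group over `ZMod r`, `r` prime to the group order, lifts to `ZMod (r ^ k)`;
the traces of the averaging operators of the lift are the dimensions of the fixed spaces.
-/

set_option autoImplicit false
set_option linter.style.haveILetI false
set_option linter.unusedSectionVars false

namespace CfsgLib.Coprime.Lift

open Matrix

universe u

variable {r : ℕ} [Fact r.Prime] {n k : ℕ}

/-- Reduction of matrices modulo `r`. -/
noncomputable def red (r n k : ℕ) (hk : k ≠ 0) :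
    Matrix (Fin n) (Fin n) (ZMod (r ^ k)) →+* Matrix (Fin n) (Fin n) (ZMod r) :=
  (ZMod.castHom (dvd_pow_self r hk) (ZMod r)).mapMatrix

theorem exists_eq_smul_of_red {hk : k ≠ 0} {X : Matrix (Fin n) (Fin n) (ZMod (r ^ k))}
    (h : red r n k hk X = 0) : ∃ Y : Matrix (Fin n) (Fin n) (ZMod (r ^ k)),
      X = (r : ZMod (r ^ k)) • Y := by
  haveI : NeZero (r ^ k) := ⟨pow_ne_zero _ (Fact.out : r.Prime).ne_zero⟩
  have hdvd : ∀ i j, r ∣ (X i j).val := fun i j => by
    rw [← ZMod.natCast_eq_zero_iff]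
    have := congrFun (congrFun h i) j
    change ZMod.castHom (dvd_pow_self r hk) (ZMod r) (X i j) = 0 at this
    rwa [← ZMod.natCast_zmod_val (X i j), map_natCast] at this
  choose Y hY using hdvd
  refine ⟨Matrix.of fun i j => (Y i j : ZMod (r ^ k)), Matrix.ext fun i j => ?_⟩
  rw [Matrix.smul_apply, Matrix.of_apply, smul_eq_mul, ← Nat.cast_mul, ← hY, ZMod.natCast_zmod_val]

theorem isNilpotent_of_red {hk : k ≠ 0} {X : Matrix (Fin n) (Fin n) (ZMod (r ^ k))}
    (h : red r n k hk X = 0) : IsNilpotent X := by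
  obtain ⟨Y, rfl⟩ := exists_eq_smul_of_red h
  refine ⟨k, ?_⟩
  rw [smul_pow, ← Nat.cast_pow, ZMod.natCast_self, zero_smul]

theorem isUnit_of_red {hk : k ≠ 0} {X : Matrix (Fin n) (Fin n) (ZMod (r ^ k))}
    (h : red r n k hk X = 1) : IsUnit X := by
  have h1 : IsNilpotent (X - 1) := isNilpotent_of_red (hk := hk) (by rw [map_sub, h, map_one, sub_self])
  simpa using h1.isUnit_one_add

theorem exists_unit_lift (hk : k ≠ 0) (x : (Matrix (Fin n) (Fin n) (ZMod r))ˣ) :
    ∃ X : (Matrix (Fin n) (Fin n) (ZMod (r ^ k)))ˣ, red r n k hk X = x := by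
  have hs : Function.Surjective (red r n k hk) := fun M => by
    choose f hf using fun i j => ZMod.castHom_surjective (dvd_pow_self r hk) (M i j)
    exact ⟨Matrix.of f, Matrix.ext fun i j => hf i j⟩
  obtain ⟨X, hX⟩ := hs x
  obtain ⟨X', hX'⟩ := hs (x⁻¹).1
  have h1 : IsUnit (X * X') := isUnit_of_red (hk := hk) (by rw [map_mul, hX, hX', Units.mul_inv])
  have h2 : IsUnit X := by
    rw [Matrix.isUnit_iff_isUnit_det] at h1 ⊢
    rw [Matrix.det_mul] at h1
    exact isUnit_of_mul_isUnit_left h1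
  exact ⟨h2.unit, hX⟩

theorem pow_prime_pow_eq_one {hk : k ≠ 0} {X : Matrix (Fin n) (Fin n) (ZMod (r ^ k))}
    (h : red r n k hk X = 1) : X ^ r ^ k = 1 := by
  have key : ∀ i, ∃ Y : Matrix (Fin n) (Fin n) (ZMod (r ^ k)),
      X ^ r ^ i - 1 = ((r : ZMod (r ^ k)) ^ (i + 1)) • Y := by
    intro i
    induction i with
    | zero => simpa using exists_eq_smul_of_red (hk := hk) (X := X - 1) (by rw [map_sub, h, map_one, sub_self])
    | succ i ih =>
      obtain ⟨Y, hY⟩ := ih
      obtain ⟨Z, hZ⟩ := exists_eq_smul_of_red (hk := hk) (X := ∑ j ∈ Finset.range r, (X ^ r ^ i) ^ j) (by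
        simp only [map_sum, map_pow, h, one_pow, Finset.sum_const, Finset.card_range, nsmul_eq_mul,
          mul_one]
        rw [← Matrix.diagonal_natCast, ZMod.natCast_self, Matrix.diagonal_zero])
      refine ⟨Y * Z, ?_⟩
      rw [pow_succ r, pow_mul, ← mul_geom_sum, hY, hZ, smul_mul_smul_comm, ← pow_succ]
  obtain ⟨Y, hY⟩ := key k
  rw [pow_succ, ← Nat.cast_pow, ZMod.natCast_self, zero_mul, zero_smul, sub_eq_zero] at hY
  exact hY

/-- A coprime representation lifts. -/
theorem exists_rep_lift {A : Type u} [Group A] [Finite A] (hk : k ≠ 0) (hr : ¬ r ∣ Nat.card A)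
    (ρ : A →* (Matrix (Fin n) (Fin n) (ZMod r))ˣ) :
    ∃ σ : A →* (Matrix (Fin n) (Fin n) (ZMod (r ^ k)))ˣ, ∀ a, red r n k hk (σ a) = ρ a := by
  haveI : NeZero (r ^ k) := ⟨pow_ne_zero _ (Fact.out : r.Prime).ne_zero⟩
  let π := Units.map (red r n k hk).toMonoidHom
  let Γ : Subgroup (A × (Matrix (Fin n) (Fin n) (ZMod (r ^ k)))ˣ) :=
    { carrier := {p | π p.2 = ρ p.1}
      one_mem' := by simp
      mul_mem' := fun {p q} hp hq => by
        change π (p.2 * q.2) = ρ (p.1 * q.1); rw [map_mul, map_mul, hp, hq]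
      inv_mem' := fun {p} hp => by
        change π p.2⁻¹ = ρ p.1⁻¹; rw [map_inv, map_inv, hp] }
  let pr : Γ →* A := (MonoidHom.fst _ _).comp Γ.subtype
  have hpr : Function.Surjective pr := fun a => by
    obtain ⟨X, hX⟩ := exists_unit_lift hk (ρ a)
    exact ⟨⟨(a, X), Units.ext hX⟩, rfl⟩
  have hker : IsPGroup r pr.ker := by
    rintro ⟨⟨⟨a, X⟩, hp⟩, ha⟩
    refine ⟨k, Subtype.ext (Subtype.ext (Prod.ext ?_ (Units.ext ?_)))⟩
    · change a ^ r ^ k = 1
      rw [show a = 1 from ha, one_pow]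
    · change Units.val (X ^ r ^ k) = 1
      rw [Units.val_pow_eq_pow_val]
      refine pow_prime_pow_eq_one (hk := hk) ?_
      have h1 : π X = ρ a := hp
      rw [show a = 1 from ha, map_one] at h1
      exact congrArg Units.val h1
  have hidx : pr.ker.index = Nat.card A := by
    rw [Subgroup.index_ker, MonoidHom.range_eq_top.2 hpr, Subgroup.card_top]
  obtain ⟨C, hC⟩ := Subgroup.exists_right_complement'_of_coprime (N := pr.ker) (by
    obtain ⟨j, hj⟩ := IsPGroup.iff_card.1 hker
    rw [hidx, hj]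
    exact Nat.Coprime.pow_left _ ((Fact.out : r.Prime).coprime_iff_not_dvd.2 hr))
  have hbij : Function.Bijective (pr.comp C.subtype) := by
    constructor
    · refine (injective_iff_map_eq_one _).2 fun c hc => Subtype.ext ?_
      exact Subgroup.disjoint_def.1 hC.disjoint hc c.2
    · intro a
      obtain ⟨g, rfl⟩ := hpr a
      obtain ⟨⟨⟨x, hx⟩, c⟩, hxc⟩ := hC.2 g
      exact ⟨c, by rw [← hxc]; simp [show pr x = 1 from hx]⟩
  let e := MulEquiv.ofBijective _ hbij
  refine ⟨((MonoidHom.snd _ _).comp Γ.subtype).comp (C.subtype.comp e.symm.toMonoidHom), fun a => ?_⟩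
  have h1 : pr (e.symm a) = a := e.apply_symm_apply a
  conv_rhs => rw [← h1]
  exact congrArg Units.val ((e.symm a : Γ)).2

/-- Congruent idempotents have the same trace. -/
theorem trace_eq_of_red {hk : k ≠ 0} {P Q : Matrix (Fin n) (Fin n) (ZMod (r ^ k))}
    (hP : P * P = P) (hQ : Q * Q = Q) (h : red r n k hk P = red r n k hk Q) :
    P.trace = Q.trace := by
  set X := P * Q + (1 - P) * (1 - Q) with hX
  have hu : IsUnit X := by
    refine isUnit_of_red (hk := hk) ?_
    have h1 : red r n k hk Q * red r n k hk Q = red r n k hk Q := by rw [← map_mul, hQ]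
    simp only [hX, map_add, map_mul, map_sub, map_one, h]
    rw [mul_sub, mul_one, sub_mul, one_mul, h1]
    abel
  have h1 : P * X = X * Q := by
    simp only [hX, mul_add, add_mul, ← mul_assoc, mul_sub, sub_mul, mul_one, one_mul, hP]
    simp only [mul_assoc, hQ]
    abel
  have h2 : hu.unit.val * Q * hu.unit⁻¹.val = P := by
    rw [IsUnit.unit_spec, ← h1, mul_assoc, IsUnit.mul_val_inv, mul_one]
  rw [← h2, Matrix.trace_units_conj]

/-- The fixed vectors of a set of group elements. -/
def fixSpace {A : Type u} [Group A] (ρ : A →* (Matrix (Fin n) (Fin n) (ZMod r))ˣ) (S : Subgroup A) :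
    Submodule (ZMod r) (Fin n → ZMod r) where
  carrier := {v | ∀ s ∈ S, (ρ s).1 *ᵥ v = v}
  add_mem' := fun {v w} hv hw s hs => by rw [Matrix.mulVec_add, hv s hs, hw s hs]
  zero_mem' := fun s _ => Matrix.mulVec_zero _
  smul_mem' := fun c v hv s hs => by rw [Matrix.mulVec_smul, hv s hs]

/-- The trace of the average of the lift is the dimension of the fixed space. -/
theorem trace_average_lift {A : Type u} [Group A] [Finite A] (hk : k ≠ 0) (hr : ¬ r ∣ Nat.card A)
    (ρ : A →* (Matrix (Fin n) (Fin n) (ZMod r))ˣ)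
    (σ : A →* (Matrix (Fin n) (Fin n) (ZMod (r ^ k)))ˣ) (hσ : ∀ a, red r n k hk (σ a) = ρ a)
    (S : Subgroup A) [Fintype S] :
    (∑ s : S, (σ (s : A)).1.trace) =
      (Nat.card S : ZMod (r ^ k)) * (Module.finrank (ZMod r) (fixSpace ρ S) : ZMod (r ^ k)) := by
  classical
  have hrp : r.Prime := Fact.out
  have hcop : (Nat.card S).Coprime r := (hrp.coprime_iff_not_dvd.2 fun h =>
    hr (h.trans (Subgroup.card_subgroup_dvd_card S))).symm
  obtain ⟨c, hc⟩ : ∃ c : ZMod (r ^ k), c * (Nat.card S : ZMod (r ^ k)) = 1 :=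
    ⟨_, ZMod.inv_mul_of_unit _ ((ZMod.isUnit_iff_coprime _ _).2 (hcop.pow_right k))⟩
  set N₁ := ∑ s : S, (σ (s : A)).1 with hN₁
  set P := c • N₁ with hPdef
  have hsN : ∀ s : S, (σ (s : A)).1 * N₁ = N₁ := fun s => by
    rw [hN₁, Finset.mul_sum]
    refine Fintype.sum_equiv (Equiv.mulLeft s) _ _ fun t => ?_
    rw [Equiv.coe_mulLeft, Subgroup.coe_mul, map_mul, Units.val_mul]
  have hP : P * P = P := by
    have h1 : N₁ * N₁ = (Nat.card S : ZMod (r ^ k)) • N₁ := by
      conv_lhs => arg 1; rw [hN₁]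
      rw [Finset.sum_mul, Finset.sum_congr rfl fun s _ => hsN s, Finset.sum_const, Finset.card_univ,
        ← Nat.card_eq_fintype_card, Nat.cast_smul_eq_nsmul]
    rw [hPdef, smul_mul_smul_comm, h1, smul_smul, mul_assoc, hc, mul_one]
  -- the reduction is a projection onto the fixed space
  set cast := ZMod.castHom (dvd_pow_self r hk) (ZMod r) with hcast
  set Pb := red r n k hk P with hPb
  have hPbsum : Pb = cast c • ∑ s : S, (ρ (s : A)).1 := by
    have h1 : red r n k hk N₁ = ∑ s : S, (ρ (s : A)).1 := by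
      rw [hN₁, map_sum]; exact Finset.sum_congr rfl fun s _ => hσ s
    rw [← h1]
    refine Matrix.ext fun i j => ?_
    exact map_mul cast c (N₁ i j)
  have hfix : ∀ v, Pb *ᵥ v ∈ fixSpace ρ S := by
    intro v s hs
    rw [Matrix.mulVec_mulVec, ← hσ, hPb, ← map_mul, hPdef, mul_smul_comm, hsN ⟨s, hs⟩]
  have hid : ∀ v ∈ fixSpace ρ S, Pb *ᵥ v = v := by
    intro v hv
    rw [hPbsum, Matrix.smul_mulVec, Matrix.sum_mulVec, Finset.sum_congr (rfl : (Finset.univ : Finset S) = _) fun (s : S) _ => hv s s.2,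
      Finset.sum_const, Finset.card_univ, ← Nat.card_eq_fintype_card, ← Nat.cast_smul_eq_nsmul (ZMod r),
      smul_smul]
    have h1 := congrArg cast hc
    rw [map_mul, map_natCast, map_one] at h1
    rw [h1, one_smul]
  -- an adapted basis
  set T := Matrix.toLin' Pb with hT
  have hproj : LinearMap.IsProj (fixSpace ρ S) T :=
    ⟨fun v => by rw [hT, Matrix.toLin'_apply]; exact hfix v,
      fun v hv => by rw [hT, Matrix.toLin'_apply]; exact hid v hv⟩
  set d := Module.finrank (ZMod r) (fixSpace ρ S) with hd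
  set d' := Module.finrank (ZMod r) (LinearMap.ker T) with hd'
  let bf := Module.finBasis (ZMod r) (fixSpace ρ S)
  let bk := Module.finBasis (ZMod r) (LinearMap.ker T)
  let b₀ := (bf.prod bk).map (Submodule.prodEquivOfIsCompl _ _ hproj.isCompl)
  have hcard : d + d' = n := by
    have := Module.finrank_eq_card_basis b₀
    rw [Module.finrank_fin_fun, Fintype.card_sum, Fintype.card_fin, Fintype.card_fin] at this
    exact this.symm
  let ei : Fin d ⊕ Fin d' ≃ Fin n := finSumFinEquiv.trans (finCongr hcard)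
  let b := b₀.reindex ei
  let v : Fin n → ℕ := fun j => Sum.elim (fun _ => 1) (fun _ => 0) (ei.symm j)
  have hb : ∀ j, Pb *ᵥ b j = (v j : ZMod r) • b j := by
    intro j
    obtain ⟨x, rfl⟩ := ei.surjective j
    rw [show b (ei x) = b₀ x by simp [b], show v (ei x) = Sum.elim (fun _ => 1) (fun _ => 0) x by simp [v]]
    rcases x with i | i
    · rw [show b₀ (Sum.inl i) = (bf i : Fin n → ZMod r) by simp [b₀], Sum.elim_inl, Nat.cast_one,
        one_smul, hid _ (bf i).2]
    · rw [show b₀ (Sum.inr i) = (bk i : Fin n → ZMod r) by simp [b₀], Sum.elim_inr, Nat.cast_zero,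
        zero_smul, ← Matrix.toLin'_apply]
      exact (bk i).2
  let Qb := (Pi.basisFun (ZMod r) (Fin n)).toMatrix b
  haveI := (Pi.basisFun (ZMod r) (Fin n)).invertibleToMatrix b
  have hQb : IsUnit Qb := isUnit_of_invertible _
  have hPQ : Pb * Qb = Qb * Matrix.diagonal (fun j => (v j : ZMod r)) := by
    refine Matrix.ext fun i j => ?_
    rw [Matrix.mul_diagonal]
    have h1 := congrFun (hb j) i
    rw [Pi.smul_apply, smul_eq_mul] at h1
    simp only [Qb, Matrix.mul_apply, Module.Basis.toMatrix_apply, Pi.basisFun_repr]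
    rw [mul_comm, ← h1]
    rfl
  obtain ⟨Q, hQ⟩ := exists_unit_lift hk hQb.unit
  set D : Matrix (Fin n) (Fin n) (ZMod (r ^ k)) := Matrix.diagonal fun j => (v j : ZMod (r ^ k)) with hD
  have hDD : D * D = D := by
    rw [hD, Matrix.diagonal_mul_diagonal]
    congr 1
    funext j
    simp only [v]
    rcases ei.symm j with i | i <;> simp
  have hredD : red r n k hk D = Matrix.diagonal (fun j => (v j : ZMod r)) := by
    refine Matrix.ext fun i j => ?_
    change cast (D i j) = _
    rw [hD, Matrix.diagonal_apply, Matrix.diagonal_apply]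
    split <;> simp
  have htr := trace_eq_of_red (hk := hk) (P := P) (Q := Q.1 * D * Q⁻¹.1) hP
    (by
      rw [show Q.1 * D * Q⁻¹.1 * (Q.1 * D * Q⁻¹.1) = Q.1 * (D * D) * Q⁻¹.1 by
        simp [mul_assoc], hDD])
    (by
      have h1 : Pb * red r n k hk Q.1 = red r n k hk Q.1 * red r n k hk D := by
        rw [hQ, hredD]; exact hPQ
      rw [map_mul, map_mul, ← h1, mul_assoc, ← map_mul (red r n k hk) Q.1, Units.mul_inv, map_one,
        mul_one])
  rw [Matrix.trace_units_conj, hD, Matrix.trace_diagonal, hPdef, Matrix.trace_smul, smul_eq_mul] at htr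
  have hsum : ∑ j, (v j : ZMod (r ^ k)) = (d : ZMod (r ^ k)) := by
    rw [← Equiv.sum_comp ei]
    simp [v, Fintype.sum_sum_type]
  rw [hsum, hN₁, Matrix.trace_sum] at htr
  rw [← htr, ← mul_assoc, mul_comm _ c, hc, one_mul]

end CfsgLib.Coprime.Lift
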