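import Cfsg.Agent.Coprime.Sylow
import Mathlib.GroupTheory.SpecificGroups.ZGroup

/-!
Coprime action on a finite Z-group: `G = [G,A] C_G(A)` with `[G,A]` cyclic, normal, meeting
`C_G(A)` trivially, and both Hall subgroups.
-/

set_option autoImplicit false
set_option linter.unusedSectionVars false

namespace CfsgLib.Coprime

variable {G A : Type*} [Group G] [Finite G] [Group A] [Finite A] [MulDistribMulAction A G]
  [IsZGroup G]

theorem subgroup_eq_of_natCard_eq {B : Type*} [Group B] [Finite B] [IsCyclic B] {H K : Subgroup B}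
    (h : Nat.card H = Nat.card K) : H = K := by
  classical
  have := Fintype.ofFinite B
  set n := Nat.card H with hn
  let T : Finset B := Finset.univ.filter fun x => x ^ n = 1
  have hT : T.card ≤ n := IsCyclic.card_pow_eq_one_le Nat.card_pos
  have key : ∀ M : Subgroup B, Nat.card M = n → ∀ x ∈ T, x ∈ M := by
    intro M hM
    have hsub : (Finset.univ.filter fun x => x ∈ M) ⊆ T := fun x hx => by
      simp only [T, Finset.mem_filter, Finset.mem_univ, true_and] at hx ⊢
      rw [← hM]
      exact congrArg Subtype.val (pow_card_eq_one' (x := (⟨x, hx⟩ : M)))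
    have heq := Finset.eq_of_subset_of_card_le hsub (by
      refine hT.trans (le_of_eq ?_)
      rw [← hM, Nat.card_eq_fintype_card, Fintype.card_subtype])
    intro x hx
    rw [← heq] at hx
    exact (Finset.mem_filter.1 hx).2
  have hmem : ∀ M : Subgroup B, Nat.card M = n → ∀ x ∈ M, x ∈ T := fun M hM x hx => by
    simp only [T, Finset.mem_filter, Finset.mem_univ, true_and]
    rw [← hM]
    exact congrArg Subtype.val (pow_card_eq_one' (x := (⟨x, hx⟩ : M)))
  exact le_antisymm (fun x hx => key K h.symm x (hmem H rfl x hx))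
    fun x hx => key H rfl x (hmem K h.symm x hx)

theorem conj_smul_eq_conj_of_mem_commutator (a : A) (g k : G) (hk : k ∈ commutator G) :
    (a • g) * k * (a • g)⁻¹ = g * k * g⁻¹ := by
  have := IsZGroup.isCyclic_commutator G
  obtain ⟨i, hi⟩ := MonoidHom.map_cyclic
    ((MulAut.conjNormal g : MulAut (commutator G)).toMonoidHom)
  have hpow : ∀ y ∈ commutator G, g * y * g⁻¹ = y ^ i := fun y hy =>
    congrArg Subtype.val (hi ⟨y, hy⟩)
  have hk' : a⁻¹ • k ∈ commutator G :=
    (Subgroup.characteristic_iff_comap_eq.1 (inferInstance : (commutator G).Characteristic)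
      (MulDistribMulAction.toMulEquiv G a⁻¹)).symm.le hk
  calc (a • g) * k * (a • g)⁻¹ = (a • g) * (a • (a⁻¹ • k)) * (a • g)⁻¹ := by rw [smul_inv_smul]
    _ = a • (g * (a⁻¹ • k) * g⁻¹) := by rw [smul_mul', smul_mul', smul_inv']
    _ = k ^ i := by
      rw [hpow _ hk', ← MulDistribMulAction.toMulEquiv_apply, map_zpow,
        MulDistribMulAction.toMulEquiv_apply, smul_inv_smul]
    _ = g * k * g⁻¹ := (hpow k hk).symm

theorem isCyclic_actCommutator : IsCyclic (actCommutator G A) := by
  set C := Subgroup.centralizer ((commutator G : Subgroup G) : Set G) with hC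
  have hle : actCommutator G A ≤ C := by
    rw [actCommutator_le_iff]
    intro a g
    rw [hC, Subgroup.mem_centralizer_iff]
    intro k hk
    have h := conj_smul_eq_conj_of_mem_commutator a g k hk
    calc k * (g⁻¹ * a • g) = g⁻¹ * (g * k * g⁻¹) * (a • g) := by group
      _ = g⁻¹ * a • g * k := by rw [← h]; group
  have hcc : commutator C ≤ Subgroup.center C := by
    rw [_root_.commutator_def, Subgroup.commutator_le]
    intro x _ y _
    refine Subgroup.mem_center_iff.2 fun z => Subtype.ext ?_
    have hm : (x : G) * y * (x : G)⁻¹ * (y : G)⁻¹ ∈ commutator G :=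
      Subgroup.commutator_mem_commutator (Subgroup.mem_top (x : G)) (Subgroup.mem_top (y : G))
    exact (Subgroup.mem_centralizer_iff.1 z.2 _ hm).symm
  have : Group.IsNilpotent C := by
    refine ⟨⟨2, eq_top_iff.2 fun x _ => ?_⟩⟩
    rw [Subgroup.mem_upperCentralSeries_succ_iff]
    intro y
    rw [Subgroup.upperCentralSeries_one]
    exact hcc (Subgroup.commutator_mem_commutator (Subgroup.mem_top x) (Subgroup.mem_top y))
  have : IsCyclic C := inferInstance
  exact Subgroup.isCyclic_of_le hle

theorem eq_one_of_mem_actCommutator_of_fixed_zgroup (hcop : (Nat.card A).Coprime (Nat.card G))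
    {x : G} (hx : x ∈ actCommutator G A) (hfix : ∀ a : A, a • x = x) : x = 1 := by
  classical
  set L := actCommutator G A with hL
  have hcyc : IsCyclic L := isCyclic_actCommutator
  let _ : CommGroup L := IsCyclic.commGroup
  let _ : MulDistribMulAction A L :=
    { smul := fun a u => ⟨a • (u : G), isInvariant_actCommutator (G := G) a _ u.2⟩
      one_smul := fun u => Subtype.ext (one_smul A (u : G))
      mul_smul := fun a b u => Subtype.ext (mul_smul a b (u : G))
      smul_mul := fun a u v => Subtype.ext (smul_mul' a (u : G) v)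
      smul_one := fun a => Subtype.ext (smul_one a) }
  have hgen : actCommutator G A ≤ (actCommutator L A).map L.subtype := by
    rw [actCommutator_le_iff]
    intro a g
    obtain ⟨c, hc, hcg⟩ := exists_fixed_mem_coset_of_isSolvable' (A := A) L isInvariant_actCommutator
      (hcop.coprime_dvd_right (Subgroup.card_subgroup_dvd_card _)) g
      (fun b => inv_mul_smul_mem_actCommutator b g)
    have hy : c⁻¹ * g ∈ L := by
      have := inv_mem hcg
      rwa [mul_inv_rev, inv_inv] at this
    refine ⟨⟨_, hy⟩⁻¹ * a • ⟨_, hy⟩, inv_mul_smul_mem_actCommutator _ _, ?_⟩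
    show (c⁻¹ * g)⁻¹ * a • (c⁻¹ * g) = g⁻¹ * a • g
    rw [smul_mul', smul_inv', hc a]
    group
  obtain ⟨z, hz, rfl⟩ := hgen hx
  have := eq_one_of_mem_actCommutator_of_fixed (G := L)
    (hcop.coprime_dvd_right (Subgroup.card_subgroup_dvd_card _)) hz
    (fun a => Subtype.ext (hfix a))
  rw [this, map_one]

/-- The structure of a coprime action on a Z-group. -/
theorem zgroup_action (hcop : (Nat.card A).Coprime (Nat.card G)) :
    (Nat.card (FixedPoints.subgroup A G)).Coprime (FixedPoints.subgroup A G).index ∧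
      IsCyclic (actCommutator G A) ∧ FixedPoints.subgroup A G ⊓ actCommutator G A = ⊥ ∧
      FixedPoints.subgroup A G ⊔ actCommutator G A = ⊤ ∧
      (Nat.card (actCommutator G A)).Coprime (Nat.card (FixedPoints.subgroup A G)) := by
  set C := FixedPoints.subgroup A G with hC
  set L := actCommutator G A with hL
  have hfix : ∀ x : G, x ∈ C ↔ ∀ a : A, a • x = x := fun x => Iff.rfl
  have hinf : C ⊓ L = ⊥ := by
    refine eq_bot_iff.2 fun x hx => ?_
    exact eq_one_of_mem_actCommutator_of_fixed_zgroup hcop hx.2 ((hfix x).1 hx.1)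
  have hsup : C ⊔ L = ⊤ := by
    refine eq_top_iff.2 fun g _ => ?_
    obtain ⟨c, hc, hcg⟩ := exists_fixed_mem_coset_of_isSolvable' (A := A) L isInvariant_actCommutator
      (hcop.coprime_dvd_right (Subgroup.card_subgroup_dvd_card _)) g
      (fun b => inv_mul_smul_mem_actCommutator b g)
    rw [← mul_inv_cancel_left c g]
    refine mul_mem (Subgroup.mem_sup_left ((hfix c).2 hc)) (Subgroup.mem_sup_right ?_)
    have := inv_mem hcg
    rwa [mul_inv_rev, inv_inv] at this
  have hcy : IsCyclic L := isCyclic_actCommutator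
  have hco : (Nat.card L).Coprime (Nat.card C) := by
    refine Nat.coprime_of_dvd fun p hp hpL hpC => ?_
    have := Fact.mk hp
    obtain ⟨l, hl⟩ := exists_prime_orderOf_dvd_card' p hpL
    obtain ⟨c, hc⟩ := exists_prime_orderOf_dvd_card' p hpC
    have hl1 : (l : G) ≠ 1 := fun h => hp.ne_one (by
      rw [← hl, Subtype.ext (a2 := (1 : L)) h, orderOf_one])
    set Z := Subgroup.zpowers (l : G) with hZ
    have hnorm : (c : G) ∈ Subgroup.normalizer (Z : Set G) := by
      have hZn : ∀ y : G, ∀ z ∈ Z, y * z * y⁻¹ ∈ Z := by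
        intro y z hz
        have hm : y * z * y⁻¹ ∈ L := actCommutator_normal.conj_mem z
          (Subgroup.zpowers_le.2 l.2 hz) y
        have hzp : (y * z * y⁻¹) ^ p = 1 := by
          obtain ⟨i, rfl⟩ := hz
          rw [conj_pow, ← zpow_natCast, ← zpow_mul, mul_comm, zpow_mul, zpow_natCast,
            show (l : G) ^ p = 1 from by rw [← hl, ← Subgroup.coe_pow, pow_orderOf_eq_one]; rfl,
            one_zpow, mul_one, mul_inv_cancel]
        have hle : Subgroup.zpowers (⟨_, hm⟩ : L) ≤ Subgroup.zpowers l := by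
          rcases hp.eq_one_or_self_of_dvd _ (orderOf_dvd_of_pow_eq_one
            (show (⟨_, hm⟩ : L) ^ p = 1 from Subtype.ext hzp)) with h | h
          · rw [orderOf_eq_one_iff.1 h, Subgroup.zpowers_one_eq_bot]; exact bot_le
          · exact le_of_eq (subgroup_eq_of_natCard_eq
              (by rw [Nat.card_zpowers, Nat.card_zpowers, h, hl]))
        obtain ⟨i, hi⟩ := hle (Subgroup.mem_zpowers _)
        exact ⟨i, congrArg Subtype.val hi⟩
      refine Subgroup.mem_normalizer_iff.2 fun z => ⟨hZn c z, fun h => ?_⟩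
      have := hZn (c : G)⁻¹ _ h
      simpa [mul_assoc] using this
    have hcp : IsPGroup p (Subgroup.zpowers (c : G)) :=
      IsPGroup.of_card (n := 1) (by rw [Nat.card_zpowers, pow_one, Subgroup.orderOf_coe, hc])
    have hlp : IsPGroup p Z :=
      IsPGroup.of_card (n := 1) (by rw [hZ, Nat.card_zpowers, pow_one, Subgroup.orderOf_coe, hl])
    obtain ⟨P, hP⟩ := (hcp.to_sup_of_normal_right' hlp (Subgroup.zpowers_le.2 hnorm)).exists_le_sylow
    have : IsCyclic (P : Subgroup G) := inferInstance
    have heq : (Subgroup.zpowers (c : G)).subgroupOf (P : Subgroup G) = Z.subgroupOf (P : Subgroup G) := by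
      refine subgroup_eq_of_natCard_eq ?_
      rw [Nat.card_congr (Subgroup.subgroupOfEquivOfLe (le_sup_left.trans hP)).toEquiv,
        Nat.card_congr (Subgroup.subgroupOfEquivOfLe (le_sup_right.trans hP)).toEquiv,
        Nat.card_zpowers, hZ, Nat.card_zpowers, Subgroup.orderOf_coe, Subgroup.orderOf_coe, hl, hc]
    have hlc : (l : G) ∈ Subgroup.zpowers (c : G) := by
      have hlP : (l : G) ∈ (P : Subgroup G) := hP (Subgroup.mem_sup_right (Subgroup.mem_zpowers _))
      exact heq.symm.le (show (⟨l, hlP⟩ : (P : Subgroup G)) ∈ Z.subgroupOf (P : Subgroup G) from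
        Subgroup.mem_zpowers _)
    exact hl1 (Subgroup.mem_bot.1 (hinf.le ⟨Subgroup.zpowers_le.2 c.2 hlc, l.2⟩))
  refine ⟨?_, hcy, hinf, hsup, hco⟩
  have hidx : C.index ∣ Nat.card L := by
    have h1 := Subgroup.relIndex_sup_right (H := C) (K := L)
    rw [hsup, Subgroup.relIndex_top_right] at h1
    have h2 : L.relIndex C = Nat.card C := by
      rw [Subgroup.relIndex, Subgroup.subgroupOf_eq_bot.2 (disjoint_iff.2 (inf_comm C L ▸ hinf)),
        Subgroup.index_bot]
    have h3 := C.index_mul_card
    rw [← L.index_mul_card, h1, h2, mul_comm (Nat.card C)] at h3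
    exact ⟨1, by rw [mul_one]; exact (Nat.eq_of_mul_eq_mul_right Nat.card_pos h3).symm⟩
  exact hco.symm.coprime_dvd_right hidx

end CfsgLib.Coprime
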